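import Mathlib
import Cfsg.Agent.CtRecM.OmR1

set_option autoImplicit false
set_option linter.unusedSectionVars false
set_option linter.unusedVariables false

/-!
# S2110, piece T0 (helper9): the abstract system of relations of `³D₄(q)` used in the counting theorem

Roots of `G₂` are indexed by `ZMod 12` (angle in units of 30°): `0 = a`, `1 = 3a+b`, `2 = 2a+b`, `3 = 3a+2b`, `4 = a+b`, `5 = b`,
`i + 6 = -(root i)`; even = short, odd = long; `s_a : i ↦ 6 - i`, `s_b : i ↦ 4 - i`.  See `notes/S2110_plan.md`.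
-/

namespace Cfsg.Agent.CtRecT

open Cfsg.Agent.CtRecM

variable {K : Type*} [Field K]

/-- the fixed field of the automorphism `f`. -/
abbrev fixF (f : K ≃+* K) : Subfield K := (f : K →+* K).eqLocusField (RingHom.id K)

theorem mem_fixF (f : K ≃+* K) (t : K) : t ∈ fixF f ↔ f t = t := Iff.rfl

/-- The relations of `³D₄(q)`: twelve root subgroups, the rank one systems of `±a` (over `K`) and `±b` (over the fixed field), the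
commutator relations and the Weyl relations at the level of membership, the action of the torus on the simple root elements, and the
braid relation in the form `n_{babab} w_a(1) n_{babab}⁻¹ = w_a(c)`. -/
structure TSys (f : K ≃+* K) (Γ : Type*) [Group Γ] where
  /-- the twelve root subgroups -/
  X : ZMod 12 → Subgroup Γ
  /-- the rank one system of `±a` -/
  Ra : Rk1 K Γ
  /-- the rank one system of `±b` -/
  Rb : Rk1 (fixF f) Γ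
  X0 : ∀ g, g ∈ X 0 ↔ ∃ t, g = Ra.xp t
  X6 : ∀ g, g ∈ X 6 ↔ ∃ t, g = Ra.xm t
  X5 : ∀ g, g ∈ X 5 ↔ ∃ t, g = Rb.xp t
  X11 : ∀ g, g ∈ X 11 ↔ ∃ t, g = Rb.xm t
  comm : ∀ i j : ℕ, i < j → j < 6 → ∀ g ∈ X (i : ZMod 12), ∀ h ∈ X (j : ZMod 12),
    g * h * g⁻¹ * h⁻¹ ∈ ⨆ m ∈ Finset.Ioo i j, X ((m : ℕ) : ZMod 12)
  weyl_a : ∀ t : K, t ≠ 0 → ∀ i, ∀ g ∈ X i, Ra.w t * g * (Ra.w t)⁻¹ ∈ X (6 - i)
  weyl_b : ∀ t : fixF f, t ≠ 0 → ∀ i, ∀ g ∈ X i, Rb.w t * g * (Rb.w t)⁻¹ ∈ X (4 - i)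
  tor_ab : ∀ t : K, t ≠ 0 → ∃ c : fixF f, c ≠ 0 ∧ ∀ u,
    Ra.h t * Rb.xp u * (Ra.h t)⁻¹ = Rb.xp (c * u) ∧ Ra.h t * Rb.xm u * (Ra.h t)⁻¹ = Rb.xm (c⁻¹ * u)
  tor_ba : ∀ t : fixF f, t ≠ 0 → ∃ c : K, c ≠ 0 ∧ ∀ u,
    Rb.h t * Ra.xp u * (Rb.h t)⁻¹ = Ra.xp (c * u) ∧ Rb.h t * Ra.xm u * (Rb.h t)⁻¹ = Ra.xm (c⁻¹ * u)
  braid : ∃ c : K, c ≠ 0 ∧
    (Rb.w 1 * Ra.w 1 * Rb.w 1 * Ra.w 1 * Rb.w 1) * Ra.xp 1 * (Rb.w 1 * Ra.w 1 * Rb.w 1 * Ra.w 1 * Rb.w 1)⁻¹ = Ra.xp c ∧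
    (Rb.w 1 * Ra.w 1 * Rb.w 1 * Ra.w 1 * Rb.w 1) * Ra.xm (-1) * (Rb.w 1 * Ra.w 1 * Rb.w 1 * Ra.w 1 * Rb.w 1)⁻¹ =
      Ra.xm (-c⁻¹)

namespace TSys

variable {f : K ≃+* K} {Γ : Type*} [Group Γ] (S : TSys f Γ)

/-- the Weyl element of `a`. -/
def na : Γ := S.Ra.w 1

/-- the Weyl element of `b`. -/
def nb : Γ := S.Rb.w 1

/-- the positive unipotent subgroup. -/
def U : Subgroup Γ := ⨆ m ∈ Finset.Ico 0 6, S.X ((m : ℕ) : ZMod 12)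

/-- the positive root groups except `a`. -/
def Ua : Subgroup Γ := ⨆ m ∈ Finset.Ico 1 6, S.X ((m : ℕ) : ZMod 12)

/-- the positive root groups except `b`. -/
def Ub : Subgroup Γ := ⨆ m ∈ Finset.Ico 0 5, S.X ((m : ℕ) : ZMod 12)

/-- the torus. -/
def Hs : Subgroup Γ :=
  Subgroup.closure ({g | ∃ t : K, t ≠ 0 ∧ g = S.Ra.h t} ∪ {g | ∃ u : fixF f, u ≠ 0 ∧ g = S.Rb.h u})

/-- the Borel subgroup. -/
def Bs : Subgroup Γ := S.U ⊔ S.Hs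

/-- the subgroup generated by all root subgroups. -/
def top : Subgroup Γ := ⨆ i, S.X i

theorem X_le_top (i : ZMod 12) : S.X i ≤ S.top := le_iSup S.X i

theorem xp_a_mem (t : K) : S.Ra.xp t ∈ S.X 0 := (S.X0 _).mpr ⟨t, rfl⟩
theorem xm_a_mem (t : K) : S.Ra.xm t ∈ S.X 6 := (S.X6 _).mpr ⟨t, rfl⟩
theorem xp_b_mem (t : fixF f) : S.Rb.xp t ∈ S.X 5 := (S.X5 _).mpr ⟨t, rfl⟩
theorem xm_b_mem (t : fixF f) : S.Rb.xm t ∈ S.X 11 := (S.X11 _).mpr ⟨t, rfl⟩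

theorem w_a_mem_top (t : K) : S.Ra.w t ∈ S.top := by
  unfold Rk1.w
  exact S.top.mul_mem (S.top.mul_mem (S.X_le_top 0 (S.xp_a_mem t)) (S.X_le_top 6 (S.xm_a_mem _)))
    (S.X_le_top 0 (S.xp_a_mem t))

theorem w_b_mem_top (t : fixF f) : S.Rb.w t ∈ S.top := by
  unfold Rk1.w
  exact S.top.mul_mem (S.top.mul_mem (S.X_le_top 5 (S.xp_b_mem t)) (S.X_le_top 11 (S.xm_b_mem _)))
    (S.X_le_top 5 (S.xp_b_mem t))

theorem na_mem_top : S.na ∈ S.top := S.w_a_mem_top 1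
theorem nb_mem_top : S.nb ∈ S.top := S.w_b_mem_top 1

theorem h_a_mem_top (t : K) : S.Ra.h t ∈ S.top := S.top.mul_mem (S.w_a_mem_top t) (S.w_a_mem_top _)
theorem h_b_mem_top (t : fixF f) : S.Rb.h t ∈ S.top := S.top.mul_mem (S.w_b_mem_top t) (S.w_b_mem_top _)

theorem Hs_le_top : S.Hs ≤ S.top := by
  unfold Hs
  rw [Subgroup.closure_le]
  rintro g (⟨t, _, rfl⟩ | ⟨u, _, rfl⟩)
  · exact S.h_a_mem_top t
  · exact S.h_b_mem_top u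

theorem U_le_top : S.U ≤ S.top := by
  unfold U
  exact iSup_le fun m => iSup_le fun _ => S.X_le_top _

theorem Bs_le_top : S.Bs ≤ S.top := sup_le S.U_le_top S.Hs_le_top

theorem X_le_U {m : ℕ} (hm : m < 6) : S.X ((m : ℕ) : ZMod 12) ≤ S.U := by
  unfold U
  exact le_iSup₂_of_le m (Finset.mem_Ico.mpr ⟨Nat.zero_le _, hm⟩) le_rfl

theorem h_a_mem_Hs {t : K} (ht : t ≠ 0) : S.Ra.h t ∈ S.Hs :=
  Subgroup.subset_closure (Or.inl ⟨t, ht, rfl⟩)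

theorem h_b_mem_Hs {u : fixF f} (hu : u ≠ 0) : S.Rb.h u ∈ S.Hs :=
  Subgroup.subset_closure (Or.inr ⟨u, hu, rfl⟩)

end TSys

end Cfsg.Agent.CtRecT
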