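import Mathlib
import Cfsg.Agent.CtRecT.TDefs

set_option autoImplicit false
set_option linter.unusedSectionVars false
set_option linter.unusedVariables false

/-!
# S2110, Part II (helper9): the abstract data of the `BN`-closure argument

`TTor f Γ`: the two rank one systems `±a` (over `K`), `±b` (over the fixed field of `f`), the action of the torus elements of one on
the root elements of the other, and the braid relation in the form `n_{babab} w_a(1) n_{babab}⁻¹ = w_a(c)` (stated on `x_a(1)` and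
`x_{-a}(-1)` separately: these are relations between `p`-elements).  `BNDat f G` adds what the closure argument `G = B N B` and the
uniqueness `Z ∩ B N B = 1` use downstairs: `U = U_c X_c`, `n_c U_c n_c⁻¹ ≤ U`, the dichotomy for the elements of `N`, `B ∩ N ≤ H`,
`U ∩ H = 1`, injectivity of `(t, u) ↦ h_a(t) h_b(u)` and the twelve cosets of `H` in `N`.  See `notes/S2110_plan.md` (v2).
-/

namespace Cfsg.Agent.CtRecT

open Cfsg.Agent.CtRecM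

variable {K : Type*} [Field K]

/-- the two rank one systems, the mixed torus actions and the braid relation. -/
structure TTor (f : K ≃+* K) (Γ : Type*) [Group Γ] where
  /-- the rank one system of `±a` -/
  Ra : Rk1 K Γ
  /-- the rank one system of `±b` -/
  Rb : Rk1 (fixF f) Γ
  tor_ab : ∀ t : K, t ≠ 0 → ∃ c : fixF f, c ≠ 0 ∧ ∀ u,
    Ra.h t * Rb.xp u * (Ra.h t)⁻¹ = Rb.xp (c * u) ∧ Ra.h t * Rb.xm u * (Ra.h t)⁻¹ = Rb.xm (c⁻¹ * u)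
  tor_ba : ∀ t : fixF f, t ≠ 0 → ∃ c : K, c ≠ 0 ∧ ∀ u,
    Rb.h t * Ra.xp u * (Rb.h t)⁻¹ = Ra.xp (c * u) ∧ Rb.h t * Ra.xm u * (Rb.h t)⁻¹ = Ra.xm (c⁻¹ * u)
  braid : ∃ c : K, c ≠ 0 ∧
    (Rb.w 1 * Ra.w 1 * Rb.w 1 * Ra.w 1 * Rb.w 1) * Ra.xp 1 * (Rb.w 1 * Ra.w 1 * Rb.w 1 * Ra.w 1 * Rb.w 1)⁻¹ = Ra.xp c ∧
    (Rb.w 1 * Ra.w 1 * Rb.w 1 * Ra.w 1 * Rb.w 1) * Ra.xm (-1) * (Rb.w 1 * Ra.w 1 * Rb.w 1 * Ra.w 1 * Rb.w 1)⁻¹ =
      Ra.xm (-c⁻¹)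

namespace TTor

variable {f : K ≃+* K} {Γ : Type*} [Group Γ] (T : TTor f Γ)

/-- the Weyl element of `a`. -/
def na : Γ := T.Ra.w 1

/-- the Weyl element of `b`. -/
def nb : Γ := T.Rb.w 1

/-- the torus. -/
def Hs : Subgroup Γ :=
  Subgroup.closure ({g | ∃ t : K, t ≠ 0 ∧ g = T.Ra.h t} ∪ {g | ∃ u : fixF f, u ≠ 0 ∧ g = T.Rb.h u})

/-- the group `N`. -/
def Ns : Subgroup Γ := Subgroup.closure ((T.Hs : Set Γ) ∪ {T.na, T.nb})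

/-- the subgroup generated by the four root groups `±a`, `±b`. -/
def gen : Subgroup Γ :=
  Subgroup.closure (Set.range T.Ra.xp ∪ Set.range T.Ra.xm ∪ Set.range T.Rb.xp ∪ Set.range T.Rb.xm)

theorem h_a_mem_Hs {t : K} (ht : t ≠ 0) : T.Ra.h t ∈ T.Hs :=
  Subgroup.subset_closure (Or.inl ⟨t, ht, rfl⟩)

theorem h_b_mem_Hs {u : fixF f} (hu : u ≠ 0) : T.Rb.h u ∈ T.Hs :=
  Subgroup.subset_closure (Or.inr ⟨u, hu, rfl⟩)

theorem Hs_le_Ns : T.Hs ≤ T.Ns := fun g hg => Subgroup.subset_closure (Or.inl hg)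

theorem na_mem_Ns : T.na ∈ T.Ns := Subgroup.subset_closure (Or.inr (Or.inl rfl))

theorem nb_mem_Ns : T.nb ∈ T.Ns := Subgroup.subset_closure (Or.inr (Or.inr rfl))

theorem xp_a_mem_gen (t : K) : T.Ra.xp t ∈ T.gen :=
  Subgroup.subset_closure (Or.inl (Or.inl (Or.inl ⟨t, rfl⟩)))

theorem xm_a_mem_gen (t : K) : T.Ra.xm t ∈ T.gen :=
  Subgroup.subset_closure (Or.inl (Or.inl (Or.inr ⟨t, rfl⟩)))

theorem xp_b_mem_gen (t : fixF f) : T.Rb.xp t ∈ T.gen :=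
  Subgroup.subset_closure (Or.inl (Or.inr ⟨t, rfl⟩))

theorem xm_b_mem_gen (t : fixF f) : T.Rb.xm t ∈ T.gen :=
  Subgroup.subset_closure (Or.inr ⟨t, rfl⟩)

theorem w_a_mem_gen (t : K) : T.Ra.w t ∈ T.gen :=
  T.gen.mul_mem (T.gen.mul_mem (T.xp_a_mem_gen t) (T.xm_a_mem_gen _)) (T.xp_a_mem_gen t)

theorem w_b_mem_gen (t : fixF f) : T.Rb.w t ∈ T.gen :=
  T.gen.mul_mem (T.gen.mul_mem (T.xp_b_mem_gen t) (T.xm_b_mem_gen _)) (T.xp_b_mem_gen t)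

theorem Hs_le_gen : T.Hs ≤ T.gen := by
  unfold Hs
  rw [Subgroup.closure_le]
  rintro g (⟨t, _, rfl⟩ | ⟨u, _, rfl⟩)
  · exact T.gen.mul_mem (T.w_a_mem_gen t) (T.w_a_mem_gen _)
  · exact T.gen.mul_mem (T.w_b_mem_gen u) (T.w_b_mem_gen _)

theorem Ns_le_gen : T.Ns ≤ T.gen := by
  unfold Ns
  rw [Subgroup.closure_le]
  rintro g (hg | hg | hg)
  · exact T.Hs_le_gen hg
  · rw [hg]; exact T.w_a_mem_gen 1
  · rw [Set.mem_singleton_iff] at hg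
    rw [hg]; exact T.w_b_mem_gen 1

end TTor

/-- the data of the `BN`-closure argument. -/
structure BNDat (f : K ≃+* K) (G : Type*) [Group G] extends TTor f G where
  /-- the unipotent group -/
  U : Subgroup G
  /-- the complement of `X_a` in `U` -/
  Ua : Subgroup G
  /-- the complement of `X_b` in `U` -/
  Ub : Subgroup G
  xa_mem : ∀ t, Ra.xp t ∈ U
  xb_mem : ∀ t, Rb.xp t ∈ U
  Ua_le : Ua ≤ U
  Ub_le : Ub ≤ U
  dec_a : ∀ u ∈ U, ∃ v ∈ Ua, ∃ t, u = v * Ra.xp t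
  dec_b : ∀ u ∈ U, ∃ v ∈ Ub, ∃ t, u = v * Rb.xp t
  na_Ua : ∀ v ∈ Ua, toTTor.na * v * toTTor.na⁻¹ ∈ U
  nb_Ub : ∀ v ∈ Ub, toTTor.nb * v * toTTor.nb⁻¹ ∈ U
  H_U : ∀ h ∈ toTTor.Hs, ∀ u ∈ U, h * u * h⁻¹ ∈ U
  dich_a : ∀ n ∈ toTTor.Ns, (∀ t, n⁻¹ * Ra.xp t * n ∈ U) ∨
    (∀ t, (toTTor.na⁻¹ * n)⁻¹ * Ra.xp t * (toTTor.na⁻¹ * n) ∈ U)
  dich_b : ∀ n ∈ toTTor.Ns, (∀ t, n⁻¹ * Rb.xp t * n ∈ U) ∨
    (∀ t, (toTTor.nb⁻¹ * n)⁻¹ * Rb.xp t * (toTTor.nb⁻¹ * n) ∈ U)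
  U_inf_H : ∀ u ∈ U, u ∈ toTTor.Hs → u = 1
  B_inf_N : ∀ u ∈ U, ∀ h ∈ toTTor.Hs, u * h ∈ toTTor.Ns → u = 1
  H_inj : ∀ t : K, t ≠ 0 → ∀ u : fixF f, u ≠ 0 → Ra.h t * Rb.h u = 1 → t = 1 ∧ u = 1
  cox : ∀ k : ℕ, k < 6 → ((toTTor.na * toTTor.nb) ^ k ∈ toTTor.Hs → k = 0) ∧
    toTTor.na * (toTTor.na * toTTor.nb) ^ k ∉ toTTor.Hs
  top : toTTor.gen = ⊤

end Cfsg.Agent.CtRecT
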