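import Mathlib
import Cfsg.Agent.CtRecT.TBN
import Cfsg.Agent.Helper7.ChevTwD4
import Cfsg.Agent.Helper7.ChevTw9

set_option autoImplicit false
set_option linter.unusedSectionVars false
set_option linter.unusedVariables false

/-!
# S2110, piece P-D: names for the ambient objects of `³D₄(q)` inside `GL chevD4.Idx K`

Everything here is at the level of `GL chevD4.Idx K` (no subtype coercions): the two `SL₂`-homomorphisms of the classes
`a = (0, 3)` (the long orbit `α₁, α₃, α₄`) and `b = (1, 1)` (the fixed simple root `α₂`), the Weyl elements, and the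
subgroups `U¹, H¹, N¹, B¹` together with the complements `U_a, U_b`.  Only abbreviations: every lemma of
`Helper7/ChevTw*.lean` applies verbatim.
-/

namespace Cfsg.Agent.CtRecT

open Cfsg Cfsg.Lie Cfsg.Agent.Helper7.Chev

variable {K : Type*} [Field K] (f : K ≃+* K)

/-- the class `a` (the orbit `α₁, α₃, α₄`). -/
abbrev tgA : ℕ × ℕ := (0, 3)

/-- the class `b` (the fixed simple root `α₂`). -/
abbrev tgB : ℕ × ℕ := (1, 1)

theorem tgA_mem : tgA ∈ clsD4 := by decide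

theorem tgB_mem : tgB ∈ clsD4 := by decide

/-- the permutation `ρ` of the simple roots of `D₄`. -/
abbrev tgRho : ℕ → ℕ := fun i => [2, 1, 3, 0].getD i 0

/-- the twisted group `³D₄` as a subgroup of `GL`. -/
abbrev tgG : Subgroup (GL chevD4.Idx K) := twGroup good2_D4 T3_D4 T4_D4 T19_D4 f

/-- the `SL₂` of the class `a`. -/
noncomputable abbrev tgPhiA : Matrix.SpecialLinearGroup (Fin 2) K →* GL chevD4.Idx K :=
  clsHom good2_D4 T3_D4 T4_D4 T19_D4 f tgA_mem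

/-- the `SL₂` of the class `b`. -/
noncomputable abbrev tgPhiB : Matrix.SpecialLinearGroup (Fin 2) K →* GL chevD4.Idx K :=
  clsHom good2_D4 T3_D4 T4_D4 T19_D4 f tgB_mem

/-- the Weyl element `n_a`. -/
noncomputable abbrev tgNa : GL chevD4.Idx K := tgPhiA f antiSL

/-- the Weyl element `n_b`. -/
noncomputable abbrev tgNb : GL chevD4.Idx K := tgPhiB f antiSL

/-- `U¹`. -/
abbrev tgU : Subgroup (GL chevD4.Idx K) := twU good2_D4 T3_D4 T4_D4 T19_D4 f

/-- `H¹`. -/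
abbrev tgH : Subgroup (GL chevD4.Idx K) := twH good2_D4 T3_D4 T4_D4 T19_D4 f

/-- `N¹`. -/
abbrev tgN : Subgroup (GL chevD4.Idx K) := twN good2_D4 T3_D4 T4_D4 T19_D4 f

/-- `B¹`. -/
abbrev tgB1 : Subgroup (GL chevD4.Idx K) := twB good2_D4 T3_D4 T4_D4 T19_D4 f

/-- the complement of `X_a` in `U¹`. -/
abbrev tgUa : Subgroup (GL chevD4.Idx K) :=
  Subgroup.closure (upGenS chevD4 K (InCls chevD4 tgRho tgA)) ⊓ tgG f

/-- the complement of `X_b` in `U¹`. -/
abbrev tgUb : Subgroup (GL chevD4.Idx K) :=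
  Subgroup.closure (upGenS chevD4 K (InCls chevD4 tgRho tgB)) ⊓ tgG f

theorem tgUa_le : tgUa f ≤ tgU f := fun g hg =>
  (mem_twU good2_D4 T3_D4 T4_D4 T19_D4 f).mpr ⟨upS_le_pos _ hg.1, hg.2⟩

theorem tgUb_le : tgUb f ≤ tgU f := fun g hg =>
  (mem_twU good2_D4 T3_D4 T4_D4 T19_D4 f).mpr ⟨upS_le_pos _ hg.1, hg.2⟩

theorem tgNa_mem : tgNa f ∈ tgG f := anti_mem_twGroup good2_D4 T3_D4 T4_D4 T19_D4 f tgA_mem

theorem tgNb_mem : tgNb f ∈ tgG f := anti_mem_twGroup good2_D4 T3_D4 T4_D4 T19_D4 f tgB_mem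

theorem tgA_upper_mem (hf3 : ∀ t, (((f : K →+* K)) ^ 3) t = t) (t : K) :
    tgPhiA f (upperSL t) ∈ tgG f :=
  upper_mem_twGroup good2_D4 T3_D4 T4_D4 T19_D4 f tgA_mem (hf3 t)

theorem tgA_lower_mem (hf3 : ∀ t, (((f : K →+* K)) ^ 3) t = t) (t : K) :
    tgPhiA f (lowerSL t) ∈ tgG f :=
  lower_mem_twGroup good2_D4 T3_D4 T4_D4 T19_D4 f tgA_mem (hf3 t)

theorem tgB_upper_mem {t : K} (ht : f t = t) : tgPhiB f (upperSL t) ∈ tgG f :=
  upper_mem_twGroup good2_D4 T3_D4 T4_D4 T19_D4 f tgB_mem ((adm_one_iff f t).mpr ht)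

theorem tgB_lower_mem {t : K} (ht : f t = t) : tgPhiB f (lowerSL t) ∈ tgG f :=
  lower_mem_twGroup good2_D4 T3_D4 T4_D4 T19_D4 f tgB_mem ((adm_one_iff f t).mpr ht)

end Cfsg.Agent.CtRecT
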