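import Mathlib
import Cfsg.Agent.CtRecT.TAmbDefs
import Cfsg.Agent.Helper7.ChevF4f

set_option autoImplicit false
set_option linter.unusedSectionVars false
set_option linter.unusedVariables false

/-!
# S2110, P-D (COX, helper2): the twelve cosets of `H` in `N` for `³D₄`

`(n_a n_b)^k` for `0 < k < 6` and `n_a (n_a n_b)^k` for `k < 6` are not diagonal: each is the element
`nWordGL` of an explicit word, and the word moves a root.
-/

namespace Cfsg.Agent.CtRecT

open Cfsg Cfsg.Lie Matrix Cfsg.Agent.Helper7.Chev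

variable {K : Type*} [Field K] (f : K ≃+* K)

theorem tacx_na_eq : tgNa f = nWordGL good2_D4 [0, 2, 3] := by
  show clsHom good2_D4 T3_D4 T4_D4 T19_D4 f tgA_mem antiSL = _
  rw [clsHom_anti]
  rfl

theorem tacx_nb_eq : tgNb f = nWordGL good2_D4 [1] := by
  show clsHom good2_D4 T3_D4 T4_D4 T19_D4 f tgB_mem antiSL = _
  rw [clsHom_anti]
  rfl

theorem tacx_nanb_eq : tgNa f * tgNb f = nWordGL good2_D4 [0, 2, 3, 1] := by
  rw [tacx_na_eq, tacx_nb_eq, ← nWordGL_append]
  rfl

/-- the `k`-fold repetition of the Coxeter word -/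
def tacxWord : ℕ → List ℕ
  | 0 => []
  | k + 1 => [0, 2, 3, 1] ++ tacxWord k

theorem tacx_pow_eq (k : ℕ) :
    (tgNa f * tgNb f) ^ k = nWordGL good2_D4 (tacxWord k) := by
  induction k with
  | zero => rw [pow_zero]; exact (nWordGL_nil good2_D4).symm
  | succ k ih =>
    rw [pow_succ', ih, tacx_nanb_eq]
    show _ = nWordGL good2_D4 ([0, 2, 3, 1] ++ tacxWord k)
    rw [nWordGL_append]

theorem tacx_na_pow_eq (k : ℕ) :
    tgNa f * (tgNa f * tgNb f) ^ k = nWordGL good2_D4 ([0, 2, 3] ++ tacxWord k) := by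
  rw [tacx_pow_eq, tacx_na_eq, nWordGL_append]

theorem tacxWord_lt (k : ℕ) : ∀ i ∈ tacxWord k, i < chevD4.rank := by
  induction k with
  | zero => intro i hi; simp [tacxWord] at hi
  | succ k ih =>
    intro i hi
    simp only [tacxWord, List.mem_append] at hi
    rcases hi with hi | hi
    · have : i = 0 ∨ i = 2 ∨ i = 3 ∨ i = 1 := by simpa using hi
      rcases this with rfl | rfl | rfl | rfl <;> decide
    · exact ih i hi

/-- a word that moves a root does not give a diagonal element -/
theorem tacx_not_diag {w : List ℕ} (hw : ∀ i ∈ w, i < chevD4.rank) (r : ℕ)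
    (hr : r < chevD4.nroots) (h : fastD4.reflWord w r ≠ r) :
    (nWordGL good2_D4 w : GL chevD4.Idx K) ∉ chevD4.diagonalSubgroup K := by
  intro hd
  rw [nWordGL_mem_diagonal_iff good2_D4 T0_D4 T6_D4 T8_D4 hw] at hd
  have := hd r hr
  rw [tab_D4] at this
  exact h this

theorem tacx_pow (k : ℕ) (hk : k < 6)
    (h : (tgNa f * tgNb f) ^ k ∈ chevD4.diagonalSubgroup K) : k = 0 := by
  by_contra hk0
  rw [tacx_pow_eq] at h
  revert h
  apply tacx_not_diag (tacxWord_lt k) 0 (by decide)
  interval_cases k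
  · exact absurd rfl hk0
  all_goals decide

theorem tacx_na_pow (k : ℕ) (hk : k < 6) :
    tgNa f * (tgNa f * tgNb f) ^ k ∉ chevD4.diagonalSubgroup K := by
  rw [tacx_na_pow_eq]
  have hw : ∀ i ∈ [0, 2, 3] ++ tacxWord k, i < chevD4.rank := by
    intro i hi
    rw [List.mem_append] at hi
    rcases hi with hi | hi
    · have : i = 0 ∨ i = 2 ∨ i = 3 := by simpa using hi
      rcases this with rfl | rfl | rfl <;> decide
    · exact tacxWord_lt k i hi
  interval_cases k
  all_goals first
    | exact tacx_not_diag hw 0 (by decide) (by decide)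
    | exact tacx_not_diag hw 1 (by decide) (by decide)

end Cfsg.Agent.CtRecT
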