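import Mathlib
import Cfsg.Agent.Helper7.D4InvA

set_option autoImplicit false
set_option linter.unusedVariables false

/-!
S2110, piece P-B (helper3), part A: the commutation rules of the positive root elements of `D₄`
(in arbitrary characteristic), oriented so that `simp` sorts a word in the root elements by the index
of the roots, and the normal form of such words.  Generated from the structure constants.
-/

namespace Cfsg.Agent.CtRecT

open Cfsg Cfsg.Lie Cfsg.Agent.Helper7.Chev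

variable {K : Type*} [Field K]

theorem tb_merge (r : Fin 24) (a b : K) : xd r a * xd r b = xd r (a + b) := xd_mul r a b

theorem tb_merge' (r : Fin 24) (a b : K) (g : GL chevD4.Idx K) :
    xd r a * (xd r b * g) = xd r (a + b) * g := by
  rw [← mul_assoc, xd_mul]

theorem tb_swap_nil {r s : Fin 24} (h : (r, s) ∈ d4NilPairs) (t u : K) (g : GL chevD4.Idx K) :
    xd s u * (xd r t * g) = xd r t * (xd s u * g) := by
  rw [← mul_assoc, xd_comm_of_mem h t u, mul_assoc]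

theorem tb_swap_pos {r s q : Fin 24} (h : (r, s, q, (1 : ℤ)) ∈ d4SumPairs) (t u : K)
    (g : GL chevD4.Idx K) :
    xd s u * (xd r t * g) = xd r t * (xd s u * (xd q (-(t * u)) * g)) := by
  obtain ⟨h1, h2, h3, _⟩ := d4_sum_pairs (r, s, q, 1) h
  have e : ((((1 : ℤ) : K)) * (-t) ^ 1 * u ^ 1) = -(t * u) := by push_cast; ring
  rw [← mul_assoc, xd_comm_single h2 h3 h1 t u, e, mul_assoc, mul_assoc]

theorem tb_swap_neg {r s q : Fin 24} (h : (r, s, q, (-1 : ℤ)) ∈ d4SumPairs) (t u : K)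
    (g : GL chevD4.Idx K) :
    xd s u * (xd r t * g) = xd r t * (xd s u * (xd q (t * u) * g)) := by
  obtain ⟨h1, h2, h3, _⟩ := d4_sum_pairs (r, s, q, -1) h
  have e : ((((-1 : ℤ) : K)) * (-t) ^ 1 * u ^ 1) = t * u := by push_cast; ring
  rw [← mul_assoc, xd_comm_single h2 h3 h1 t u, e, mul_assoc, mul_assoc]

theorem tb_p_13_12 (t u : K) (g : GL chevD4.Idx K) :
    xd 13 u * (xd 12 t * g) = xd 12 t * (xd 13 u * g) :=
  tb_swap_nil (by decide) t u g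

theorem tb_p_14_12 (t u : K) (g : GL chevD4.Idx K) :
    xd 14 u * (xd 12 t * g) = xd 12 t * (xd 14 u * (xd 15 (-(t * u)) * g)) :=
  tb_swap_pos (by decide) t u g

theorem tb_p_15_12 (t u : K) (g : GL chevD4.Idx K) :
    xd 15 u * (xd 12 t * g) = xd 12 t * (xd 15 u * g) :=
  tb_swap_nil (by decide) t u g

theorem tb_p_16_12 (t u : K) (g : GL chevD4.Idx K) :
    xd 16 u * (xd 12 t * g) = xd 12 t * (xd 16 u * (xd 17 (-(t * u)) * g)) :=
  tb_swap_pos (by decide) t u g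

theorem tb_p_17_12 (t u : K) (g : GL chevD4.Idx K) :
    xd 17 u * (xd 12 t * g) = xd 12 t * (xd 17 u * g) :=
  tb_swap_nil (by decide) t u g

theorem tb_p_18_12 (t u : K) (g : GL chevD4.Idx K) :
    xd 18 u * (xd 12 t * g) = xd 12 t * (xd 18 u * g) :=
  tb_swap_nil (by decide) t u g

theorem tb_p_19_12 (t u : K) (g : GL chevD4.Idx K) :
    xd 19 u * (xd 12 t * g) = xd 12 t * (xd 19 u * (xd 20 (-(t * u)) * g)) :=
  tb_swap_pos (by decide) t u g

theorem tb_p_20_12 (t u : K) (g : GL chevD4.Idx K) :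
    xd 20 u * (xd 12 t * g) = xd 12 t * (xd 20 u * g) :=
  tb_swap_nil (by decide) t u g

theorem tb_p_21_12 (t u : K) (g : GL chevD4.Idx K) :
    xd 21 u * (xd 12 t * g) = xd 12 t * (xd 21 u * (xd 22 (-(t * u)) * g)) :=
  tb_swap_pos (by decide) t u g

theorem tb_p_22_12 (t u : K) (g : GL chevD4.Idx K) :
    xd 22 u * (xd 12 t * g) = xd 12 t * (xd 22 u * g) :=
  tb_swap_nil (by decide) t u g

theorem tb_p_23_12 (t u : K) (g : GL chevD4.Idx K) :
    xd 23 u * (xd 12 t * g) = xd 12 t * (xd 23 u * g) :=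
  tb_swap_nil (by decide) t u g

theorem tb_p_14_13 (t u : K) (g : GL chevD4.Idx K) :
    xd 14 u * (xd 13 t * g) = xd 13 t * (xd 14 u * (xd 16 (-(t * u)) * g)) :=
  tb_swap_pos (by decide) t u g

theorem tb_p_15_13 (t u : K) (g : GL chevD4.Idx K) :
    xd 15 u * (xd 13 t * g) = xd 13 t * (xd 15 u * (xd 17 (-(t * u)) * g)) :=
  tb_swap_pos (by decide) t u g

theorem tb_p_16_13 (t u : K) (g : GL chevD4.Idx K) :
    xd 16 u * (xd 13 t * g) = xd 13 t * (xd 16 u * g) :=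
  tb_swap_nil (by decide) t u g

theorem tb_p_17_13 (t u : K) (g : GL chevD4.Idx K) :
    xd 17 u * (xd 13 t * g) = xd 13 t * (xd 17 u * g) :=
  tb_swap_nil (by decide) t u g

theorem tb_p_18_13 (t u : K) (g : GL chevD4.Idx K) :
    xd 18 u * (xd 13 t * g) = xd 13 t * (xd 18 u * g) :=
  tb_swap_nil (by decide) t u g

theorem tb_p_19_13 (t u : K) (g : GL chevD4.Idx K) :
    xd 19 u * (xd 13 t * g) = xd 13 t * (xd 19 u * (xd 21 (-(t * u)) * g)) :=
  tb_swap_pos (by decide) t u g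

theorem tb_p_20_13 (t u : K) (g : GL chevD4.Idx K) :
    xd 20 u * (xd 13 t * g) = xd 13 t * (xd 20 u * (xd 22 (-(t * u)) * g)) :=
  tb_swap_pos (by decide) t u g

theorem tb_p_21_13 (t u : K) (g : GL chevD4.Idx K) :
    xd 21 u * (xd 13 t * g) = xd 13 t * (xd 21 u * g) :=
  tb_swap_nil (by decide) t u g

theorem tb_p_22_13 (t u : K) (g : GL chevD4.Idx K) :
    xd 22 u * (xd 13 t * g) = xd 13 t * (xd 22 u * g) :=
  tb_swap_nil (by decide) t u g

theorem tb_p_23_13 (t u : K) (g : GL chevD4.Idx K) :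
    xd 23 u * (xd 13 t * g) = xd 13 t * (xd 23 u * g) :=
  tb_swap_nil (by decide) t u g

theorem tb_p_15_14 (t u : K) (g : GL chevD4.Idx K) :
    xd 15 u * (xd 14 t * g) = xd 14 t * (xd 15 u * g) :=
  tb_swap_nil (by decide) t u g

theorem tb_p_16_14 (t u : K) (g : GL chevD4.Idx K) :
    xd 16 u * (xd 14 t * g) = xd 14 t * (xd 16 u * g) :=
  tb_swap_nil (by decide) t u g

theorem tb_p_17_14 (t u : K) (g : GL chevD4.Idx K) :
    xd 17 u * (xd 14 t * g) = xd 14 t * (xd 17 u * g) :=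
  tb_swap_nil (by decide) t u g

theorem tb_p_18_14 (t u : K) (g : GL chevD4.Idx K) :
    xd 18 u * (xd 14 t * g) = xd 14 t * (xd 18 u * (xd 19 (-(t * u)) * g)) :=
  tb_swap_pos (by decide) t u g

theorem tb_p_19_14 (t u : K) (g : GL chevD4.Idx K) :
    xd 19 u * (xd 14 t * g) = xd 14 t * (xd 19 u * g) :=
  tb_swap_nil (by decide) t u g

theorem tb_p_20_14 (t u : K) (g : GL chevD4.Idx K) :
    xd 20 u * (xd 14 t * g) = xd 14 t * (xd 20 u * g) :=
  tb_swap_nil (by decide) t u g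

theorem tb_p_21_14 (t u : K) (g : GL chevD4.Idx K) :
    xd 21 u * (xd 14 t * g) = xd 14 t * (xd 21 u * g) :=
  tb_swap_nil (by decide) t u g

theorem tb_p_22_14 (t u : K) (g : GL chevD4.Idx K) :
    xd 22 u * (xd 14 t * g) = xd 14 t * (xd 22 u * (xd 23 (-(t * u)) * g)) :=
  tb_swap_pos (by decide) t u g

theorem tb_p_23_14 (t u : K) (g : GL chevD4.Idx K) :
    xd 23 u * (xd 14 t * g) = xd 14 t * (xd 23 u * g) :=
  tb_swap_nil (by decide) t u g

theorem tb_p_16_15 (t u : K) (g : GL chevD4.Idx K) :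
    xd 16 u * (xd 15 t * g) = xd 15 t * (xd 16 u * g) :=
  tb_swap_nil (by decide) t u g

theorem tb_p_17_15 (t u : K) (g : GL chevD4.Idx K) :
    xd 17 u * (xd 15 t * g) = xd 15 t * (xd 17 u * g) :=
  tb_swap_nil (by decide) t u g

theorem tb_p_18_15 (t u : K) (g : GL chevD4.Idx K) :
    xd 18 u * (xd 15 t * g) = xd 15 t * (xd 18 u * (xd 20 (-(t * u)) * g)) :=
  tb_swap_pos (by decide) t u g

theorem tb_p_19_15 (t u : K) (g : GL chevD4.Idx K) :
    xd 19 u * (xd 15 t * g) = xd 15 t * (xd 19 u * g) :=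
  tb_swap_nil (by decide) t u g

theorem tb_p_20_15 (t u : K) (g : GL chevD4.Idx K) :
    xd 20 u * (xd 15 t * g) = xd 15 t * (xd 20 u * g) :=
  tb_swap_nil (by decide) t u g

theorem tb_p_21_15 (t u : K) (g : GL chevD4.Idx K) :
    xd 21 u * (xd 15 t * g) = xd 15 t * (xd 21 u * (xd 23 (t * u) * g)) :=
  tb_swap_neg (by decide) t u g

theorem tb_p_22_15 (t u : K) (g : GL chevD4.Idx K) :
    xd 22 u * (xd 15 t * g) = xd 15 t * (xd 22 u * g) :=
  tb_swap_nil (by decide) t u g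

theorem tb_p_23_15 (t u : K) (g : GL chevD4.Idx K) :
    xd 23 u * (xd 15 t * g) = xd 15 t * (xd 23 u * g) :=
  tb_swap_nil (by decide) t u g

theorem tb_p_17_16 (t u : K) (g : GL chevD4.Idx K) :
    xd 17 u * (xd 16 t * g) = xd 16 t * (xd 17 u * g) :=
  tb_swap_nil (by decide) t u g

theorem tb_p_18_16 (t u : K) (g : GL chevD4.Idx K) :
    xd 18 u * (xd 16 t * g) = xd 16 t * (xd 18 u * (xd 21 (-(t * u)) * g)) :=
  tb_swap_pos (by decide) t u g

theorem tb_p_19_16 (t u : K) (g : GL chevD4.Idx K) :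
    xd 19 u * (xd 16 t * g) = xd 16 t * (xd 19 u * g) :=
  tb_swap_nil (by decide) t u g

theorem tb_p_20_16 (t u : K) (g : GL chevD4.Idx K) :
    xd 20 u * (xd 16 t * g) = xd 16 t * (xd 20 u * (xd 23 (t * u) * g)) :=
  tb_swap_neg (by decide) t u g

theorem tb_p_21_16 (t u : K) (g : GL chevD4.Idx K) :
    xd 21 u * (xd 16 t * g) = xd 16 t * (xd 21 u * g) :=
  tb_swap_nil (by decide) t u g

theorem tb_p_22_16 (t u : K) (g : GL chevD4.Idx K) :
    xd 22 u * (xd 16 t * g) = xd 16 t * (xd 22 u * g) :=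
  tb_swap_nil (by decide) t u g

theorem tb_p_23_16 (t u : K) (g : GL chevD4.Idx K) :
    xd 23 u * (xd 16 t * g) = xd 16 t * (xd 23 u * g) :=
  tb_swap_nil (by decide) t u g

theorem tb_p_18_17 (t u : K) (g : GL chevD4.Idx K) :
    xd 18 u * (xd 17 t * g) = xd 17 t * (xd 18 u * (xd 22 (-(t * u)) * g)) :=
  tb_swap_pos (by decide) t u g

theorem tb_p_19_17 (t u : K) (g : GL chevD4.Idx K) :
    xd 19 u * (xd 17 t * g) = xd 17 t * (xd 19 u * (xd 23 (-(t * u)) * g)) :=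
  tb_swap_pos (by decide) t u g

theorem tb_p_20_17 (t u : K) (g : GL chevD4.Idx K) :
    xd 20 u * (xd 17 t * g) = xd 17 t * (xd 20 u * g) :=
  tb_swap_nil (by decide) t u g

theorem tb_p_21_17 (t u : K) (g : GL chevD4.Idx K) :
    xd 21 u * (xd 17 t * g) = xd 17 t * (xd 21 u * g) :=
  tb_swap_nil (by decide) t u g

theorem tb_p_22_17 (t u : K) (g : GL chevD4.Idx K) :
    xd 22 u * (xd 17 t * g) = xd 17 t * (xd 22 u * g) :=
  tb_swap_nil (by decide) t u g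

theorem tb_p_23_17 (t u : K) (g : GL chevD4.Idx K) :
    xd 23 u * (xd 17 t * g) = xd 17 t * (xd 23 u * g) :=
  tb_swap_nil (by decide) t u g

theorem tb_p_19_18 (t u : K) (g : GL chevD4.Idx K) :
    xd 19 u * (xd 18 t * g) = xd 18 t * (xd 19 u * g) :=
  tb_swap_nil (by decide) t u g

theorem tb_p_20_18 (t u : K) (g : GL chevD4.Idx K) :
    xd 20 u * (xd 18 t * g) = xd 18 t * (xd 20 u * g) :=
  tb_swap_nil (by decide) t u g

theorem tb_p_21_18 (t u : K) (g : GL chevD4.Idx K) :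
    xd 21 u * (xd 18 t * g) = xd 18 t * (xd 21 u * g) :=
  tb_swap_nil (by decide) t u g

theorem tb_p_22_18 (t u : K) (g : GL chevD4.Idx K) :
    xd 22 u * (xd 18 t * g) = xd 18 t * (xd 22 u * g) :=
  tb_swap_nil (by decide) t u g

theorem tb_p_23_18 (t u : K) (g : GL chevD4.Idx K) :
    xd 23 u * (xd 18 t * g) = xd 18 t * (xd 23 u * g) :=
  tb_swap_nil (by decide) t u g

theorem tb_p_20_19 (t u : K) (g : GL chevD4.Idx K) :
    xd 20 u * (xd 19 t * g) = xd 19 t * (xd 20 u * g) :=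
  tb_swap_nil (by decide) t u g

theorem tb_p_21_19 (t u : K) (g : GL chevD4.Idx K) :
    xd 21 u * (xd 19 t * g) = xd 19 t * (xd 21 u * g) :=
  tb_swap_nil (by decide) t u g

theorem tb_p_22_19 (t u : K) (g : GL chevD4.Idx K) :
    xd 22 u * (xd 19 t * g) = xd 19 t * (xd 22 u * g) :=
  tb_swap_nil (by decide) t u g

theorem tb_p_23_19 (t u : K) (g : GL chevD4.Idx K) :
    xd 23 u * (xd 19 t * g) = xd 19 t * (xd 23 u * g) :=
  tb_swap_nil (by decide) t u g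

theorem tb_p_21_20 (t u : K) (g : GL chevD4.Idx K) :
    xd 21 u * (xd 20 t * g) = xd 20 t * (xd 21 u * g) :=
  tb_swap_nil (by decide) t u g

theorem tb_p_22_20 (t u : K) (g : GL chevD4.Idx K) :
    xd 22 u * (xd 20 t * g) = xd 20 t * (xd 22 u * g) :=
  tb_swap_nil (by decide) t u g

theorem tb_p_23_20 (t u : K) (g : GL chevD4.Idx K) :
    xd 23 u * (xd 20 t * g) = xd 20 t * (xd 23 u * g) :=
  tb_swap_nil (by decide) t u g

theorem tb_p_22_21 (t u : K) (g : GL chevD4.Idx K) :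
    xd 22 u * (xd 21 t * g) = xd 21 t * (xd 22 u * g) :=
  tb_swap_nil (by decide) t u g

theorem tb_p_23_21 (t u : K) (g : GL chevD4.Idx K) :
    xd 23 u * (xd 21 t * g) = xd 21 t * (xd 23 u * g) :=
  tb_swap_nil (by decide) t u g

theorem tb_p_23_22 (t u : K) (g : GL chevD4.Idx K) :
    xd 23 u * (xd 22 t * g) = xd 22 t * (xd 23 u * g) :=
  tb_swap_nil (by decide) t u g

/-- All the sorting rules for the positive root elements. -/
theorem tb_pos_all : ∀ (t u : K) (g : GL chevD4.Idx K),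
    (xd 13 u * (xd 12 t * g) = xd 12 t * (xd 13 u * g)) ∧
    (xd 14 u * (xd 12 t * g) = xd 12 t * (xd 14 u * (xd 15 (-(t * u)) * g))) ∧
    (xd 15 u * (xd 12 t * g) = xd 12 t * (xd 15 u * g)) ∧
    (xd 16 u * (xd 12 t * g) = xd 12 t * (xd 16 u * (xd 17 (-(t * u)) * g))) ∧
    (xd 17 u * (xd 12 t * g) = xd 12 t * (xd 17 u * g)) ∧
    (xd 18 u * (xd 12 t * g) = xd 12 t * (xd 18 u * g)) ∧
    (xd 19 u * (xd 12 t * g) = xd 12 t * (xd 19 u * (xd 20 (-(t * u)) * g))) ∧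
    (xd 20 u * (xd 12 t * g) = xd 12 t * (xd 20 u * g)) ∧
    (xd 21 u * (xd 12 t * g) = xd 12 t * (xd 21 u * (xd 22 (-(t * u)) * g))) ∧
    (xd 22 u * (xd 12 t * g) = xd 12 t * (xd 22 u * g)) ∧
    (xd 23 u * (xd 12 t * g) = xd 12 t * (xd 23 u * g)) ∧
    (xd 14 u * (xd 13 t * g) = xd 13 t * (xd 14 u * (xd 16 (-(t * u)) * g))) ∧
    (xd 15 u * (xd 13 t * g) = xd 13 t * (xd 15 u * (xd 17 (-(t * u)) * g))) ∧
    (xd 16 u * (xd 13 t * g) = xd 13 t * (xd 16 u * g)) ∧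
    (xd 17 u * (xd 13 t * g) = xd 13 t * (xd 17 u * g)) ∧
    (xd 18 u * (xd 13 t * g) = xd 13 t * (xd 18 u * g)) ∧
    (xd 19 u * (xd 13 t * g) = xd 13 t * (xd 19 u * (xd 21 (-(t * u)) * g))) ∧
    (xd 20 u * (xd 13 t * g) = xd 13 t * (xd 20 u * (xd 22 (-(t * u)) * g))) ∧
    (xd 21 u * (xd 13 t * g) = xd 13 t * (xd 21 u * g)) ∧
    (xd 22 u * (xd 13 t * g) = xd 13 t * (xd 22 u * g)) ∧
    (xd 23 u * (xd 13 t * g) = xd 13 t * (xd 23 u * g)) ∧
    (xd 15 u * (xd 14 t * g) = xd 14 t * (xd 15 u * g)) ∧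
    (xd 16 u * (xd 14 t * g) = xd 14 t * (xd 16 u * g)) ∧
    (xd 17 u * (xd 14 t * g) = xd 14 t * (xd 17 u * g)) ∧
    (xd 18 u * (xd 14 t * g) = xd 14 t * (xd 18 u * (xd 19 (-(t * u)) * g))) ∧
    (xd 19 u * (xd 14 t * g) = xd 14 t * (xd 19 u * g)) ∧
    (xd 20 u * (xd 14 t * g) = xd 14 t * (xd 20 u * g)) ∧
    (xd 21 u * (xd 14 t * g) = xd 14 t * (xd 21 u * g)) ∧
    (xd 22 u * (xd 14 t * g) = xd 14 t * (xd 22 u * (xd 23 (-(t * u)) * g))) ∧
    (xd 23 u * (xd 14 t * g) = xd 14 t * (xd 23 u * g)) ∧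
    (xd 16 u * (xd 15 t * g) = xd 15 t * (xd 16 u * g)) ∧
    (xd 17 u * (xd 15 t * g) = xd 15 t * (xd 17 u * g)) ∧
    (xd 18 u * (xd 15 t * g) = xd 15 t * (xd 18 u * (xd 20 (-(t * u)) * g))) ∧
    (xd 19 u * (xd 15 t * g) = xd 15 t * (xd 19 u * g)) ∧
    (xd 20 u * (xd 15 t * g) = xd 15 t * (xd 20 u * g)) ∧
    (xd 21 u * (xd 15 t * g) = xd 15 t * (xd 21 u * (xd 23 (t * u) * g))) ∧
    (xd 22 u * (xd 15 t * g) = xd 15 t * (xd 22 u * g)) ∧
    (xd 23 u * (xd 15 t * g) = xd 15 t * (xd 23 u * g)) ∧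
    (xd 17 u * (xd 16 t * g) = xd 16 t * (xd 17 u * g)) ∧
    (xd 18 u * (xd 16 t * g) = xd 16 t * (xd 18 u * (xd 21 (-(t * u)) * g))) ∧
    (xd 19 u * (xd 16 t * g) = xd 16 t * (xd 19 u * g)) ∧
    (xd 20 u * (xd 16 t * g) = xd 16 t * (xd 20 u * (xd 23 (t * u) * g))) ∧
    (xd 21 u * (xd 16 t * g) = xd 16 t * (xd 21 u * g)) ∧
    (xd 22 u * (xd 16 t * g) = xd 16 t * (xd 22 u * g)) ∧
    (xd 23 u * (xd 16 t * g) = xd 16 t * (xd 23 u * g)) ∧
    (xd 18 u * (xd 17 t * g) = xd 17 t * (xd 18 u * (xd 22 (-(t * u)) * g))) ∧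
    (xd 19 u * (xd 17 t * g) = xd 17 t * (xd 19 u * (xd 23 (-(t * u)) * g))) ∧
    (xd 20 u * (xd 17 t * g) = xd 17 t * (xd 20 u * g)) ∧
    (xd 21 u * (xd 17 t * g) = xd 17 t * (xd 21 u * g)) ∧
    (xd 22 u * (xd 17 t * g) = xd 17 t * (xd 22 u * g)) ∧
    (xd 23 u * (xd 17 t * g) = xd 17 t * (xd 23 u * g)) ∧
    (xd 19 u * (xd 18 t * g) = xd 18 t * (xd 19 u * g)) ∧
    (xd 20 u * (xd 18 t * g) = xd 18 t * (xd 20 u * g)) ∧
    (xd 21 u * (xd 18 t * g) = xd 18 t * (xd 21 u * g)) ∧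
    (xd 22 u * (xd 18 t * g) = xd 18 t * (xd 22 u * g)) ∧
    (xd 23 u * (xd 18 t * g) = xd 18 t * (xd 23 u * g)) ∧
    (xd 20 u * (xd 19 t * g) = xd 19 t * (xd 20 u * g)) ∧
    (xd 21 u * (xd 19 t * g) = xd 19 t * (xd 21 u * g)) ∧
    (xd 22 u * (xd 19 t * g) = xd 19 t * (xd 22 u * g)) ∧
    (xd 23 u * (xd 19 t * g) = xd 19 t * (xd 23 u * g)) ∧
    (xd 21 u * (xd 20 t * g) = xd 20 t * (xd 21 u * g)) ∧
    (xd 22 u * (xd 20 t * g) = xd 20 t * (xd 22 u * g)) ∧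
    (xd 23 u * (xd 20 t * g) = xd 20 t * (xd 23 u * g)) ∧
    (xd 22 u * (xd 21 t * g) = xd 21 t * (xd 22 u * g)) ∧
    (xd 23 u * (xd 21 t * g) = xd 21 t * (xd 23 u * g)) ∧
    (xd 23 u * (xd 22 t * g) = xd 22 t * (xd 23 u * g)) :=
  fun t u g => ⟨tb_p_13_12 t u g, tb_p_14_12 t u g, tb_p_15_12 t u g, tb_p_16_12 t u g, tb_p_17_12 t u g, tb_p_18_12 t u g, tb_p_19_12 t u g, tb_p_20_12 t u g, tb_p_21_12 t u g, tb_p_22_12 t u g, tb_p_23_12 t u g, tb_p_14_13 t u g, tb_p_15_13 t u g, tb_p_16_13 t u g, tb_p_17_13 t u g, tb_p_18_13 t u g, tb_p_19_13 t u g, tb_p_20_13 t u g, tb_p_21_13 t u g, tb_p_22_13 t u g, tb_p_23_13 t u g, tb_p_15_14 t u g, tb_p_16_14 t u g, tb_p_17_14 t u g, tb_p_18_14 t u g, tb_p_19_14 t u g, tb_p_20_14 t u g, tb_p_21_14 t u g, tb_p_22_14 t u g, tb_p_23_14 t u g, tb_p_16_15 t u g, tb_p_17_15 t u g, tb_p_18_15 t u g, tb_p_19_15 t u g, tb_p_20_15 t u g, tb_p_21_15 t u g, tb_p_22_15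 t u g, tb_p_23_15 t u g, tb_p_17_16 t u g, tb_p_18_16 t u g, tb_p_19_16 t u g, tb_p_20_16 t u g, tb_p_21_16 t u g, tb_p_22_16 t u g, tb_p_23_16 t u g, tb_p_18_17 t u g, tb_p_19_17 t u g, tb_p_20_17 t u g, tb_p_21_17 t u g, tb_p_22_17 t u g, tb_p_23_17 t u g, tb_p_19_18 t u g, tb_p_20_18 t u g, tb_p_21_18 t u g, tb_p_22_18 t u g, tb_p_23_18 t u g, tb_p_20_19 t u g, tb_p_21_19 t u g, tb_p_22_19 t u g, tb_p_23_19 t u g, tb_p_21_20 t u g, tb_p_22_20 t u g, tb_p_23_20 t u g, tb_p_22_21 t u g, tb_p_23_21 t u g, tb_p_23_22 t u g⟩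

/-- The sorted word in the twelve positive root elements. -/
noncomputable def tbW (a12 a13 a14 a15 a16 a17 a18 a19 a20 a21 a22 a23 : K) : GL chevD4.Idx K :=
  xd 12 a12 * (xd 13 a13 * (xd 14 a14 * (xd 15 a15 * (xd 16 a16 * (xd 17 a17 * (xd 18 a18 * (xd 19 a19 * (xd 20 a20 * (xd 21 a21 * (xd 22 a22 * (xd 23 a23)))))))))))

theorem tbW_zero : tbW (K := K) 0 0 0 0 0 0 0 0 0 0 0 0 = 1 := by
  unfold tbW
  simp only [xd_zero, mul_one]

theorem tbW_congr {a12 a13 a14 a15 a16 a17 a18 a19 a20 a21 a22 a23 b12 b13 b14 b15 b16 b17 b18 b19 b20 b21 b22 b23 : K} (h12 : a12 = b12) (h13 : a13 = b13) (h14 : a14 = b14) (h15 : a15 = b15) (h16 : a16 = b16) (h17 : a17 = b17) (h18 : a18 = b18) (h19 : a19 = b19) (h20 : a20 = b20) (h21 : a21 = b21) (h22 : a22 = b22) (h23 : a23 = b23) :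
    tbW a12 a13 a14 a15 a16 a17 a18 a19 a20 a21 a22 a23 = tbW b12 b13 b14 b15 b16 b17 b18 b19 b20 b21 b22 b23 := by
  rw [h12, h13, h14, h15, h16, h17, h18, h19, h20, h21, h22, h23]

end Cfsg.Agent.CtRecT
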