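import Mathlib
import Cfsg.Agent.CtRecT.TSysD4A

set_option autoImplicit false
set_option linter.unusedVariables false
set_option linter.unusedSimpArgs false
set_option linter.unusedTactic false
set_option linter.unreachableTactic false

/-!
S2110, piece P-B (helper3), part B: the twisted root elements of `³D₄` for the positive roots, as
invertible matrices (products of `D₄` root elements), and the relations among them: additivity,
`r1`–`r5` and the commuting pairs of `Helper7.Td.TdSys`.  Every identity is proved by sorting both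
sides into the normal form `tbW` of part A and comparing the parameters.
-/

namespace Cfsg.Agent.CtRecT

open Cfsg Cfsg.Lie Cfsg.Agent.Helper7.Chev

variable {K : Type*} [Field K] (σ : K →+* K)

/-- `x_a(t) = x₁₈(t) x₁₃(σt) x₁₂(σ²t)`. -/
noncomputable def tbXa (t : K) : GL chevD4.Idx K := xd 18 t * (xd 13 (σ t) * xd 12 (σ (σ t)))

/-- `x_{a+b}(t) = x₁₉(t) x₁₆(-σt) x₁₅(-σ²t)`. -/
noncomputable def tbXab (t : K) : GL chevD4.Idx K := xd 19 t * (xd 16 (-σ t) * xd 15 (-σ (σ t)))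

/-- `x_{2a+b}(t) = x₂₁(t) x₁₇(-σt) x₂₀(σ²t)`. -/
noncomputable def tbX2ab (t : K) : GL chevD4.Idx K := xd 21 t * (xd 17 (-σ t) * xd 20 (σ (σ t)))

/-- `y_b(w) = x₁₄(Tr w)`. -/
noncomputable def tbYb (w : K) : GL chevD4.Idx K := xd 14 (w + σ w + σ (σ w))

/-- `y_{3a+b}(w) = x₂₂(Tr w)`. -/
noncomputable def tbY3ab (w : K) : GL chevD4.Idx K := xd 22 (w + σ w + σ (σ w))

/-- `y_{3a+2b}(w) = x₂₃(Tr w)`. -/
noncomputable def tbY3a2b (w : K) : GL chevD4.Idx K := xd 23 (w + σ w + σ (σ w))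

theorem tb_comm_of_eq {G : Type*} [Group G] {a b c : G} (h : a * b = c * (b * a)) :
    a * b * a⁻¹ * b⁻¹ = c := by
  rw [h]; group

theorem tb_xa_add (t u : K) : tbXa σ t * tbXa σ u = tbXa σ (t + u) := by
  apply mul_right_cancel (b := tbW (K := K) 0 0 0 0 0 0 0 0 0 0 0 0)
  simp only [tbXa, tbW, mul_assoc, tb_pos_all, tb_merge, tb_merge']
  all_goals (apply tbW_congr)
  all_goals (try simp only [map_mul, map_add, map_neg])
  all_goals (try ring)

theorem tb_xab_add (t u : K) : tbXab σ t * tbXab σ u = tbXab σ (t + u) := by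
  apply mul_right_cancel (b := tbW (K := K) 0 0 0 0 0 0 0 0 0 0 0 0)
  simp only [tbXab, tbW, mul_assoc, tb_pos_all, tb_merge, tb_merge']
  all_goals (apply tbW_congr)
  all_goals (try simp only [map_mul, map_add, map_neg])
  all_goals (try ring)

theorem tb_x2ab_add (t u : K) : tbX2ab σ t * tbX2ab σ u = tbX2ab σ (t + u) := by
  apply mul_right_cancel (b := tbW (K := K) 0 0 0 0 0 0 0 0 0 0 0 0)
  simp only [tbX2ab, tbW, mul_assoc, tb_pos_all, tb_merge, tb_merge']
  all_goals (apply tbW_congr)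
  all_goals (try simp only [map_mul, map_add, map_neg])
  all_goals (try ring)

theorem tb_yb_add (w v : K) : tbYb σ w * tbYb σ v = tbYb σ (w + v) := by
  unfold tbYb
  rw [xd_mul]
  congr 1
  simp only [map_add]
  ring

theorem tb_y3ab_add (w v : K) : tbY3ab σ w * tbY3ab σ v = tbY3ab σ (w + v) := by
  unfold tbY3ab
  rw [xd_mul]
  congr 1
  simp only [map_add]
  ring

theorem tb_y3a2b_add (w v : K) : tbY3a2b σ w * tbY3a2b σ v = tbY3a2b σ (w + v) := by
  unfold tbY3a2b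
  rw [xd_mul]
  congr 1
  simp only [map_add]
  ring

section rel

variable (hσ : ∀ t, σ (σ (σ t)) = t)

include hσ

theorem tb_yb_σ (w : K) : tbYb σ (σ w) = tbYb σ w := by
  unfold tbYb
  congr 1
  rw [hσ]
  ring

theorem tb_y3ab_σ (w : K) : tbY3ab σ (σ w) = tbY3ab σ w := by
  unfold tbY3ab
  congr 1
  rw [hσ]
  ring

theorem tb_y3a2b_σ (w : K) : tbY3a2b σ (σ w) = tbY3a2b σ w := by
  unfold tbY3a2b
  congr 1
  rw [hσ]
  ring

theorem tb_r1 (w t : K) :
    tbYb σ w * tbXa σ t * (tbYb σ w)⁻¹ * (tbXa σ t)⁻¹ =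
      tbXab σ ((w + σ w + σ (σ w)) * t) * tbX2ab σ ((w + σ w + σ (σ w)) * t * σ t) *
        tbY3ab σ (w * (t * σ t * σ (σ t))) *
        tbY3a2b σ (-((w + σ w + σ (σ w)) * w * (t * σ t * σ (σ t)))) := by
  apply tb_comm_of_eq
  apply mul_right_cancel (b := tbW (K := K) 0 0 0 0 0 0 0 0 0 0 0 0)
  simp only [tbXa, tbXab, tbX2ab, tbYb, tbY3ab, tbY3a2b, tbW, mul_assoc, tb_pos_all, tb_merge,
    tb_merge']
  all_goals (apply tbW_congr)
  all_goals (try simp only [map_mul, map_add, map_neg, hσ])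
  all_goals (try ring)

theorem tb_r2 (t s : K) :
    tbXa σ t * tbXab σ s * (tbXa σ t)⁻¹ * (tbXab σ s)⁻¹ =
      tbX2ab σ (s * σ t + σ s * t) * tbY3ab σ (s * σ t * σ (σ t)) *
        tbY3a2b σ (s * σ s * σ (σ t)) := by
  apply tb_comm_of_eq
  apply mul_right_cancel (b := tbW (K := K) 0 0 0 0 0 0 0 0 0 0 0 0)
  simp only [tbXa, tbXab, tbX2ab, tbYb, tbY3ab, tbY3a2b, tbW, mul_assoc, tb_pos_all, tb_merge,
    tb_merge']
  all_goals (apply tbW_congr)
  all_goals (try simp only [map_mul, map_add, map_neg, hσ])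
  all_goals (try ring)

theorem tb_r3 (t s : K) :
    tbXa σ t * tbX2ab σ s * (tbXa σ t)⁻¹ * (tbX2ab σ s)⁻¹ = tbY3ab σ (σ s * t) := by
  apply tb_comm_of_eq
  apply mul_right_cancel (b := tbW (K := K) 0 0 0 0 0 0 0 0 0 0 0 0)
  simp only [tbXa, tbXab, tbX2ab, tbYb, tbY3ab, tbY3a2b, tbW, mul_assoc, tb_pos_all, tb_merge,
    tb_merge']
  all_goals (apply tbW_congr)
  all_goals (try simp only [map_mul, map_add, map_neg, hσ])
  all_goals (try ring)

theorem tb_r4 (t s : K) :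
    tbXab σ t * tbX2ab σ s * (tbXab σ t)⁻¹ * (tbX2ab σ s)⁻¹ = tbY3a2b σ (σ s * t) := by
  apply tb_comm_of_eq
  apply mul_right_cancel (b := tbW (K := K) 0 0 0 0 0 0 0 0 0 0 0 0)
  simp only [tbXa, tbXab, tbX2ab, tbYb, tbY3ab, tbY3a2b, tbW, mul_assoc, tb_pos_all, tb_merge,
    tb_merge']
  all_goals (apply tbW_congr)
  all_goals (try simp only [map_mul, map_add, map_neg, hσ])
  all_goals (try ring)

theorem tb_r5 (w v : K) :
    tbYb σ w * tbY3ab σ v * (tbYb σ w)⁻¹ * (tbY3ab σ v)⁻¹ =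
      tbY3a2b σ ((w + σ w + σ (σ w)) * v) := by
  apply tb_comm_of_eq
  apply mul_right_cancel (b := tbW (K := K) 0 0 0 0 0 0 0 0 0 0 0 0)
  simp only [tbXa, tbXab, tbX2ab, tbYb, tbY3ab, tbY3a2b, tbW, mul_assoc, tb_pos_all, tb_merge,
    tb_merge']
  all_goals (apply tbW_congr)
  all_goals (try simp only [map_mul, map_add, map_neg, hσ])
  all_goals (try ring)

end rel

/-! ### The commuting pairs -/

theorem tb_c_a_3ab (t w : K) : tbXa σ t * tbY3ab σ w = tbY3ab σ w * tbXa σ t := by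
  apply mul_right_cancel (b := tbW (K := K) 0 0 0 0 0 0 0 0 0 0 0 0)
  simp only [tbXa, tbXab, tbX2ab, tbYb, tbY3ab, tbY3a2b, tbW, mul_assoc, tb_pos_all, tb_merge,
    tb_merge']
  all_goals (apply tbW_congr)
  all_goals (try simp only [map_mul, map_add, map_neg])
  all_goals (try ring)

theorem tb_c_a_3a2b (t w : K) : tbXa σ t * tbY3a2b σ w = tbY3a2b σ w * tbXa σ t := by
  apply mul_right_cancel (b := tbW (K := K) 0 0 0 0 0 0 0 0 0 0 0 0)
  simp only [tbXa, tbXab, tbX2ab, tbYb, tbY3ab, tbY3a2b, tbW, mul_assoc, tb_pos_all, tb_merge,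
    tb_merge']
  all_goals (apply tbW_congr)
  all_goals (try simp only [map_mul, map_add, map_neg])
  all_goals (try ring)

theorem tb_c_ab_b (t w : K) : tbXab σ t * tbYb σ w = tbYb σ w * tbXab σ t := by
  apply mul_right_cancel (b := tbW (K := K) 0 0 0 0 0 0 0 0 0 0 0 0)
  simp only [tbXa, tbXab, tbX2ab, tbYb, tbY3ab, tbY3a2b, tbW, mul_assoc, tb_pos_all, tb_merge,
    tb_merge']
  all_goals (apply tbW_congr)
  all_goals (try simp only [map_mul, map_add, map_neg])
  all_goals (try ring)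

theorem tb_c_2ab_b (t w : K) : tbX2ab σ t * tbYb σ w = tbYb σ w * tbX2ab σ t := by
  apply mul_right_cancel (b := tbW (K := K) 0 0 0 0 0 0 0 0 0 0 0 0)
  simp only [tbXa, tbXab, tbX2ab, tbYb, tbY3ab, tbY3a2b, tbW, mul_assoc, tb_pos_all, tb_merge,
    tb_merge']
  all_goals (apply tbW_congr)
  all_goals (try simp only [map_mul, map_add, map_neg])
  all_goals (try ring)

theorem tb_c_ab_3ab (t w : K) : tbXab σ t * tbY3ab σ w = tbY3ab σ w * tbXab σ t := by
  apply mul_right_cancel (b := tbW (K := K) 0 0 0 0 0 0 0 0 0 0 0 0)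
  simp only [tbXa, tbXab, tbX2ab, tbYb, tbY3ab, tbY3a2b, tbW, mul_assoc, tb_pos_all, tb_merge,
    tb_merge']
  all_goals (apply tbW_congr)
  all_goals (try simp only [map_mul, map_add, map_neg])
  all_goals (try ring)

theorem tb_c_ab_3a2b (t w : K) : tbXab σ t * tbY3a2b σ w = tbY3a2b σ w * tbXab σ t := by
  apply mul_right_cancel (b := tbW (K := K) 0 0 0 0 0 0 0 0 0 0 0 0)
  simp only [tbXa, tbXab, tbX2ab, tbYb, tbY3ab, tbY3a2b, tbW, mul_assoc, tb_pos_all, tb_merge,
    tb_merge']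
  all_goals (apply tbW_congr)
  all_goals (try simp only [map_mul, map_add, map_neg])
  all_goals (try ring)

theorem tb_c_2ab_3ab (t w : K) : tbX2ab σ t * tbY3ab σ w = tbY3ab σ w * tbX2ab σ t := by
  apply mul_right_cancel (b := tbW (K := K) 0 0 0 0 0 0 0 0 0 0 0 0)
  simp only [tbXa, tbXab, tbX2ab, tbYb, tbY3ab, tbY3a2b, tbW, mul_assoc, tb_pos_all, tb_merge,
    tb_merge']
  all_goals (apply tbW_congr)
  all_goals (try simp only [map_mul, map_add, map_neg])
  all_goals (try ring)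

theorem tb_c_2ab_3a2b (t w : K) : tbX2ab σ t * tbY3a2b σ w = tbY3a2b σ w * tbX2ab σ t := by
  apply mul_right_cancel (b := tbW (K := K) 0 0 0 0 0 0 0 0 0 0 0 0)
  simp only [tbXa, tbXab, tbX2ab, tbYb, tbY3ab, tbY3a2b, tbW, mul_assoc, tb_pos_all, tb_merge,
    tb_merge']
  all_goals (apply tbW_congr)
  all_goals (try simp only [map_mul, map_add, map_neg])
  all_goals (try ring)

theorem tb_c_b_3a2b (w v : K) : tbYb σ w * tbY3a2b σ v = tbY3a2b σ v * tbYb σ w := by
  apply mul_right_cancel (b := tbW (K := K) 0 0 0 0 0 0 0 0 0 0 0 0)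
  simp only [tbXa, tbXab, tbX2ab, tbYb, tbY3ab, tbY3a2b, tbW, mul_assoc, tb_pos_all, tb_merge,
    tb_merge']
  all_goals (apply tbW_congr)
  all_goals (try simp only [map_mul, map_add, map_neg])
  all_goals (try ring)

theorem tb_c_3ab_3a2b (w v : K) : tbY3ab σ w * tbY3a2b σ v = tbY3a2b σ v * tbY3ab σ w := by
  apply mul_right_cancel (b := tbW (K := K) 0 0 0 0 0 0 0 0 0 0 0 0)
  simp only [tbXa, tbXab, tbX2ab, tbYb, tbY3ab, tbY3a2b, tbW, mul_assoc, tb_pos_all, tb_merge,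
    tb_merge']
  all_goals (apply tbW_congr)
  all_goals (try simp only [map_mul, map_add, map_neg])
  all_goals (try ring)

end Cfsg.Agent.CtRecT
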