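import Mathlib
import Cfsg.Agent.CtRecT.TSysD4B

set_option autoImplicit false
set_option linter.unusedVariables false
set_option linter.unusedSimpArgs false
set_option linter.unusedTactic false
set_option linter.unreachableTactic false

/-!
S2110, piece P-B (helper3), part C: the twisted root element `x_{-a}` and the relations `r6`,
`c_ma_b` of `Helper7.Td.TdSys`; the sorting rules for the closed set of roots
`{-p₁, -p₃, -p₄, p₂, p₂+p₄, p₂+p₃, p₁+p₂}` = `{5, 10, 11, 14, 15, 16, 19}`.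
-/

namespace Cfsg.Agent.CtRecT

open Cfsg Cfsg.Lie Cfsg.Agent.Helper7.Chev

variable {K : Type*} [Field K]

/-- The pairs `(r, s)`, `r` one of `5, 10, 11`, whose root elements commute. -/
def tbNilPairsM : List (Fin 24 × Fin 24) :=
  [(5, 10), (5, 11), (10, 11), (5, 14), (5, 15), (5, 16), (10, 14), (10, 15), (10, 19), (11, 14),
    (11, 16), (11, 19)]

/-- The pairs `(r, s)`, `r` one of `5, 10, 11`, whose sum is the root `14`. -/
def tbSumPairsM : List (Fin 24 × Fin 24 × Fin 24 × ℤ) :=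
  [(5, 19, 14, -1), (10, 16, 14, 1), (11, 15, 14, 1)]

set_option maxRecDepth 100000 in
theorem tb_nil_pairsM : ∀ p ∈ tbNilPairsM,
    chevD4.commTerms p.1.val p.2.val = [] ∧ p.2.val ≠ p.1.val ∧ p.2.val ≠ chevD4.neg p.1.val := by
  decide +kernel

set_option maxRecDepth 100000 in
theorem tb_sum_pairsM : ∀ p ∈ tbSumPairsM,
    chevD4.commTerms p.1.val p.2.1.val = [(p.2.2.1.val, p.2.2.2, 1, 1)] ∧ p.2.1.val ≠ p.1.val ∧
      p.2.1.val ≠ chevD4.neg p.1.val := by
  decide +kernel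

theorem tb_swap_nilM {r s : Fin 24} (h : (r, s) ∈ tbNilPairsM) (t u : K) (g : GL chevD4.Idx K) :
    xd s u * (xd r t * g) = xd r t * (xd s u * g) := by
  obtain ⟨h1, h2, h3⟩ := tb_nil_pairsM (r, s) h
  rw [← mul_assoc, xd_comm_nil h2 h3 h1 t u, mul_assoc]

theorem tb_swap_posM {r s q : Fin 24} (h : (r, s, q, (1 : ℤ)) ∈ tbSumPairsM) (t u : K)
    (g : GL chevD4.Idx K) :
    xd s u * (xd r t * g) = xd r t * (xd s u * (xd q (-(t * u)) * g)) := by
  obtain ⟨h1, h2, h3⟩ := tb_sum_pairsM (r, s, q, 1) h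
  have e : ((((1 : ℤ) : K)) * (-t) ^ 1 * u ^ 1) = -(t * u) := by push_cast; ring
  rw [← mul_assoc, xd_comm_single h2 h3 h1 t u, e, mul_assoc, mul_assoc]

theorem tb_swap_negM {r s q : Fin 24} (h : (r, s, q, (-1 : ℤ)) ∈ tbSumPairsM) (t u : K)
    (g : GL chevD4.Idx K) :
    xd s u * (xd r t * g) = xd r t * (xd s u * (xd q (t * u) * g)) := by
  obtain ⟨h1, h2, h3⟩ := tb_sum_pairsM (r, s, q, -1) h
  have e : ((((-1 : ℤ) : K)) * (-t) ^ 1 * u ^ 1) = t * u := by push_cast; ring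
  rw [← mul_assoc, xd_comm_single h2 h3 h1 t u, e, mul_assoc, mul_assoc]

/-- All the sorting rules involving one of the roots `5, 10, 11`. -/
theorem tb_neg_all : ∀ (t u : K) (g : GL chevD4.Idx K),
    (xd 10 u * (xd 5 t * g) = xd 5 t * (xd 10 u * g)) ∧
    (xd 11 u * (xd 5 t * g) = xd 5 t * (xd 11 u * g)) ∧
    (xd 11 u * (xd 10 t * g) = xd 10 t * (xd 11 u * g)) ∧
    (xd 14 u * (xd 5 t * g) = xd 5 t * (xd 14 u * g)) ∧
    (xd 15 u * (xd 5 t * g) = xd 5 t * (xd 15 u * g)) ∧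
    (xd 16 u * (xd 5 t * g) = xd 5 t * (xd 16 u * g)) ∧
    (xd 14 u * (xd 10 t * g) = xd 10 t * (xd 14 u * g)) ∧
    (xd 15 u * (xd 10 t * g) = xd 10 t * (xd 15 u * g)) ∧
    (xd 19 u * (xd 10 t * g) = xd 10 t * (xd 19 u * g)) ∧
    (xd 14 u * (xd 11 t * g) = xd 11 t * (xd 14 u * g)) ∧
    (xd 16 u * (xd 11 t * g) = xd 11 t * (xd 16 u * g)) ∧
    (xd 19 u * (xd 11 t * g) = xd 11 t * (xd 19 u * g)) ∧
    (xd 19 u * (xd 5 t * g) = xd 5 t * (xd 19 u * (xd 14 (t * u) * g))) ∧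
    (xd 16 u * (xd 10 t * g) = xd 10 t * (xd 16 u * (xd 14 (-(t * u)) * g))) ∧
    (xd 15 u * (xd 11 t * g) = xd 11 t * (xd 15 u * (xd 14 (-(t * u)) * g))) :=
  fun t u g => ⟨tb_swap_nilM (by decide) t u g, tb_swap_nilM (by decide) t u g,
    tb_swap_nilM (by decide) t u g, tb_swap_nilM (by decide) t u g, tb_swap_nilM (by decide) t u g,
    tb_swap_nilM (by decide) t u g, tb_swap_nilM (by decide) t u g, tb_swap_nilM (by decide) t u g,
    tb_swap_nilM (by decide) t u g, tb_swap_nilM (by decide) t u g, tb_swap_nilM (by decide) t u g,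
    tb_swap_nilM (by decide) t u g, tb_swap_negM (by decide) t u g, tb_swap_posM (by decide) t u g,
    tb_swap_posM (by decide) t u g⟩

/-- The sorted word in the root elements of `5, 10, 11, 14, 15, 16, 19`. -/
noncomputable def tbM (a5 a10 a11 a14 a15 a16 a19 : K) : GL chevD4.Idx K :=
  xd 5 a5 * (xd 10 a10 * (xd 11 a11 * (xd 14 a14 * (xd 15 a15 * (xd 16 a16 * xd 19 a19)))))

theorem tbM_congr {a5 a10 a11 a14 a15 a16 a19 b5 b10 b11 b14 b15 b16 b19 : K} (h5 : a5 = b5)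
    (h10 : a10 = b10) (h11 : a11 = b11) (h14 : a14 = b14) (h15 : a15 = b15) (h16 : a16 = b16)
    (h19 : a19 = b19) :
    tbM a5 a10 a11 a14 a15 a16 a19 = tbM b5 b10 b11 b14 b15 b16 b19 := by
  rw [h5, h10, h11, h14, h15, h16, h19]

variable (σ : K →+* K)

/-- `x_{-a}(t) = x₅(t) x₁₀(σt) x₁₁(σ²t)`. -/
noncomputable def tbXma (t : K) : GL chevD4.Idx K := xd 5 t * (xd 10 (σ t) * xd 11 (σ (σ t)))

theorem tb_xma_add (t u : K) : tbXma σ t * tbXma σ u = tbXma σ (t + u) := by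
  apply mul_right_cancel (b := tbM (K := K) 0 0 0 0 0 0 0)
  simp only [tbXma, tbM, mul_assoc, tb_pos_all, tb_neg_all, tb_merge, tb_merge']
  all_goals (apply tbM_congr)
  all_goals (try simp only [map_mul, map_add, map_neg])
  all_goals (try ring)

theorem tb_c_ma_b (t w : K) : tbXma σ t * tbYb σ w = tbYb σ w * tbXma σ t := by
  apply mul_right_cancel (b := tbM (K := K) 0 0 0 0 0 0 0)
  simp only [tbXma, tbYb, tbM, mul_assoc, tb_pos_all, tb_neg_all, tb_merge, tb_merge']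
  all_goals (apply tbM_congr)
  all_goals (try simp only [map_mul, map_add, map_neg])
  all_goals (try ring)

theorem tb_r6 (hσ : ∀ t, σ (σ (σ t)) = t) (t s : K) :
    tbXma σ t * tbXab σ s * (tbXma σ t)⁻¹ * (tbXab σ s)⁻¹ = tbYb σ (-(s * t)) := by
  apply tb_comm_of_eq
  apply mul_right_cancel (b := tbM (K := K) 0 0 0 0 0 0 0)
  simp only [tbXma, tbXab, tbYb, tbM, mul_assoc, tb_pos_all, tb_neg_all, tb_merge, tb_merge']
  all_goals (apply tbM_congr)
  all_goals (try simp only [map_mul, map_add, map_neg, hσ])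
  all_goals (try ring)

end Cfsg.Agent.CtRecT
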