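import Mathlib
import Cfsg.Agent.CtRecT.TSysD4C
import Cfsg.Agent.Helper7.TwAutG

set_option autoImplicit false
set_option linter.unusedSectionVars false
set_option linter.unusedVariables false

/-!
S2110, piece P-B, part D (helper8): the torus elements `h_a(μ) = h18(μ) h13(σ μ) h12(σ² μ)` and `h_b(l) = h14(l)` of
`³D₄` inside `GL` (total in the parameter: the value at `0` is `1`), their action on the root elements `xd s v` of `D₄`,
commutation, multiplicativity, exponent, and membership in the twisted group.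
-/

namespace Cfsg.Agent.CtRecT

open Cfsg Cfsg.Lie Cfsg.Agent.Helper7.Chev

variable {K : Type*} [Field K]

/-! ### diagonal elements of `SL₂` -/

theorem tbd_diagSL_mul (a b : K) (ha : a ≠ 0) (hb : b ≠ 0) :
    diagSL a ha * diagSL b hb = diagSL (a * b) (mul_ne_zero ha hb) := by
  apply Subtype.ext
  rw [Matrix.SpecialLinearGroup.coe_mul]
  change !![a, 0; 0, a⁻¹] * !![b, 0; 0, b⁻¹] = !![a * b, 0; 0, (a * b)⁻¹]
  ext i j
  fin_cases i <;> fin_cases j <;> simp [Matrix.mul_apply, Fin.sum_univ_two, mul_comm]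

theorem tbd_diagSL_one : diagSL (1 : K) one_ne_zero = 1 := by
  apply Subtype.ext
  simp only [diagSL, Matrix.SpecialLinearGroup.coe_one]
  ext i j
  fin_cases i <;> fin_cases j <;> simp

theorem tbd_diagSL_congr {a b : K} (h : a = b) (ha : a ≠ 0) (hb : b ≠ 0) :
    diagSL a ha = diagSL b hb := by
  subst h; rfl

/-! ### the elements `h_r(a)` of `D₄`, total in `a` -/

open Classical in
/-- `h_r(a)` as an invertible matrix; `1` at `a = 0`. -/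
noncomputable def tbd_h (r : Fin 24) (a : K) : GL chevD4.Idx K :=
  if h : a = 0 then 1 else hGL d4G1 (d4_lt r.val r.isLt) a h

theorem tbd_h_of_ne (r : Fin 24) {a : K} (ha : a ≠ 0) :
    tbd_h r a = hGL d4G1 (d4_lt r.val r.isLt) a ha := by
  unfold tbd_h
  rw [dif_neg ha]

theorem tbd_h_zero (r : Fin 24) : tbd_h r (0 : K) = 1 := by
  unfold tbd_h
  rw [dif_pos rfl]

theorem tbd_h_eq_phi (r : Fin 24) {a : K} (ha : a ≠ 0) :
    tbd_h r a = phiHom d4G1 (d4_lt r.val r.isLt) (diagSL a ha) := by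
  rw [tbd_h_of_ne r ha]
  rfl

theorem tbd_h_one (r : Fin 24) : tbd_h r (1 : K) = 1 := by
  rw [tbd_h_eq_phi r one_ne_zero, tbd_diagSL_one, map_one]

theorem tbd_h_mul (r : Fin 24) {a b : K} (ha : a ≠ 0) (hb : b ≠ 0) :
    tbd_h r a * tbd_h r b = tbd_h r (a * b) := by
  rw [tbd_h_eq_phi r ha, tbd_h_eq_phi r hb, tbd_h_eq_phi r (mul_ne_zero ha hb), ← map_mul,
    tbd_diagSL_mul]

theorem tbd_h_pow (r : Fin 24) {a : K} (ha : a ≠ 0) (n : ℕ) : tbd_h r a ^ n = tbd_h r (a ^ n) := by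
  induction n with
  | zero => rw [pow_zero, pow_zero, tbd_h_one]
  | succ n ih => rw [pow_succ, ih, tbd_h_mul r (pow_ne_zero n ha) ha, pow_succ]

theorem tbd_h_inv (r : Fin 24) {a : K} (ha : a ≠ 0) : (tbd_h r a)⁻¹ = tbd_h r a⁻¹ := by
  rw [inv_eq_iff_mul_eq_one, tbd_h_mul r ha (inv_ne_zero ha), mul_inv_cancel₀ ha, tbd_h_one]

theorem tbd_h_mem_diag (r : Fin 24) (a : K) : tbd_h r a ∈ chevD4.diagonalSubgroup K := by
  by_cases ha : a = 0
  · rw [ha, tbd_h_zero]; exact one_mem _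
  · rw [tbd_h_of_ne r ha]
    exact Subgroup.subset_closure ⟨r.val, a, r.isLt, ha, hGL_coe d4G1 _ a ha⟩

theorem tbd_h_comm (r s : Fin 24) (a b : K) : tbd_h r a * tbd_h s b = tbd_h s b * tbd_h r a :=
  diagonalSubgroup_comm d4G1 _ (tbd_h_mem_diag r a) _ (tbd_h_mem_diag s b)

/-- the action of `h_r(a)` on `x_s(v)`. -/
theorem tbd_h_conj (r s : Fin 24) {a : K} (ha : a ≠ 0) (v : K) :
    tbd_h r a * xd s v * (tbd_h r a)⁻¹ = xd s (a ^ (tabOf chevD4).pairing r.val s.val * v) := by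
  rw [tbd_h_of_ne r ha]
  exact hGL_conj_xGL good2_D4 _ ha _ v

theorem tbd_h_conj' (r s : Fin 24) (n : ℤ) (hn : (tabOf chevD4).pairing r.val s.val = n) {a : K}
    (ha : a ≠ 0) (v : K) : tbd_h r a * xd s v * (tbd_h r a)⁻¹ = xd s (a ^ n * v) := by
  rw [tbd_h_conj r s ha, hn]

/-! ### the torus elements of `³D₄` -/

/-- `h_a(μ) = h18(μ) h13(σ μ) h12(σ² μ)`. -/
noncomputable def tbHa (σ : K →+* K) (μ : K) : GL chevD4.Idx K :=
  tbd_h 18 μ * tbd_h 13 (σ μ) * tbd_h 12 (σ (σ μ))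

/-- `h_b(l) = h14(l)`. -/
noncomputable def tbHb (l : K) : GL chevD4.Idx K := tbd_h 14 l

variable (σ : K →+* K)

theorem tbHa_mem_diag (μ : K) : tbHa σ μ ∈ chevD4.diagonalSubgroup K :=
  mul_mem (mul_mem (tbd_h_mem_diag _ _) (tbd_h_mem_diag _ _)) (tbd_h_mem_diag _ _)

theorem tbHb_mem_diag (l : K) : tbHb l ∈ chevD4.diagonalSubgroup K := tbd_h_mem_diag _ _

theorem tbd_ha_ha (μ ν : K) : tbHa σ μ * tbHa σ ν = tbHa σ ν * tbHa σ μ :=
  diagonalSubgroup_comm d4G1 _ (tbHa_mem_diag σ μ) _ (tbHa_mem_diag σ ν)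

theorem tbd_ha_hb (μ l : K) : tbHa σ μ * tbHb l = tbHb l * tbHa σ μ :=
  diagonalSubgroup_comm d4G1 _ (tbHa_mem_diag σ μ) _ (tbHb_mem_diag l)

theorem tbd_hb_hb (l l' : K) : tbHb l * tbHb l' = tbHb l' * tbHb l :=
  diagonalSubgroup_comm d4G1 _ (tbHb_mem_diag l) _ (tbHb_mem_diag l')

theorem tbHa_zero : tbHa σ 0 = 1 := by
  unfold tbHa
  rw [map_zero, map_zero, tbd_h_zero, tbd_h_zero, tbd_h_zero, one_mul, one_mul]

theorem tbHb_zero : tbHb (0 : K) = 1 := tbd_h_zero 14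

theorem tbHa_one : tbHa σ 1 = 1 := by
  unfold tbHa
  rw [map_one, map_one, tbd_h_one, tbd_h_one, tbd_h_one, one_mul, one_mul]

theorem tbHb_one : tbHb (1 : K) = 1 := tbd_h_one 14

theorem tbHa_mul {μ ν : K} (hμ : μ ≠ 0) (hν : ν ≠ 0) : tbHa σ μ * tbHa σ ν = tbHa σ (μ * ν) := by
  have h1 : σ μ ≠ 0 := (map_ne_zero σ).mpr hμ
  have h2 : σ (σ μ) ≠ 0 := (map_ne_zero σ).mpr h1
  have h3 : σ ν ≠ 0 := (map_ne_zero σ).mpr hν
  have h4 : σ (σ ν) ≠ 0 := (map_ne_zero σ).mpr h3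
  unfold tbHa
  simp only [map_mul]
  rw [← tbd_h_mul 18 hμ hν, ← tbd_h_mul 13 h1 h3, ← tbd_h_mul 12 h2 h4]
  have c1 := tbd_h_comm 12 18 (σ (σ μ)) ν
  have c2 := tbd_h_comm 12 13 (σ (σ μ)) (σ ν)
  have c3 := tbd_h_comm 13 18 (σ μ) ν
  calc tbd_h 18 μ * tbd_h 13 (σ μ) * tbd_h 12 (σ (σ μ)) * (tbd_h 18 ν * tbd_h 13 (σ ν) * tbd_h 12 (σ (σ ν)))
      = tbd_h 18 μ * tbd_h 13 (σ μ) * (tbd_h 12 (σ (σ μ)) * tbd_h 18 ν) * tbd_h 13 (σ ν) * tbd_h 12 (σ (σ ν)) := by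
        simp only [mul_assoc]
    _ = tbd_h 18 μ * (tbd_h 13 (σ μ) * tbd_h 18 ν) * (tbd_h 12 (σ (σ μ)) * tbd_h 13 (σ ν)) * tbd_h 12 (σ (σ ν)) := by
        rw [c1]; simp only [mul_assoc]
    _ = tbd_h 18 μ * tbd_h 18 ν * (tbd_h 13 (σ μ) * tbd_h 13 (σ ν)) * (tbd_h 12 (σ (σ μ)) * tbd_h 12 (σ (σ ν))) := by
        rw [c3, c2]; simp only [mul_assoc]

theorem tbHb_mul {l l' : K} (hl : l ≠ 0) (hl' : l' ≠ 0) : tbHb l * tbHb l' = tbHb (l * l') :=
  tbd_h_mul 14 hl hl'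

theorem tbHa_pow {μ : K} (hμ : μ ≠ 0) (n : ℕ) : tbHa σ μ ^ n = tbHa σ (μ ^ n) := by
  induction n with
  | zero => rw [pow_zero, pow_zero, tbHa_one]
  | succ n ih => rw [pow_succ, ih, tbHa_mul σ (pow_ne_zero n hμ) hμ, pow_succ]

theorem tbHb_pow {l : K} (hl : l ≠ 0) (n : ℕ) : tbHb l ^ n = tbHb (l ^ n) := tbd_h_pow 14 hl n

theorem tbHa_inv {μ : K} (hμ : μ ≠ 0) : (tbHa σ μ)⁻¹ = tbHa σ μ⁻¹ := by
  rw [inv_eq_iff_mul_eq_one, tbHa_mul σ hμ (inv_ne_zero hμ), mul_inv_cancel₀ hμ, tbHa_one]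

theorem tbHb_inv {l : K} (hl : l ≠ 0) : (tbHb l)⁻¹ = tbHb l⁻¹ := tbd_h_inv 14 hl

/-- the exponent of the torus. -/
theorem tbd_ha_pow [Fintype K] {μ : K} (hμ : μ ≠ 0) : tbHa σ μ ^ (Fintype.card K - 1) = 1 := by
  rw [tbHa_pow σ hμ, FiniteField.pow_card_sub_one_eq_one μ hμ, tbHa_one]

theorem tbd_hb_pow [Fintype K] {l : K} (hl : l ≠ 0) : tbHb l ^ (Fintype.card K - 1) = 1 := by
  rw [tbHb_pow hl, FiniteField.pow_card_sub_one_eq_one l hl, tbHb_one]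

/-- the exponent of the torus, for any exponent `m` of the multiplicative group of `K`. -/
theorem tbd_ha_pow_of (m : ℕ) (hm : ∀ a : K, a ≠ 0 → a ^ m = 1) {μ : K} (hμ : μ ≠ 0) :
    tbHa σ μ ^ m = 1 := by
  rw [tbHa_pow σ hμ, hm μ hμ, tbHa_one]

theorem tbd_hb_pow_of (m : ℕ) (hm : ∀ a : K, a ≠ 0 → a ^ m = 1) {l : K} (hl : l ≠ 0) :
    tbHb l ^ m = 1 := by
  rw [tbHb_pow hl, hm l hl, tbHb_one]

/-! ### the action on the root elements of `D₄` -/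

theorem tbd_conj3 (A B C x : GL chevD4.Idx K) :
    A * B * C * x * (A * B * C)⁻¹ = A * (B * (C * x * C⁻¹) * B⁻¹) * A⁻¹ := by group

/-- the action of `h_a(μ)` on `x_s(v)`. -/
theorem tbd_ha_conj (s : Fin 24) (n1 n2 n3 : ℤ) (h1 : (tabOf chevD4).pairing 18 s.val = n1)
    (h2 : (tabOf chevD4).pairing 13 s.val = n2) (h3 : (tabOf chevD4).pairing 12 s.val = n3)
    {μ : K} (hμ : μ ≠ 0) (v : K) :
    tbHa σ μ * xd s v * (tbHa σ μ)⁻¹ = xd s (μ ^ n1 * ((σ μ) ^ n2 * ((σ (σ μ)) ^ n3 * v))) := by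
  have e1 : σ μ ≠ 0 := (map_ne_zero σ).mpr hμ
  have e2 : σ (σ μ) ≠ 0 := (map_ne_zero σ).mpr e1
  unfold tbHa
  rw [tbd_conj3, tbd_h_conj' 12 s n3 h3 e2, tbd_h_conj' 13 s n2 h2 e1, tbd_h_conj' 18 s n1 h1 hμ]

/-- the action of `h_b(l)` on `x_s(v)`. -/
theorem tbd_hb_conj (s : Fin 24) (n : ℤ) (h : (tabOf chevD4).pairing 14 s.val = n)
    {l : K} (hl : l ≠ 0) (v : K) : tbHb l * xd s v * (tbHb l)⁻¹ = xd s (l ^ n * v) :=
  tbd_h_conj' 14 s n h hl v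

/-! ### the action on the root elements of `³D₄` -/

theorem tbd_conj_mul3 (h A B C : GL chevD4.Idx K) :
    h * (A * (B * C)) * h⁻¹ = (h * A * h⁻¹) * ((h * B * h⁻¹) * (h * C * h⁻¹)) := by group

theorem tbd_congr3 (r s q : Fin 24) {a a' b b' c c' : K} (ha : a = a') (hb : b = b') (hc : c = c') :
    xd r a * (xd s b * xd q c) = xd r a' * (xd s b' * xd q c') := by
  subst ha; subst hb; subst hc; rfl

section ha

variable {μ : K} (hμ : μ ≠ 0)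

include hμ

theorem tbd_ha_xa (t : K) : tbHa σ μ * tbXa σ t * (tbHa σ μ)⁻¹ = tbXa σ (μ ^ 2 * t) := by
  have e1 : σ μ ≠ 0 := (map_ne_zero σ).mpr hμ
  have e2 : σ (σ μ) ≠ 0 := (map_ne_zero σ).mpr e1
  unfold tbXa
  rw [tbd_conj_mul3, tbd_ha_conj σ 18 2 0 0 (by decide) (by decide) (by decide) hμ,
    tbd_ha_conj σ 13 0 2 0 (by decide) (by decide) (by decide) hμ,
    tbd_ha_conj σ 12 0 0 2 (by decide) (by decide) (by decide) hμ]
  apply tbd_congr3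
  · simp only [zpow_ofNat, pow_zero, one_mul]
  · simp only [zpow_ofNat, pow_zero, one_mul, map_mul, map_pow]
  · simp only [zpow_ofNat, pow_zero, one_mul, map_mul, map_pow]

theorem tbd_ha_xma (t : K) : tbHa σ μ * tbXma σ t * (tbHa σ μ)⁻¹ = tbXma σ ((μ ^ 2)⁻¹ * t) := by
  have e1 : σ μ ≠ 0 := (map_ne_zero σ).mpr hμ
  have e2 : σ (σ μ) ≠ 0 := (map_ne_zero σ).mpr e1
  unfold tbXma
  rw [tbd_conj_mul3, tbd_ha_conj σ 5 (-2) 0 0 (by decide) (by decide) (by decide) hμ,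
    tbd_ha_conj σ 10 0 (-2) 0 (by decide) (by decide) (by decide) hμ,
    tbd_ha_conj σ 11 0 0 (-2) (by decide) (by decide) (by decide) hμ]
  apply tbd_congr3
  · simp only [zpow_neg, zpow_ofNat, pow_zero, one_mul]
  · simp only [zpow_neg, zpow_ofNat, pow_zero, one_mul, map_mul, map_pow, map_inv₀]
  · simp only [zpow_neg, zpow_ofNat, pow_zero, one_mul, map_mul, map_pow, map_inv₀]

theorem tbd_ha_xab (hσ : ∀ t, σ (σ (σ t)) = t) (t : K) :
    tbHa σ μ * tbXab σ t * (tbHa σ μ)⁻¹ = tbXab σ (μ ^ 2 * (μ * σ μ * σ (σ μ))⁻¹ * t) := by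
  have e1 : σ μ ≠ 0 := (map_ne_zero σ).mpr hμ
  have e2 : σ (σ μ) ≠ 0 := (map_ne_zero σ).mpr e1
  unfold tbXab
  rw [tbd_conj_mul3, tbd_ha_conj σ 19 1 (-1) (-1) (by decide) (by decide) (by decide) hμ,
    tbd_ha_conj σ 16 (-1) 1 (-1) (by decide) (by decide) (by decide) hμ,
    tbd_ha_conj σ 15 (-1) (-1) 1 (by decide) (by decide) (by decide) hμ]
  apply tbd_congr3
  · simp only [zpow_one, zpow_neg_one]
    field_simp
  · simp only [zpow_one, zpow_neg_one, map_mul, map_pow, map_inv₀, hσ]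
    field_simp
  · simp only [zpow_one, zpow_neg_one, map_mul, map_pow, map_inv₀, hσ]
    field_simp

theorem tbd_ha_x2ab (hσ : ∀ t, σ (σ (σ t)) = t) (t : K) :
    tbHa σ μ * tbX2ab σ t * (tbHa σ μ)⁻¹ =
      tbX2ab σ (μ * σ μ * σ (σ μ) * (σ (σ μ) ^ 2)⁻¹ * t) := by
  have e1 : σ μ ≠ 0 := (map_ne_zero σ).mpr hμ
  have e2 : σ (σ μ) ≠ 0 := (map_ne_zero σ).mpr e1
  unfold tbX2ab
  rw [tbd_conj_mul3, tbd_ha_conj σ 21 1 1 (-1) (by decide) (by decide) (by decide) hμ,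
    tbd_ha_conj σ 17 (-1) 1 1 (by decide) (by decide) (by decide) hμ,
    tbd_ha_conj σ 20 1 (-1) 1 (by decide) (by decide) (by decide) hμ]
  apply tbd_congr3
  · simp only [zpow_one, zpow_neg_one]
    field_simp
  · simp only [zpow_one, zpow_neg_one, map_mul, map_pow, map_inv₀, hσ]
    field_simp
  · simp only [zpow_one, zpow_neg_one, map_mul, map_pow, map_inv₀, hσ]
    field_simp

theorem tbd_ha_yb (hσ : ∀ t, σ (σ (σ t)) = t) (w : K) :
    tbHa σ μ * tbYb σ w * (tbHa σ μ)⁻¹ = tbYb σ ((μ * σ μ * σ (σ μ))⁻¹ * w) := by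
  have e1 : σ μ ≠ 0 := (map_ne_zero σ).mpr hμ
  have e2 : σ (σ μ) ≠ 0 := (map_ne_zero σ).mpr e1
  unfold tbYb
  rw [tbd_ha_conj σ 14 (-1) (-1) (-1) (by decide) (by decide) (by decide) hμ]
  congr 1
  simp only [zpow_neg_one, map_mul, map_inv₀, hσ]
  field_simp

theorem tbd_ha_y3ab (hσ : ∀ t, σ (σ (σ t)) = t) (w : K) :
    tbHa σ μ * tbY3ab σ w * (tbHa σ μ)⁻¹ = tbY3ab σ (μ * σ μ * σ (σ μ) * w) := by
  unfold tbY3ab
  rw [tbd_ha_conj σ 22 1 1 1 (by decide) (by decide) (by decide) hμ]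
  congr 1
  simp only [zpow_one, map_mul, hσ]
  ring

theorem tbd_ha_y3a2b (w : K) : tbHa σ μ * tbY3a2b σ w * (tbHa σ μ)⁻¹ = tbY3a2b σ w := by
  unfold tbY3a2b
  rw [tbd_ha_conj σ 23 0 0 0 (by decide) (by decide) (by decide) hμ]
  congr 1
  simp only [zpow_zero, one_mul]

end ha

section hb

variable {l : K} (hl : l ≠ 0) (hfix : σ l = l)

include hl hfix

theorem tbd_hb_xa (t : K) : tbHb l * tbXa σ t * (tbHb l)⁻¹ = tbXa σ (l⁻¹ * t) := by
  unfold tbXa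
  rw [tbd_conj_mul3, tbd_hb_conj 18 (-1) (by decide) hl, tbd_hb_conj 13 (-1) (by decide) hl,
    tbd_hb_conj 12 (-1) (by decide) hl]
  apply tbd_congr3
  · simp only [zpow_neg_one]
  · simp only [zpow_neg_one, map_mul, map_inv₀, hfix]
  · simp only [zpow_neg_one, map_mul, map_inv₀, hfix]

theorem tbd_hb_xab (t : K) : tbHb l * tbXab σ t * (tbHb l)⁻¹ = tbXab σ (l * t) := by
  unfold tbXab
  rw [tbd_conj_mul3, tbd_hb_conj 19 1 (by decide) hl, tbd_hb_conj 16 1 (by decide) hl,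
    tbd_hb_conj 15 1 (by decide) hl]
  apply tbd_congr3
  · simp only [zpow_one]
  · simp only [zpow_one, map_mul, hfix, mul_neg]
  · simp only [zpow_one, map_mul, hfix, mul_neg]

theorem tbd_hb_x2ab (t : K) : tbHb l * tbX2ab σ t * (tbHb l)⁻¹ = tbX2ab σ t := by
  unfold tbX2ab
  rw [tbd_conj_mul3, tbd_hb_conj 21 0 (by decide) hl, tbd_hb_conj 17 0 (by decide) hl,
    tbd_hb_conj 20 0 (by decide) hl]
  apply tbd_congr3
  · simp only [zpow_zero, one_mul]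
  · simp only [zpow_zero, one_mul]
  · simp only [zpow_zero, one_mul]

theorem tbd_hb_xma (t : K) : tbHb l * tbXma σ t * (tbHb l)⁻¹ = tbXma σ (l * t) := by
  unfold tbXma
  rw [tbd_conj_mul3, tbd_hb_conj 5 1 (by decide) hl, tbd_hb_conj 10 1 (by decide) hl,
    tbd_hb_conj 11 1 (by decide) hl]
  apply tbd_congr3
  · simp only [zpow_one]
  · simp only [zpow_one, map_mul, hfix]
  · simp only [zpow_one, map_mul, hfix]

theorem tbd_hb_yb (w : K) : tbHb l * tbYb σ w * (tbHb l)⁻¹ = tbYb σ (l ^ 2 * w) := by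
  unfold tbYb
  rw [tbd_hb_conj 14 2 (by decide) hl]
  congr 1
  simp only [zpow_ofNat, map_mul, map_pow, hfix]
  ring

theorem tbd_hb_y3ab (w : K) : tbHb l * tbY3ab σ w * (tbHb l)⁻¹ = tbY3ab σ (l⁻¹ * w) := by
  unfold tbY3ab
  rw [tbd_hb_conj 22 (-1) (by decide) hl]
  congr 1
  simp only [zpow_neg_one, map_mul, map_inv₀, hfix]
  ring

theorem tbd_hb_y3a2b (w : K) : tbHb l * tbY3a2b σ w * (tbHb l)⁻¹ = tbY3a2b σ (l * w) := by
  unfold tbY3a2b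
  rw [tbd_hb_conj 23 1 (by decide) hl]
  congr 1
  simp only [zpow_one, map_mul, hfix]
  ring

end hb

/-! ### the torus elements as images of the diagonal elements of `SL₂`, membership in the twisted group -/

section mem

variable (f : K ≃+* K)

/-- a factor of `h_S(a)` as a matrix. -/
theorem tbd_clsFactor_diag (i j : ℕ) (hi : (fun i => [2, 1, 3, 0].getD i 0)^[j] i < chevD4.rank)
    {a : K} (ha : a ≠ 0) :
    ((clsFactor d4G1 (fun i => [2, 1, 3, 0].getD i 0) f i j (diagSL a ha) : GL chevD4.Idx K) :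
        Matrix chevD4.Idx chevD4.Idx K) =
      chevD4.hMat K (clsRoot chevD4 (fun i => [2, 1, 3, 0].getD i 0) i j) ((((f : K →+* K)) ^ j) a) := by
  have hF : clsFactor d4G1 (fun i => [2, 1, 3, 0].getD i 0) f i j (diagSL a ha) =
      hGL d4G1 (d4G1.simple_lt hi) ((((f : K →+* K)) ^ j) a)
        ((map_ne_zero (((f : K →+* K)) ^ j)).mpr ha) := by
    unfold clsFactor
    rw [MonoidHom.comp_apply, phiS_of_lt d4G1 hi, map_diagSL]
    rfl
  rw [hF, hGL_coe]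
  rfl

theorem tbd_h_coe (r : Fin 24) {a : K} (ha : a ≠ 0) :
    ((tbd_h r a : GL chevD4.Idx K) : Matrix chevD4.Idx chevD4.Idx K) = chevD4.hMat K r.val a := by
  rw [tbd_h_of_ne r ha, hGL_coe]

/-- `h_a(μ)` is the image of `diag(μ, μ⁻¹)` under the homomorphism of the class `(0, 3)`. -/
theorem tbHa_eq_clsHom {μ : K} (hμ : μ ≠ 0) :
    tbHa (f : K →+* K) μ =
      clsHom good2_D4 T3_D4 T4_D4 T19_D4 f (c := (0, 3)) (by decide) (diagSL μ hμ) := by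
  have e1 : (f : K →+* K) μ ≠ 0 := (map_ne_zero (f : K →+* K)).mpr hμ
  have e2 : (f : K →+* K) ((f : K →+* K) μ) ≠ 0 := (map_ne_zero (f : K →+* K)).mpr e1
  rw [clsHom_apply]
  change _ = clsFactor d4G1 _ f 0 0 (diagSL μ hμ) * (clsFactor d4G1 _ f 0 1 (diagSL μ hμ) *
    (clsFactor d4G1 _ f 0 2 (diagSL μ hμ) * 1))
  rw [mul_one, ← mul_assoc]
  unfold tbHa
  have a0 : tbd_h 18 μ = clsFactor d4G1 (fun i => [2, 1, 3, 0].getD i 0) f 0 0 (diagSL μ hμ) := by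
    apply Units.ext
    rw [tbd_h_coe 18 hμ, tbd_clsFactor_diag f 0 0 (by decide) hμ]
    rfl
  have a1 : tbd_h 13 ((f : K →+* K) μ) =
      clsFactor d4G1 (fun i => [2, 1, 3, 0].getD i 0) f 0 1 (diagSL μ hμ) := by
    apply Units.ext
    rw [tbd_h_coe 13 e1, tbd_clsFactor_diag f 0 1 (by decide) hμ]
    rfl
  have a2 : tbd_h 12 ((f : K →+* K) ((f : K →+* K) μ)) =
      clsFactor d4G1 (fun i => [2, 1, 3, 0].getD i 0) f 0 2 (diagSL μ hμ) := by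
    apply Units.ext
    rw [tbd_h_coe 12 e2, tbd_clsFactor_diag f 0 2 (by decide) hμ]
    rfl
  rw [a0, a1, a2]

/-- `h_b(l)` is the image of `diag(l, l⁻¹)` under the homomorphism of the class `(1, 1)`. -/
theorem tbHb_eq_clsHom {l : K} (hl : l ≠ 0) :
    tbHb l = clsHom good2_D4 T3_D4 T4_D4 T19_D4 f (c := (1, 1)) (by decide) (diagSL l hl) := by
  rw [clsHom_apply]
  change _ = clsFactor d4G1 _ f 1 0 (diagSL l hl) * 1
  rw [mul_one]
  unfold tbHb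
  apply Units.ext
  rw [tbd_h_coe 14 hl, tbd_clsFactor_diag f 1 0 (by decide) hl]
  rfl

theorem tbd_ha_mem (hf3 : ∀ t, (((f : K →+* K)) ^ 3) t = t) (μ : K) :
    tbHa (f : K →+* K) μ ∈ twGroup good2_D4 T3_D4 T4_D4 T19_D4 f := by
  by_cases hμ : μ = 0
  · rw [hμ, tbHa_zero]; exact one_mem _
  · rw [tbHa_eq_clsHom f hμ]
    exact diag_mem_twGroup good2_D4 T3_D4 T4_D4 T19_D4 f _ hμ (hf3 μ)

theorem tbd_hb_mem (l : K) (hl : f l = l) :
    tbHb l ∈ twGroup good2_D4 T3_D4 T4_D4 T19_D4 f := by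
  by_cases h0 : l = 0
  · rw [h0, tbHb_zero]; exact one_mem _
  · rw [tbHb_eq_clsHom f h0]
    exact diag_mem_twGroup good2_D4 T3_D4 T4_D4 T19_D4 f _ h0 ((adm_one_iff f l).mpr hl)

end mem

end Cfsg.Agent.CtRecT
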