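import Mathlib
import Cfsg.Agent.CtRecT.TSysD4D
import Cfsg.Agent.Helper7.ChevTw10

set_option autoImplicit false
set_option linter.unusedSectionVars false
set_option linter.unusedVariables false

/-!
# S2110, P-D (helper8): the rank one families of `³D₄` as explicit products of root elements of `D₄`, and the
mixed torus actions `tor_ab`, `tor_ba` at the `GL` level

* `tax_up_a`, `tax_lo_a`, `tax_up_b`, `tax_lo_b`: the images of `upperSL t`, `lowerSL t` under the class homomorphisms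
  of the classes `a = (0, 3)` and `b = (1, 1)` are `tbXa ↑f t`, `tbXma ↑f t`, `xd 14 t`, `xd 9 t`.
* `tax_tor_ab_up`, `tax_tor_ab_lo`: `h_a(t)` acts on `x_{±b}(u)` through `N(t)^{∓1}`.
* `tax_tor_ba_up`, `tax_tor_ba_lo`: `h_b(l)` acts on `x_{±a}(u)` through `l^{∓1}`.
-/

namespace Cfsg.Agent.CtRecT

open Cfsg Cfsg.Lie Cfsg.Agent.Helper7.Chev

variable {K : Type*} [Field K] (f : K ≃+* K)

theorem tax_cls_a : ((0, 3) : ℕ × ℕ) ∈ clsD4 := by decide

theorem tax_cls_b : ((1, 1) : ℕ × ℕ) ∈ clsD4 := by decide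

/-- `x_a(t) = x18(t) x13(f t) x12(f² t)`. -/
theorem tax_up_a (t : K) :
    clsHom good2_D4 T3_D4 T4_D4 T19_D4 f tax_cls_a (upperSL t) = tbXa (f : K →+* K) t := by
  apply Units.ext
  rw [clsHom_upper_coe, upWord_three, clsRoot_D4_00, clsRoot_D4_01, clsRoot_D4_02]
  unfold tbXa
  rw [Units.val_mul, Units.val_mul, xd_coe, xd_coe, xd_coe]
  simp only [ChevalleyDatum.wordMat, List.map_cons, List.map_nil, List.prod_cons, List.prod_nil, mul_one]
  rfl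

/-- `x_{-a}(t) = x5(t) x10(f t) x11(f² t)`. -/
theorem tax_lo_a (t : K) :
    clsHom good2_D4 T3_D4 T4_D4 T19_D4 f tax_cls_a (lowerSL t) = tbXma (f : K →+* K) t := by
  apply Units.ext
  rw [clsHom_lower_coe, loWord_three, clsRoot_D4_00, clsRoot_D4_01, clsRoot_D4_02, neg_D4_p1,
    neg_D4_p3, neg_D4_p4]
  unfold tbXma
  rw [Units.val_mul, Units.val_mul, xd_coe, xd_coe, xd_coe]
  simp only [ChevalleyDatum.wordMat, List.map_cons, List.map_nil, List.prod_cons, List.prod_nil, mul_one]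
  rfl

/-- `x_b(t) = x14(t)`. -/
theorem tax_up_b (t : K) :
    clsHom good2_D4 T3_D4 T4_D4 T19_D4 f tax_cls_b (upperSL t) = xd 14 t := by
  apply Units.ext
  rw [clsHom_upper_coe, upWord_one, clsRoot_D4_10, xd_coe]
  simp only [ChevalleyDatum.wordMat, List.map_cons, List.map_nil, List.prod_cons, List.prod_nil, mul_one]
  rfl

/-- `x_{-b}(t) = x9(t)`. -/
theorem tax_lo_b (t : K) :
    clsHom good2_D4 T3_D4 T4_D4 T19_D4 f tax_cls_b (lowerSL t) = xd 9 t := by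
  apply Units.ext
  rw [clsHom_lower_coe, loWord_one, clsRoot_D4_10, neg_D4_p2, xd_coe]
  simp only [ChevalleyDatum.wordMat, List.map_cons, List.map_nil, List.prod_cons, List.prod_nil, mul_one]
  rfl

/-! ### `tor_ab` -/

/-- `h_a(t) x_b(u) h_a(t)⁻¹ = x_b(N(t)⁻¹ u)`. -/
theorem tax_tor_ab_up {t : K} (ht : t ≠ 0) (u : K) :
    tbHa (f : K →+* K) t * clsHom good2_D4 T3_D4 T4_D4 T19_D4 f tax_cls_b (upperSL u) *
        (tbHa (f : K →+* K) t)⁻¹ =
      clsHom good2_D4 T3_D4 T4_D4 T19_D4 f tax_cls_b (upperSL ((t * f t * f (f t))⁻¹ * u)) := by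
  rw [tax_up_b, tax_up_b,
    tbd_ha_conj (f : K →+* K) 14 (-1) (-1) (-1) (by decide) (by decide) (by decide) ht]
  congr 1
  simp only [zpow_neg_one, RingEquiv.coe_toRingHom, mul_inv]
  ring

/-- `h_a(t) x_{-b}(u) h_a(t)⁻¹ = x_{-b}(N(t) u)`. -/
theorem tax_tor_ab_lo {t : K} (ht : t ≠ 0) (u : K) :
    tbHa (f : K →+* K) t * clsHom good2_D4 T3_D4 T4_D4 T19_D4 f tax_cls_b (lowerSL u) *
        (tbHa (f : K →+* K) t)⁻¹ =
      clsHom good2_D4 T3_D4 T4_D4 T19_D4 f tax_cls_b (lowerSL (((t * f t * f (f t))⁻¹)⁻¹ * u)) := by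
  rw [tax_lo_b, tax_lo_b,
    tbd_ha_conj (f : K →+* K) 9 1 1 1 (by decide) (by decide) (by decide) ht]
  congr 1
  simp only [zpow_one, RingEquiv.coe_toRingHom, inv_inv]
  ring

/-- the norm is fixed by `f`. -/
theorem tax_nm_fix (hf3 : ∀ t : K, f (f (f t)) = t) (t : K) :
    f ((t * f t * f (f t))⁻¹) = (t * f t * f (f t))⁻¹ := by
  rw [map_inv₀, map_mul, map_mul, hf3]
  congr 1
  ring

/-! ### `tor_ba` -/

/-- `h_b(l) x_a(u) h_b(l)⁻¹ = x_a(l⁻¹ u)`. -/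
theorem tax_tor_ba_up {l : K} (hl : l ≠ 0) (hfl : f l = l) (u : K) :
    tbHb l * clsHom good2_D4 T3_D4 T4_D4 T19_D4 f tax_cls_a (upperSL u) * (tbHb l)⁻¹ =
      clsHom good2_D4 T3_D4 T4_D4 T19_D4 f tax_cls_a (upperSL (l⁻¹ * u)) := by
  rw [tax_up_a, tax_up_a]
  exact tbd_hb_xa (f : K →+* K) hl hfl u

/-- `h_b(l) x_{-a}(u) h_b(l)⁻¹ = x_{-a}(l u)`. -/
theorem tax_tor_ba_lo {l : K} (hl : l ≠ 0) (hfl : f l = l) (u : K) :
    tbHb l * clsHom good2_D4 T3_D4 T4_D4 T19_D4 f tax_cls_a (lowerSL u) * (tbHb l)⁻¹ =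
      clsHom good2_D4 T3_D4 T4_D4 T19_D4 f tax_cls_a (lowerSL ((l⁻¹)⁻¹ * u)) := by
  rw [tax_lo_a, tax_lo_a, inv_inv]
  exact tbd_hb_xma (f : K →+* K) hl hfl u

end Cfsg.Agent.CtRecT
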