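import Mathlib
import Cfsg.Agent.CtRecT.TAmbCox
import Cfsg.Agent.CtRecT.TAmbX

set_option autoImplicit false
set_option linter.unusedSectionVars false
set_option linter.unusedVariables false

/-!
# S2110, P-D (BR, helper2): the braid relation of `³D₄` downstairs

`n = n_b n_a n_b n_a n_b` centralizes `x_a(t)` and `x_{-a}(t)`: `n` is the element `nWordGL` of the word
`[1,0,2,3,1,0,2,3,1]`, which fixes the six roots `18, 13, 12, 5, 10, 11` with sign `+1`.
-/

namespace Cfsg.Agent.CtRecT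

open Cfsg Cfsg.Lie Matrix Cfsg.Agent.Helper7.Chev

variable {K : Type*} [Field K] (f : K ≃+* K)

/-- the word of `n_b n_a n_b n_a n_b` -/
abbrev tabrWord : List ℕ := [1, 0, 2, 3, 1, 0, 2, 3, 1]

theorem tabr_word_eq :
    tgNb f * tgNa f * tgNb f * tgNa f * tgNb f = nWordGL good2_D4 tabrWord := by
  rw [tacx_na_eq, tacx_nb_eq, ← nWordGL_append, ← nWordGL_append, ← nWordGL_append,
    ← nWordGL_append]
  rfl

theorem tabr_xGL_congr {r r' : ℕ} (h : r = r') (hr : r < chevD4.nroots)
    (hr' : r' < chevD4.nroots) {a a' : K} (ha : a = a') :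
    xGL d4G1 hr a = xGL d4G1 hr' a' := by
  subst h; subst ha; rfl

theorem tabrWord_lt : ∀ i ∈ tabrWord, i < chevD4.rank := by decide

/-- `n` centralizes the root elements of the roots it fixes with sign `+1` -/
theorem tabr_conj_xd (r : Fin 24) (hrefl : fastD4.reflWord tabrWord r.val = r.val)
    (heta : fastD4.etaWord tabrWord r.val = 1) (a : K) :
    nWordGL good2_D4 tabrWord * xd r a * (nWordGL good2_D4 tabrWord)⁻¹ = xd r a := by
  have h := nWordGL_conj good2_D4 tabrWord_lt (d4_lt r.val r.isLt) a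
  unfold xd
  refine h.trans ?_
  apply tabr_xGL_congr
  · rw [tab_D4]; exact hrefl
  · rw [tab_D4, heta]; simp

theorem tabr_conj3 {G : Type*} [Group G] (n a b c : G) (ha : n * a * n⁻¹ = a)
    (hb : n * b * n⁻¹ = b) (hc : n * c * n⁻¹ = c) : n * (a * (b * c)) * n⁻¹ = a * (b * c) := by
  calc n * (a * (b * c)) * n⁻¹ = (n * a * n⁻¹) * ((n * b * n⁻¹) * (n * c * n⁻¹)) := by group
    _ = a * (b * c) := by rw [ha, hb, hc]

theorem tabr_up (t : K) :
    (tgNb f * tgNa f * tgNb f * tgNa f * tgNb f) * tgPhiA f (upperSL t) *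
      (tgNb f * tgNa f * tgNb f * tgNa f * tgNb f)⁻¹ = tgPhiA f (upperSL t) := by
  have e : tgPhiA f (upperSL t) = tbXa (f : K →+* K) t := tax_up_a f t
  rw [tabr_word_eq, e]
  unfold tbXa
  exact tabr_conj3 _ _ _ _ (tabr_conj_xd 18 (by decide) (by decide) _)
    (tabr_conj_xd 13 (by decide) (by decide) _) (tabr_conj_xd 12 (by decide) (by decide) _)

theorem tabr_lo (t : K) :
    (tgNb f * tgNa f * tgNb f * tgNa f * tgNb f) * tgPhiA f (lowerSL t) *
      (tgNb f * tgNa f * tgNb f * tgNa f * tgNb f)⁻¹ = tgPhiA f (lowerSL t) := by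
  have e : tgPhiA f (lowerSL t) = tbXma (f : K →+* K) t := tax_lo_a f t
  rw [tabr_word_eq, e]
  unfold tbXma
  exact tabr_conj3 _ _ _ _ (tabr_conj_xd 5 (by decide) (by decide) _)
    (tabr_conj_xd 10 (by decide) (by decide) _) (tabr_conj_xd 11 (by decide) (by decide) _)

end Cfsg.Agent.CtRecT
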