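import Mathlib
import Cfsg.Agent.Helper7.ChevTw9
import Cfsg.Agent.Helper7.ChevTwD4

set_option autoImplicit false
set_option linter.unusedSectionVars false
set_option linter.unusedVariables false

/-!
S2110, piece P-D (DICH) (helper7): the `N`-side facts downstairs.
For a twisted group `twGroup hG h3 h4 h19 f` (generic):
* `tadi_conj_mem_of_pos`, `tadi_dich_gen`: the dichotomy for the elements of `N¹`;
* `tadi_B_inf_N_gen`, `tadi_U_inf_H_gen`: `U¹ H¹ ∩ N¹ ⊆ H¹`, `U¹ ∩ H¹ = 1`.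
For `³D₄`: `tadi_dich`, `tadi_B_inf_N`, `tadi_U_inf_H`.
-/

namespace Cfsg.Agent.CtRecT

open Cfsg Cfsg.Lie Matrix Cfsg.Agent.Helper7.Chev

variable {D : ChevalleyDatum} {K : Type*} [Field K]

section tw

variable (hG : Good2 D) (hT : T0 D) (h3 : (tabOf D).T3) (h4 : (tabOf D).T4 60) (h5 : (tabOf D).T5)
  (h6 : (tabOf D).T6) (h7 : (tabOf D).T7) (h8 : (tabOf D).T8) (h9 : (tabOf D).T9)
  {ρ ρ' σ σ' : ℕ → ℕ} {ε : ℕ → ℤ} (h18 : T18 D ρ ρ' σ σ' ε) {cls : List (ℕ × ℕ)}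
  (h19 : T19 D ρ σ cls) (h20 : (tabOf D).T20 ρ cls) (f : K ≃+* K)

include hT h5 h6 h7 h8 h18 h20 in
/-- an element `n = h · n_w` of `N¹` sending the roots of a class to positive roots conjugates the root elements of the class into
`U¹`. -/
theorem tadi_conj_mem_of_pos {c : ℕ × ℕ} (hc : c ∈ cls) {h : GL D.Idx K}
    (hh : h ∈ D.diagonalSubgroup K) {w : List ℕ} (hw : ∀ i ∈ w, i < D.rank)
    (hnG : h * nWordGL hG w ∈ twGroup hG h3 h4 h19 f)
    (hpos : ∀ j < c.2, D.nroots / 2 ≤ (tabOf D).reflWord w.reverse (clsRoot D ρ c.1 j))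
    {t : K} (ht : Adm f c.2 t) :
    (h * nWordGL hG w)⁻¹ * clsHom hG h3 h4 h19 f hc (upperSL t) * (h * nWordGL hG w) ∈
      twU hG h3 h4 h19 f := by
  have hG1 := hG.toGood1
  obtain ⟨hm, horb, hlt⟩ := h19.orbit c hc
  have hxG := upper_mem_twGroup hG h3 h4 h19 f hc ht
  rw [mem_twU]
  refine ⟨?_, mul_mem (mul_mem (inv_mem hnG) hxG) hnG⟩
  rw [clsHom_upper, xiHom_apply]
  apply conj_list_prod_mem
  intro x hx
  rw [List.mem_map] at hx
  obtain ⟨j, hj, rfl⟩ := hx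
  rw [List.mem_range] at hj
  have hp : clsRoot D ρ c.1 j < D.nroots := hG1.simple_lt (hlt j hj)
  rw [xGL'_of_lt hG1 hp]
  obtain ⟨hr, t', e, _⟩ := nW_inv_conj (K := K) hG hT h8 hh hw hp
    ((Multiplicative.toAdd (Multiplicative.ofAdd fun j => (((f : K →+* K)) ^ j) t)) j)
  rw [e]
  exact Subgroup.subset_closure ⟨_, t', (isPosRoot_iff hT hr).mpr (hpos j hj), xGL_coe hG1 hr t'⟩

include hT h5 h6 h7 h8 h9 h18 h20 in
/-- **the dichotomy**: an element `n` of `N¹` or `n_S⁻¹ n` conjugates the root elements of the class `S` into `U¹`. -/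
theorem tadi_dich_gen {c : ℕ × ℕ} (hc : c ∈ cls) {n : GL D.Idx K} (hn : n ∈ twN hG h3 h4 h19 f) :
    (∀ t, Adm f c.2 t → n⁻¹ * clsHom hG h3 h4 h19 f hc (upperSL t) * n ∈ twU hG h3 h4 h19 f) ∨
    (∀ t, Adm f c.2 t → ((clsHom hG h3 h4 h19 f hc antiSL)⁻¹ * n)⁻¹ *
      clsHom hG h3 h4 h19 f hc (upperSL t) * ((clsHom hG h3 h4 h19 f hc antiSL)⁻¹ * n) ∈
        twU hG h3 h4 h19 f) := by
  have hG1 := hG.toGood1
  obtain ⟨hm, horb, hlt⟩ := h19.orbit c hc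
  rw [mem_twN] at hn
  obtain ⟨h, hh, w, hw, rfl⟩ := monomialSubgroup_le_nWords hG hT h9 hn.1
  have hnG := hn.2
  have hfix : twAut h18 f (h * nWordGL hG w) = h * nWordGL hG w :=
    twGroup_le_twFix hG h3 h4 h18 h19 f hnG
  set nc : GL D.Idx K := clsHom hG h3 h4 h19 f hc antiSL with hnc
  have hncG : nc ∈ twGroup hG h3 h4 h19 f := anti_mem_twGroup hG h3 h4 h19 f hc
  have hncN : nc ∈ D.monomialSubgroup K := ncls_mem_monomial hG h3 h4 h19 f hc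
  have hncNorm := monomialSubgroup_le_normalizer hG hncN
  rcases cls_dichotomy hG hT h8 h18 h19 f hh hw hfix hc with hpos | hneg
  · left
    intro t ht
    exact tadi_conj_mem_of_pos hG hT h3 h4 h5 h6 h7 h8 h18 h19 h20 f hc hh hw hnG hpos ht
  · right
    intro t ht
    have hcw := clsWord_lt (D := D) h19 hc
    have hw'' : ∀ i ∈ clsWord ρ c ++ w, i < D.rank := by
      intro i hi
      rcases List.mem_append.mp hi with hi | hi
      · exact hcw i hi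
      · exact hw i hi
    have hsq : nc * nc ∈ D.diagonalSubgroup K :=
      ((mem_twH hG h3 h4 h19 f).mp (ncls_sq_mem_twH hG h3 h4 h19 f hc)).1
    have hh'' : (nc * nc)⁻¹ * (nc * h * nc⁻¹) ∈ D.diagonalSubgroup K :=
      mul_mem (inv_mem hsq) (conj_mem_diagonal hncNorm hh)
    have en : nc⁻¹ * (h * nWordGL hG w) =
        ((nc * nc)⁻¹ * (nc * h * nc⁻¹)) * nWordGL hG (clsWord ρ c ++ w) := by
      rw [nWordGL_append, ← clsHom_anti hG h3 h4 h19 f hc, ← hnc]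
      group
    have hn''G : ((nc * nc)⁻¹ * (nc * h * nc⁻¹)) * nWordGL hG (clsWord ρ c ++ w) ∈
        twGroup hG h3 h4 h19 f := by
      rw [← en]
      exact mul_mem (inv_mem hncG) hnG
    have hrev : ∀ i ∈ w.reverse, i < D.rank := fun i hi => hw i (List.mem_reverse.mp hi)
    have hpos'' : ∀ j < c.2, D.nroots / 2 ≤
        (tabOf D).reflWord (clsWord ρ c ++ w).reverse (clsRoot D ρ c.1 j) := by
      intro j hj
      have hp : clsRoot D ρ c.1 j < D.nroots := hG1.simple_lt (hlt j hj)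
      rw [List.reverse_append, reflWord_append, reflWord_clsWord_reverse hG h19 hc hj,
        reflWord_neg hG hrev hp]
      exact neg_pos_of_neg hG hT (reflWord_lt hG hrev hp) (hneg j hj)
    rw [en]
    exact tadi_conj_mem_of_pos hG hT h3 h4 h5 h6 h7 h8 h18 h19 h20 f hc hh'' hw'' hn''G hpos'' ht

include hT h6 h8 h9 in
/-- `U¹ H¹ ∩ N¹ ⊆ H¹`. -/
theorem tadi_B_inf_N_gen {u h : GL D.Idx K} (hu : u ∈ twU hG h3 h4 h19 f) (hh : h ∈ twH hG h3 h4 h19 f)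
    (hn : u * h ∈ twN hG h3 h4 h19 f) : u = 1 := by
  rw [mem_twU] at hu
  rw [mem_twH] at hh
  rw [mem_twN] at hn
  have hB : u * h ∈ D.borelSubgroup K :=
    mul_mem (Subgroup.mem_sup_left hu.1) (Subgroup.mem_sup_right hh.1)
  have hd : u * h ∈ D.diagonalSubgroup K := by
    rw [← borel_inf_monomial hG hT h6 h8 h9]
    exact ⟨hB, hn.1⟩
  have hud : u ∈ D.diagonalSubgroup K := by
    have e : u = (u * h) * h⁻¹ := by group
    rw [e]
    exact mul_mem hd (inv_mem hh.1)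
  have : u ∈ D.posUnipotent K ⊓ D.diagonalSubgroup K := ⟨hu.1, hud⟩
  rw [posUnipotent_inf_diagonal hG hT, Subgroup.mem_bot] at this
  exact this

include hT in
/-- `U¹ ∩ H¹ = 1`. -/
theorem tadi_U_inf_H_gen {u : GL D.Idx K} (hu : u ∈ twU hG h3 h4 h19 f) (hh : u ∈ twH hG h3 h4 h19 f) :
    u = 1 := by
  rw [mem_twU] at hu
  rw [mem_twH] at hh
  have : u ∈ D.posUnipotent K ⊓ D.diagonalSubgroup K := ⟨hu.1, hh.1⟩
  rw [posUnipotent_inf_diagonal hG hT, Subgroup.mem_bot] at this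
  exact this

end tw

/-! ### the instances for `³D₄` -/

section d4

variable (f : K ≃+* K)

/-- **(DICH) for `³D₄`.** -/
theorem tadi_dich {c : ℕ × ℕ} (hc : c ∈ clsD4) {n : GL chevD4.Idx K}
    (hn : n ∈ twN good2_D4 T3_D4 T4_D4 T19_D4 f) :
    (∀ t, Adm f c.2 t → n⁻¹ * clsHom good2_D4 T3_D4 T4_D4 T19_D4 f hc (upperSL t) * n ∈
      twU good2_D4 T3_D4 T4_D4 T19_D4 f) ∨
    (∀ t, Adm f c.2 t → ((clsHom good2_D4 T3_D4 T4_D4 T19_D4 f hc antiSL)⁻¹ * n)⁻¹ *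
      clsHom good2_D4 T3_D4 T4_D4 T19_D4 f hc (upperSL t) *
        ((clsHom good2_D4 T3_D4 T4_D4 T19_D4 f hc antiSL)⁻¹ * n) ∈ twU good2_D4 T3_D4 T4_D4 T19_D4 f) :=
  tadi_dich_gen good2_D4 T0_D4 T3_D4 T4_D4 T5_D4 T6_D4 T7_D4 T8_D4 T9_D4 T18_D4a T19_D4 T20_D4 f hc hn

theorem tadi_B_inf_N {u h : GL chevD4.Idx K} (hu : u ∈ twU good2_D4 T3_D4 T4_D4 T19_D4 f)
    (hh : h ∈ twH good2_D4 T3_D4 T4_D4 T19_D4 f) (hn : u * h ∈ twN good2_D4 T3_D4 T4_D4 T19_D4 f) : u = 1 :=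
  tadi_B_inf_N_gen good2_D4 T0_D4 T3_D4 T4_D4 T6_D4 T8_D4 T9_D4 T19_D4 f hu hh hn

theorem tadi_U_inf_H {u : GL chevD4.Idx K} (hu : u ∈ twU good2_D4 T3_D4 T4_D4 T19_D4 f)
    (hh : u ∈ twH good2_D4 T3_D4 T4_D4 T19_D4 f) : u = 1 :=
  tadi_U_inf_H_gen good2_D4 T0_D4 T3_D4 T4_D4 T19_D4 f hu hh

end d4

end Cfsg.Agent.CtRecT
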