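import Mathlib
import Cfsg.Agent.Helper7.ChevTwHD4

set_option autoImplicit false
set_option linter.unusedSectionVars false
set_option linter.unusedVariables false

/-!
# S2110, P-D (helper2): the `U`-side fields of `BNDat` for `³D₄`, at the `GL` level

Standalone facts about `twGroup good2_D4 T3_D4 T4_D4 T19_D4 f`, generic in the class `c ∈ clsD4`
(`a = (0,3)`, `b = (1,1)`): `U = U_c X_c` (`tau_dec`), `n_c U_c n_c⁻¹ ≤ U` (`tau_n_conj`), `H` normalizes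
`U` (`tau_H_U`), and the twisted group is generated by the four root families (`tau_top`).
-/

namespace Cfsg.Agent.CtRecT

open Cfsg Cfsg.Lie Matrix Cfsg.Agent.Helper7.Chev

variable {K : Type*} [Field K] (f : K ≃+* K)

/-- `U¹ ∩ H¹ = 1` -/
theorem tau_U_inf_H {u : GL chevD4.Idx K} (hu : u ∈ twU good2_D4 T3_D4 T4_D4 T19_D4 f)
    (hh : u ∈ twH good2_D4 T3_D4 T4_D4 T19_D4 f) : u = 1 := by
  have h1 : u ∈ chevD4.posUnipotent K ⊓ chevD4.diagonalSubgroup K :=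
    ⟨((mem_twU good2_D4 T3_D4 T4_D4 T19_D4 f).1 hu).1, ((mem_twH good2_D4 T3_D4 T4_D4 T19_D4 f).1 hh).1⟩
  rw [posUnipotent_inf_diagonal good2_D4 T0_D4, Subgroup.mem_bot] at h1
  exact h1

/-- (U1) `U = U_c X_c` -/
theorem tau_dec {c : ℕ × ℕ} (hc : c ∈ clsD4) {u : GL chevD4.Idx K}
    (hu : u ∈ twU good2_D4 T3_D4 T4_D4 T19_D4 f) :
    ∃ u' ∈ Subgroup.closure (upGenS chevD4 K (InCls chevD4 (fun i => [2, 1, 3, 0].getD i 0) c)),
      u' ∈ twGroup good2_D4 T3_D4 T4_D4 T19_D4 f ∧ ∃ t : K, Adm f c.2 t ∧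
        u = u' * clsHom good2_D4 T3_D4 T4_D4 T19_D4 f hc (upperSL t) := by
  obtain ⟨u', hu', hu'G, t, ht, hb', hhb, rfl⟩ :=
    twB_decomp_cls good2_D4 T0_D4 T3_D4 T4_D4 T5_D4 T7_D4 T8_D4 T18_D4a T19_D4 T20_D4 f hc
      (twU_le_twB good2_D4 T3_D4 T4_D4 T19_D4 f hu)
  refine ⟨u', hu', hu'G, t, ht, ?_⟩
  have hx : clsHom good2_D4 T3_D4 T4_D4 T19_D4 f hc (upperSL t) ∈
      twU good2_D4 T3_D4 T4_D4 T19_D4 f := by
    rw [mem_twU]
    exact ⟨clsHom_upper_mem good2_D4 T0_D4 T3_D4 T4_D4 T19_D4 f hc t,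
      upper_mem_twGroup good2_D4 T3_D4 T4_D4 T19_D4 f hc ht⟩
  have hu'U : u' ∈ twU good2_D4 T3_D4 T4_D4 T19_D4 f := by
    rw [mem_twU]
    exact ⟨upS_le_pos _ hu', hu'G⟩
  have h1 : hb' ∈ twU good2_D4 T3_D4 T4_D4 T19_D4 f := by
    have e : hb' = (u' * clsHom good2_D4 T3_D4 T4_D4 T19_D4 f hc (upperSL t))⁻¹ *
        (u' * clsHom good2_D4 T3_D4 T4_D4 T19_D4 f hc (upperSL t) * hb') := by group
    rw [e]
    exact mul_mem (inv_mem (mul_mem hu'U hx)) hu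
  rw [tau_U_inf_H f h1 hhb, mul_one]

/-- (U2) `n_c U_c n_c⁻¹ ≤ U` -/
theorem tau_n_conj {c : ℕ × ℕ} (hc : c ∈ clsD4) {u' : GL chevD4.Idx K}
    (hu' : u' ∈ Subgroup.closure
      (upGenS chevD4 K (InCls chevD4 (fun i => [2, 1, 3, 0].getD i 0) c)))
    (hu'G : u' ∈ twGroup good2_D4 T3_D4 T4_D4 T19_D4 f) :
    clsHom good2_D4 T3_D4 T4_D4 T19_D4 f hc antiSL * u' *
      (clsHom good2_D4 T3_D4 T4_D4 T19_D4 f hc antiSL)⁻¹ ∈ twU good2_D4 T3_D4 T4_D4 T19_D4 f :=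
  ncls_conj_mem_twU good2_D4 T0_D4 T3_D4 T4_D4 T6_D4 T19_D4 f hc hu' hu'G

/-- (U3) `H¹` normalizes `U¹` -/
theorem tau_H_U {h u : GL chevD4.Idx K} (hh : h ∈ twH good2_D4 T3_D4 T4_D4 T19_D4 f)
    (hu : u ∈ twU good2_D4 T3_D4 T4_D4 T19_D4 f) :
    h * u * h⁻¹ ∈ twU good2_D4 T3_D4 T4_D4 T19_D4 f :=
  (Subgroup.mem_set_normalizer_iff.mp (twH_le_normalizer good2_D4 T3_D4 T4_D4 T19_D4 f hh) u).mp hu

/-- the class `a` and the class `b` -/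
theorem tau_cls_a : ((0, 3) : ℕ × ℕ) ∈ clsD4 := by decide

theorem tau_cls_b : ((1, 1) : ℕ × ℕ) ∈ clsD4 := by decide

/-- (U4) the twisted group is generated by the four root families -/
theorem tau_top :
    twGroup good2_D4 T3_D4 T4_D4 T19_D4 f = Subgroup.closure
      ({g | ∃ t : K, Adm f 3 t ∧ g = clsHom good2_D4 T3_D4 T4_D4 T19_D4 f tau_cls_a (upperSL t)} ∪
       {g | ∃ t : K, Adm f 3 t ∧ g = clsHom good2_D4 T3_D4 T4_D4 T19_D4 f tau_cls_a (lowerSL t)} ∪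
       {g | ∃ t : K, Adm f 1 t ∧ g = clsHom good2_D4 T3_D4 T4_D4 T19_D4 f tau_cls_b (upperSL t)} ∪
       {g | ∃ t : K, Adm f 1 t ∧ g = clsHom good2_D4 T3_D4 T4_D4 T19_D4 f tau_cls_b (lowerSL t)}) := by
  unfold twGroup
  congr 1
  ext g
  constructor
  · rintro ⟨c, hc, t, ht, hg⟩
    have hc' : c = (1, 1) ∨ c = (0, 3) := by simpa using hc
    rcases hc' with rfl | rfl
    · rcases hg with rfl | rfl
      · exact Or.inl (Or.inr ⟨t, ht, rfl⟩)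
      · exact Or.inr ⟨t, ht, rfl⟩
    · rcases hg with rfl | rfl
      · exact Or.inl (Or.inl (Or.inl ⟨t, ht, rfl⟩))
      · exact Or.inl (Or.inl (Or.inr ⟨t, ht, rfl⟩))
  · rintro (((⟨t, ht, rfl⟩ | ⟨t, ht, rfl⟩) | ⟨t, ht, rfl⟩) | ⟨t, ht, rfl⟩)
    · exact ⟨(0, 3), tau_cls_a, t, ht, Or.inl rfl⟩
    · exact ⟨(0, 3), tau_cls_a, t, ht, Or.inr rfl⟩
    · exact ⟨(1, 1), tau_cls_b, t, ht, Or.inl rfl⟩
    · exact ⟨(1, 1), tau_cls_b, t, ht, Or.inr rfl⟩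

/-- (U4'), in the shape of the assembly: the two rank one families generate -/
theorem tau_top' (hf3 : ∀ t : K, (((f : K →+* K)) ^ 3) t = t) :
    Subgroup.closure {g | ∃ t : K,
        g = clsHom good2_D4 T3_D4 T4_D4 T19_D4 f tau_cls_a (upperSL t) ∨
        g = clsHom good2_D4 T3_D4 T4_D4 T19_D4 f tau_cls_a (lowerSL t)} ⊔
      Subgroup.closure {g | ∃ t : K, f t = t ∧
        (g = clsHom good2_D4 T3_D4 T4_D4 T19_D4 f tau_cls_b (upperSL t) ∨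
         g = clsHom good2_D4 T3_D4 T4_D4 T19_D4 f tau_cls_b (lowerSL t))} =
      twGroup good2_D4 T3_D4 T4_D4 T19_D4 f := by
  rw [← Subgroup.closure_union]
  unfold twGroup
  congr 1
  ext g
  constructor
  · rintro (⟨t, rfl | rfl⟩ | ⟨t, ht, rfl | rfl⟩)
    · exact ⟨(0, 3), tau_cls_a, t, hf3 t, Or.inl rfl⟩
    · exact ⟨(0, 3), tau_cls_a, t, hf3 t, Or.inr rfl⟩
    · exact ⟨(1, 1), tau_cls_b, t, (adm_one_iff f t).mpr ht, Or.inl rfl⟩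
    · exact ⟨(1, 1), tau_cls_b, t, (adm_one_iff f t).mpr ht, Or.inr rfl⟩
  · rintro ⟨c, hc, t, ht, hg⟩
    have hc' : c = (1, 1) ∨ c = (0, 3) := by simpa using hc
    rcases hc' with rfl | rfl
    · exact Or.inr ⟨t, (adm_one_iff f t).mp ht, hg⟩
    · exact Or.inl ⟨t, hg⟩

end Cfsg.Agent.CtRecT
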