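import Mathlib
import Cfsg.Agent.CtRecT.TSysD4D
import Cfsg.Agent.CtRecT.TAmbU

set_option autoImplicit false
set_option linter.unusedSectionVars false
set_option linter.unusedVariables false

/-!
# S2110, P-D (helper8): the torus-side fields `H_inj`, `U_inf_H`, `B_inf_N` of `BNDat` for `³D₄`, at the `GL` level

* `tah_inj`: `h_a(t) h_b(u) = 1` forces `t = 1` and `u = 1` (characters of the torus on the root elements of `D₄`).
* `tah_U_inf_H`: `U¹ ∩ H¹ = 1`.
* `tah_B_inf_N`: `u h ∈ N¹` with `u ∈ U¹`, `h ∈ H¹` forces `u = 1` (`B ∩ N = H`).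
-/

namespace Cfsg.Agent.CtRecT

open Cfsg Cfsg.Lie Cfsg.Agent.Helper7.Chev

variable {K : Type*} [Field K]

/-- the root elements of `D₄` are injective in the parameter. -/
theorem tah_xd_inj (s : Fin 24) {a b : K} (h : xd s a = xd s b) : a = b :=
  xGL_injective good2_D4 T0_D4 T8_D4 (d4_lt s.val s.isLt) h

/-- the character of `h_a(t) h_b(u)` on the root `s` is trivial if `h_a(t) h_b(u) = 1`. -/
theorem tah_char (σ : K →+* K) {t u : K} (ht : t ≠ 0) (hu : u ≠ 0) (h : tbHa σ t * tbHb u = 1)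
    (s : Fin 24) (n1 n2 n3 n : ℤ) (h1 : (tabOf chevD4).pairing 18 s.val = n1)
    (h2 : (tabOf chevD4).pairing 13 s.val = n2) (h3 : (tabOf chevD4).pairing 12 s.val = n3)
    (h4 : (tabOf chevD4).pairing 14 s.val = n) :
    t ^ n1 * (σ t ^ n2 * (σ (σ t) ^ n3 * (u ^ n * 1))) = 1 := by
  have e : tbHa σ t * tbHb u * xd s (1 : K) * (tbHa σ t * tbHb u)⁻¹ =
      tbHa σ t * (tbHb u * xd s (1 : K) * (tbHb u)⁻¹) * (tbHa σ t)⁻¹ := by group
  rw [tbd_hb_conj s n h4 hu, tbd_ha_conj σ s n1 n2 n3 h1 h2 h3 ht, h, one_mul, inv_one, mul_one] at e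
  exact (tah_xd_inj s e).symm

/-- **`H_inj`**: `h_a(t) h_b(u) = 1` forces `t = 1` and `u = 1`. -/
theorem tah_inj' (σ : K →+* K) {t u : K} (ht : t ≠ 0) (hu : u ≠ 0)
    (h : tbHa σ t * tbHb u = 1) : t = 1 ∧ u = 1 := by
  have hu1 : u = 1 := by
    have := tah_char σ ht hu h 23 0 0 0 1 (by decide) (by decide) (by decide) (by decide)
    simpa only [zpow_zero, zpow_one, one_mul, mul_one] using this
  have ht2 : t ^ 2 = 1 := by
    have := tah_char σ ht hu h 18 2 0 0 (-1) (by decide) (by decide) (by decide) (by decide)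
    rw [hu1] at this
    simpa only [zpow_zero, zpow_ofNat, pow_zero, one_zpow, one_mul, mul_one] using this
  have hN : (t * σ t * σ (σ t))⁻¹ = 1 := by
    have := tah_char σ ht hu h 14 (-1) (-1) (-1) 2 (by decide) (by decide) (by decide) (by decide)
    rw [hu1] at this
    simp only [zpow_neg_one, one_zpow, mul_one] at this
    rw [mul_inv, mul_inv, mul_assoc]
    exact this
  refine ⟨?_, hu1⟩
  rw [pow_two] at ht2
  rcases mul_self_eq_one_iff.mp ht2 with h1 | h1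
  · exact h1
  · rw [h1, map_neg, map_one, map_neg, map_one] at hN
    have h5 : ((-1 : K) * -1 * -1)⁻¹ = -1 := by
      rw [neg_one_mul, neg_neg, one_mul, inv_neg, inv_one]
    rw [h5] at hN
    rw [h1, hN]

theorem tah_inj (f : K ≃+* K) (hf3 : ∀ t : K, (((f : K →+* K)) ^ 3) t = t) {t u : K} (ht : t ≠ 0)
    (hu : u ≠ 0) (hfu : f u = u) (h : tbHa (f : K →+* K) t * tbHb u = 1) : t = 1 ∧ u = 1 :=
  tah_inj' (f : K →+* K) ht hu h

/-- **`U_inf_H`**: `U¹ ∩ H¹ = 1`. -/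
theorem tah_U_inf_H (f : K ≃+* K) {g : GL chevD4.Idx K}
    (hU : g ∈ twU good2_D4 T3_D4 T4_D4 T19_D4 f) (hH : g ∈ twH good2_D4 T3_D4 T4_D4 T19_D4 f) :
    g = 1 :=
  tau_U_inf_H f hU hH

/-- **`B_inf_N`**: `B ∩ N = H`, in the form used by the uniqueness argument. -/
theorem tah_B_inf_N (f : K ≃+* K) {u h : GL chevD4.Idx K}
    (hu : u ∈ twU good2_D4 T3_D4 T4_D4 T19_D4 f) (hh : h ∈ twH good2_D4 T3_D4 T4_D4 T19_D4 f)
    (hn : u * h ∈ twN good2_D4 T3_D4 T4_D4 T19_D4 f) : u = 1 := by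
  have huU : u ∈ chevD4.posUnipotent K := ((mem_twU good2_D4 T3_D4 T4_D4 T19_D4 f).1 hu).1
  have hhH : h ∈ chevD4.diagonalSubgroup K := ((mem_twH good2_D4 T3_D4 T4_D4 T19_D4 f).1 hh).1
  have hnN : u * h ∈ chevD4.monomialSubgroup K := ((mem_twN good2_D4 T3_D4 T4_D4 T19_D4 f).1 hn).1
  have hB : u * h ∈ chevD4.borelSubgroup K :=
    Subgroup.mul_mem_sup huU hhH
  have hd : u * h ∈ chevD4.diagonalSubgroup K := by
    rw [← borel_inf_monomial good2_D4 T0_D4 T6_D4 T8_D4 T9_D4]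
    exact ⟨hB, hnN⟩
  have hud : u ∈ chevD4.diagonalSubgroup K := by
    have e : u = u * h * h⁻¹ := by group
    rw [e]
    exact mul_mem hd (inv_mem hhH)
  have h1 : u ∈ chevD4.posUnipotent K ⊓ chevD4.diagonalSubgroup K := ⟨huU, hud⟩
  rw [posUnipotent_inf_diagonal good2_D4 T0_D4, Subgroup.mem_bot] at h1
  exact h1

end Cfsg.Agent.CtRecT
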