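import Mathlib
import Cfsg.Agent.CtRecT.TBN

set_option autoImplicit false
set_option linter.unusedSectionVars false
set_option linter.unusedVariables false

/-!
# S2110, Part II (helper9): the torus `H̃` and the group `Ñ` of a system `TTor`

For `T : TTor f Γ` over a finite field: `Hs = {h_a(t) h_b(u)}` is abelian (`Rk1.h_mul` and the mixed torus actions), normalized by
`n_a`, `n_b`, hence by `Ns`; `n_c² ∈ Hs`; the braid relation gives `(n_a n_b)⁶ ∈ Hs`, and every element of `Ns` is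
`h (n_a n_b)^k` or `h n_a (n_a n_b)^k` with `h ∈ Hs`, `k < 6`.
-/

namespace Cfsg.Agent.CtRecT

open Cfsg.Agent.CtRecM

variable {K : Type*} [Field K] {f : K ≃+* K} {Γ : Type*} [Group Γ] (T : TTor f Γ)

namespace TTor

theorem th_conj3 (g x y : Γ) : g * (x * y * x) * g⁻¹ = (g * x * g⁻¹) * (g * y * g⁻¹) * (g * x * g⁻¹) := by
  group

/-- `h_a(t)` acts on the Weyl elements of `b`. -/
theorem ha_conj_wb {t : K} (ht : t ≠ 0) : ∃ c : fixF f, c ≠ 0 ∧ ∀ u : fixF f, u ≠ 0 →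
    T.Ra.h t * T.Rb.w u * (T.Ra.h t)⁻¹ = T.Rb.w (c * u) := by
  obtain ⟨c, hc, hcu⟩ := T.tor_ab t ht
  refine ⟨c, hc, fun u hu => ?_⟩
  have e1 := (hcu u).1
  have e2 := (hcu (-u⁻¹)).2
  have e3 : c⁻¹ * -u⁻¹ = -(c * u)⁻¹ := by rw [mul_inv]; ring
  unfold Rk1.w
  rw [th_conj3, e1, e2, e3]

/-- `h_b(t)` acts on the Weyl elements of `a`. -/
theorem hb_conj_wa {t : fixF f} (ht : t ≠ 0) : ∃ c : K, c ≠ 0 ∧ ∀ u : K, u ≠ 0 →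
    T.Rb.h t * T.Ra.w u * (T.Rb.h t)⁻¹ = T.Ra.w (c * u) := by
  obtain ⟨c, hc, hcu⟩ := T.tor_ba t ht
  refine ⟨c, hc, fun u hu => ?_⟩
  have e1 := (hcu u).1
  have e2 := (hcu (-u⁻¹)).2
  have e3 : c⁻¹ * -u⁻¹ = -(c * u)⁻¹ := by rw [mul_inv]; ring
  unfold Rk1.w
  rw [th_conj3, e1, e2, e3]

variable [Finite K]

/-- `h_a(t)` and `h_b(u)` commute. -/
theorem ha_conj_hb {t : K} (ht : t ≠ 0) {u : fixF f} (hu : u ≠ 0) :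
    T.Ra.h t * T.Rb.h u * (T.Ra.h t)⁻¹ = T.Rb.h u := by
  obtain ⟨c, hc, hcw⟩ := T.ha_conj_wb ht
  have hm1 : (-1 : fixF f) ≠ 0 := neg_ne_zero.mpr one_ne_zero
  have e1 := hcw u hu
  have e2 := hcw (-1) hm1
  have e4 : T.Ra.h t * (T.Rb.w u * T.Rb.w (-1)) * (T.Ra.h t)⁻¹ =
      (T.Ra.h t * T.Rb.w u * (T.Ra.h t)⁻¹) * (T.Ra.h t * T.Rb.w (-1) * (T.Ra.h t)⁻¹) := by group
  have e5 : T.Rb.h u = T.Rb.w u * T.Rb.w (-1) := rfl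
  rw [e5, e4, e1, e2, mul_neg, mul_one, ← T.Rb.w_inv, T.Rb.w_mul_w_inv,
    T.Rb.h_inv_eq hc, T.Rb.h_mul (mul_ne_zero hc hu) (inv_ne_zero hc), ← e5]
  congr 1
  field_simp

theorem ha_comm_hb {t : K} (ht : t ≠ 0) {u : fixF f} (hu : u ≠ 0) :
    T.Ra.h t * T.Rb.h u = T.Rb.h u * T.Ra.h t := by
  have e := T.ha_conj_hb ht hu
  calc T.Ra.h t * T.Rb.h u = (T.Ra.h t * T.Rb.h u * (T.Ra.h t)⁻¹) * T.Ra.h t := by group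
    _ = T.Rb.h u * T.Ra.h t := by rw [e]

/-- the elements of the torus. -/
theorem mem_Hs_iff (g : Γ) : g ∈ T.Hs ↔ ∃ t : K, t ≠ 0 ∧ ∃ u : fixF f, u ≠ 0 ∧ g = T.Ra.h t * T.Rb.h u := by
  constructor
  · intro hg
    unfold Hs at hg
    induction hg using Subgroup.closure_induction with
    | mem x hx =>
      rcases hx with ⟨t, ht, rfl⟩ | ⟨u, hu, rfl⟩
      · exact ⟨t, ht, 1, one_ne_zero, by rw [T.Rb.h_one, mul_one]⟩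
      · exact ⟨1, one_ne_zero, u, hu, by rw [T.Ra.h_one, one_mul]⟩
    | one => exact ⟨1, one_ne_zero, 1, one_ne_zero, by rw [T.Ra.h_one, T.Rb.h_one, one_mul]⟩
    | mul x y _ _ hx hy =>
      obtain ⟨t, ht, u, hu, rfl⟩ := hx
      obtain ⟨t', ht', u', hu', rfl⟩ := hy
      refine ⟨t * t', mul_ne_zero ht ht', u * u', mul_ne_zero hu hu', ?_⟩
      rw [← T.Ra.h_mul ht ht', ← T.Rb.h_mul hu hu']
      calc T.Ra.h t * T.Rb.h u * (T.Ra.h t' * T.Rb.h u')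
          = T.Ra.h t * (T.Rb.h u * T.Ra.h t') * T.Rb.h u' := by group
        _ = T.Ra.h t * (T.Ra.h t' * T.Rb.h u) * T.Rb.h u' := by rw [T.ha_comm_hb ht' hu]
        _ = T.Ra.h t * T.Ra.h t' * (T.Rb.h u * T.Rb.h u') := by group
    | inv x _ hx =>
      obtain ⟨t, ht, u, hu, rfl⟩ := hx
      refine ⟨t⁻¹, inv_ne_zero ht, u⁻¹, inv_ne_zero hu, ?_⟩
      rw [mul_inv_rev, T.Ra.h_inv_eq ht, T.Rb.h_inv_eq hu, T.ha_comm_hb (inv_ne_zero ht) (inv_ne_zero hu)]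
  · rintro ⟨t, ht, u, hu, rfl⟩
    exact T.Hs.mul_mem (T.h_a_mem_Hs ht) (T.h_b_mem_Hs hu)

/-- `n_a² ∈ Hs`. -/
theorem na_inv_sq : T.na⁻¹ * T.na⁻¹ = T.Ra.h (-1) := by
  unfold na Rk1.h
  rw [T.Ra.w_inv]

theorem nb_inv_sq : T.nb⁻¹ * T.nb⁻¹ = T.Rb.h (-1) := by
  unfold nb Rk1.h
  rw [T.Rb.w_inv]

theorem na_inv_eq : T.na⁻¹ = T.na * T.Ra.h (-1) := by
  rw [← T.na_inv_sq]; group

theorem nb_inv_eq : T.nb⁻¹ = T.nb * T.Rb.h (-1) := by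
  rw [← T.nb_inv_sq]; group

theorem ha_neg_one_mem : T.Ra.h (-1) ∈ T.Hs := T.h_a_mem_Hs (neg_ne_zero.mpr one_ne_zero)

theorem hb_neg_one_mem : T.Rb.h (-1) ∈ T.Hs := T.h_b_mem_Hs (neg_ne_zero.mpr one_ne_zero)

theorem na_sq_mem : T.na * T.na ∈ T.Hs := by
  have e : T.na * T.na = (T.na⁻¹ * T.na⁻¹)⁻¹ := by rw [mul_inv_rev, inv_inv]
  rw [e, T.na_inv_sq]
  exact T.Hs.inv_mem T.ha_neg_one_mem

theorem nb_sq_mem : T.nb * T.nb ∈ T.Hs := by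
  have e : T.nb * T.nb = (T.nb⁻¹ * T.nb⁻¹)⁻¹ := by rw [mul_inv_rev, inv_inv]
  rw [e, T.nb_inv_sq]
  exact T.Hs.inv_mem T.hb_neg_one_mem

/-- `n_a` normalizes the torus. -/
theorem na_conj_Hs {h : Γ} (hh : h ∈ T.Hs) : T.na * h * T.na⁻¹ ∈ T.Hs := by
  obtain ⟨t, ht, u, hu, rfl⟩ := (T.mem_Hs_iff h).mp hh
  have e1 : T.na * T.Ra.h t * T.na⁻¹ = T.Ra.h t⁻¹ := T.Ra.w_one_conj_h ht
  -- the action of `h_b(u⁻¹)` on `n_a`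
  obtain ⟨c, hc, hcw⟩ := T.hb_conj_wa (inv_ne_zero hu)
  have e2 := hcw 1 one_ne_zero
  rw [mul_one, ← T.Ra.h_mul_w_one c] at e2
  have e3 : T.na * T.Rb.h u * T.na⁻¹ = T.Rb.h u * T.Ra.h c := by
    have e4 : T.na * (T.Rb.h u⁻¹)⁻¹ * T.na⁻¹ = (T.Rb.h u⁻¹)⁻¹ * T.Ra.h c := by
      have : T.Ra.h c = T.Rb.h u⁻¹ * T.na * (T.Rb.h u⁻¹)⁻¹ * T.na⁻¹ := by
        unfold na
        rw [e2]; group
      rw [this]; group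
    rwa [T.Rb.h_inv_eq (inv_ne_zero hu), inv_inv] at e4
  have e5 : T.na * (T.Ra.h t * T.Rb.h u) * T.na⁻¹ = (T.na * T.Ra.h t * T.na⁻¹) * (T.na * T.Rb.h u * T.na⁻¹) := by
    group
  rw [e5, e1, e3]
  exact T.Hs.mul_mem (T.h_a_mem_Hs (inv_ne_zero ht)) (T.Hs.mul_mem (T.h_b_mem_Hs hu) (T.h_a_mem_Hs hc))

/-- `n_b` normalizes the torus. -/
theorem nb_conj_Hs {h : Γ} (hh : h ∈ T.Hs) : T.nb * h * T.nb⁻¹ ∈ T.Hs := by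
  obtain ⟨t, ht, u, hu, rfl⟩ := (T.mem_Hs_iff h).mp hh
  have e1 : T.nb * T.Rb.h u * T.nb⁻¹ = T.Rb.h u⁻¹ := T.Rb.w_one_conj_h hu
  obtain ⟨c, hc, hcw⟩ := T.ha_conj_wb (inv_ne_zero ht)
  have e2 := hcw 1 one_ne_zero
  rw [mul_one, ← T.Rb.h_mul_w_one c] at e2
  have e3 : T.nb * T.Ra.h t * T.nb⁻¹ = T.Ra.h t * T.Rb.h c := by
    have e4 : T.nb * (T.Ra.h t⁻¹)⁻¹ * T.nb⁻¹ = (T.Ra.h t⁻¹)⁻¹ * T.Rb.h c := by
      have : T.Rb.h c = T.Ra.h t⁻¹ * T.nb * (T.Ra.h t⁻¹)⁻¹ * T.nb⁻¹ := by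
        unfold nb
        rw [e2]; group
      rw [this]; group
    rwa [T.Ra.h_inv_eq (inv_ne_zero ht), inv_inv] at e4
  have e5 : T.nb * (T.Ra.h t * T.Rb.h u) * T.nb⁻¹ = (T.nb * T.Ra.h t * T.nb⁻¹) * (T.nb * T.Rb.h u * T.nb⁻¹) := by
    group
  rw [e5, e1, e3]
  exact T.Hs.mul_mem (T.Hs.mul_mem (T.h_a_mem_Hs ht) (T.h_b_mem_Hs hc)) (T.h_b_mem_Hs (inv_ne_zero hu))

theorem Hs_conj_Hs {g h : Γ} (hg : g ∈ T.Hs) (hh : h ∈ T.Hs) : g * h * g⁻¹ ∈ T.Hs :=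
  T.Hs.mul_mem (T.Hs.mul_mem hg hh) (T.Hs.inv_mem hg)

theorem na_inv_conj_Hs {h : Γ} (hh : h ∈ T.Hs) : T.na⁻¹ * h * T.na ∈ T.Hs := by
  have e : T.na⁻¹ * h * T.na = T.na * (T.Ra.h (-1) * h * (T.Ra.h (-1))⁻¹) * T.na⁻¹ := by
    conv_lhs => rw [T.na_inv_eq]
    have e2 : T.na⁻¹ = T.na * T.Ra.h (-1) := T.na_inv_eq
    calc T.na * T.Ra.h (-1) * h * T.na = T.na * T.Ra.h (-1) * h * (T.na⁻¹)⁻¹ := by rw [inv_inv]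
      _ = T.na * T.Ra.h (-1) * h * (T.na * T.Ra.h (-1))⁻¹ := by rw [← e2]
      _ = T.na * (T.Ra.h (-1) * h * (T.Ra.h (-1))⁻¹) * T.na⁻¹ := by group
  rw [e]
  exact T.na_conj_Hs (T.Hs_conj_Hs T.ha_neg_one_mem hh)

theorem nb_inv_conj_Hs {h : Γ} (hh : h ∈ T.Hs) : T.nb⁻¹ * h * T.nb ∈ T.Hs := by
  have e2 : T.nb⁻¹ = T.nb * T.Rb.h (-1) := T.nb_inv_eq
  have e : T.nb⁻¹ * h * T.nb = T.nb * (T.Rb.h (-1) * h * (T.Rb.h (-1))⁻¹) * T.nb⁻¹ := by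
    conv_lhs => rw [T.nb_inv_eq]
    calc T.nb * T.Rb.h (-1) * h * T.nb = T.nb * T.Rb.h (-1) * h * (T.nb⁻¹)⁻¹ := by rw [inv_inv]
      _ = T.nb * T.Rb.h (-1) * h * (T.nb * T.Rb.h (-1))⁻¹ := by rw [← e2]
      _ = T.nb * (T.Rb.h (-1) * h * (T.Rb.h (-1))⁻¹) * T.nb⁻¹ := by group
  rw [e]
  exact T.nb_conj_Hs (T.Hs_conj_Hs T.hb_neg_one_mem hh)

/-- `Ns` normalizes the torus. -/
theorem Ns_conj_Hs_aux {n : Γ} (hn : n ∈ T.Ns) :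
    ∀ h ∈ T.Hs, n * h * n⁻¹ ∈ T.Hs ∧ n⁻¹ * h * n ∈ T.Hs := by
  unfold Ns at hn
  induction hn using Subgroup.closure_induction with
  | mem x hx =>
    intro h hh
    rcases hx with hx | hx | hx
    · refine ⟨T.Hs_conj_Hs hx hh, ?_⟩
      have := T.Hs_conj_Hs (T.Hs.inv_mem hx) hh
      simpa using this
    · rw [hx]; exact ⟨T.na_conj_Hs hh, T.na_inv_conj_Hs hh⟩
    · rw [Set.mem_singleton_iff] at hx
      rw [hx]; exact ⟨T.nb_conj_Hs hh, T.nb_inv_conj_Hs hh⟩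
  | one => intro h hh; simpa using hh
  | mul x y _ _ hx hy =>
    intro h hh
    have e : x * y * h * (x * y)⁻¹ = x * (y * h * y⁻¹) * x⁻¹ := by group
    have e' : (x * y)⁻¹ * h * (x * y) = y⁻¹ * (x⁻¹ * h * x) * y := by group
    rw [e, e']
    exact ⟨(hx _ (hy h hh).1).1, (hy _ (hx h hh).2).2⟩
  | inv x _ hx =>
    intro h hh
    rw [inv_inv]
    exact ⟨(hx h hh).2, (hx h hh).1⟩

theorem Ns_conj_Hs {n h : Γ} (hn : n ∈ T.Ns) (hh : h ∈ T.Hs) : n * h * n⁻¹ ∈ T.Hs :=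
  (T.Ns_conj_Hs_aux hn h hh).1

theorem Ns_inv_conj_Hs {n h : Γ} (hn : n ∈ T.Ns) (hh : h ∈ T.Hs) : n⁻¹ * h * n ∈ T.Hs :=
  (T.Ns_conj_Hs_aux hn h hh).2

end TTor

end Cfsg.Agent.CtRecT
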