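import Mathlib
import Cfsg.Agent.CtRecT.TTorH

set_option autoImplicit false
set_option linter.unusedSectionVars false
set_option linter.unusedVariables false

/-!
# S2110, Part II (helper9): the group `Ñ / H̃` of a system `TTor` is a quotient of the dihedral group of order 12

`(n_a n_b)⁶ ∈ Hs` (from the braid relation), and every element of `Ns` is `h (n_a n_b)^k` or `h n_a (n_a n_b)^k`, `h ∈ Hs`, `k < 6`.
-/

namespace Cfsg.Agent.CtRecT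

open Cfsg.Agent.CtRecM

variable {K : Type*} [Field K] {f : K ≃+* K} {Γ : Type*} [Group Γ] (T : TTor f Γ)

namespace TTor

/-- the braid relation: `n_{babab} n_a n_{babab}⁻¹ = h_a(c) n_a`. -/
theorem braid_na : ∃ c : K, c ≠ 0 ∧
    (T.nb * T.na * T.nb * T.na * T.nb) * T.na * (T.nb * T.na * T.nb * T.na * T.nb)⁻¹ = T.Ra.h c * T.na := by
  obtain ⟨c, hc, e1, e2⟩ := T.braid
  refine ⟨c, hc, ?_⟩
  show (T.Rb.w 1 * T.Ra.w 1 * T.Rb.w 1 * T.Ra.w 1 * T.Rb.w 1) * T.Ra.w 1 *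
    (T.Rb.w 1 * T.Ra.w 1 * T.Rb.w 1 * T.Ra.w 1 * T.Rb.w 1)⁻¹ = T.Ra.h c * T.Ra.w 1
  rw [T.Ra.h_mul_w_one c]
  generalize T.Rb.w 1 * T.Ra.w 1 * T.Rb.w 1 * T.Ra.w 1 * T.Rb.w 1 = m at e1 e2 ⊢
  have ew : T.Ra.w 1 = T.Ra.xp 1 * T.Ra.xm (-1) * T.Ra.xp 1 := by
    unfold Rk1.w; rw [inv_one]
  rw [ew, th_conj3, e1, e2]
  rfl

variable [Finite K]

instance Hs_normal : (T.Hs.subgroupOf T.Ns).Normal := ⟨fun n hn g => by
  rw [Subgroup.mem_subgroupOf] at hn ⊢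
  have := T.Ns_conj_Hs g.2 hn
  simpa using this⟩

/-- the quotient `Ns / Hs`. -/
abbrev Q : Type _ := ↥T.Ns ⧸ T.Hs.subgroupOf T.Ns

/-- the class of `n_a`. -/
def qa : T.Q := QuotientGroup.mk ⟨T.na, T.na_mem_Ns⟩

/-- the class of `n_b`. -/
def qb : T.Q := QuotientGroup.mk ⟨T.nb, T.nb_mem_Ns⟩

theorem qmk_eq_one_iff (n : ↥T.Ns) : (QuotientGroup.mk n : T.Q) = 1 ↔ (n : Γ) ∈ T.Hs := by
  rw [QuotientGroup.eq_one_iff, Subgroup.mem_subgroupOf]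

theorem qa_sq : T.qa * T.qa = 1 := by
  unfold qa
  rw [← QuotientGroup.mk_mul, qmk_eq_one_iff]
  exact T.na_sq_mem

theorem qb_sq : T.qb * T.qb = 1 := by
  unfold qb
  rw [← QuotientGroup.mk_mul, qmk_eq_one_iff]
  exact T.nb_sq_mem

theorem qa_inv : T.qa⁻¹ = T.qa := inv_eq_of_mul_eq_one_left T.qa_sq

theorem qb_inv : T.qb⁻¹ = T.qb := inv_eq_of_mul_eq_one_left T.qb_sq

theorem qa_cancel (x : T.Q) : T.qa * (T.qa * x) = x := by rw [← mul_assoc, T.qa_sq, one_mul]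

theorem qb_cancel (x : T.Q) : T.qb * (T.qb * x) = x := by rw [← mul_assoc, T.qb_sq, one_mul]

/-- the braid relation in the quotient. -/
theorem q_braid : T.qb * T.qa * T.qb * T.qa * T.qb * T.qa = T.qa * T.qb * T.qa * T.qb * T.qa * T.qb := by
  obtain ⟨c, hc, e⟩ := T.braid_na
  have hm : T.nb * T.na * T.nb * T.na * T.nb ∈ T.Ns :=
    T.Ns.mul_mem (T.Ns.mul_mem (T.Ns.mul_mem (T.Ns.mul_mem T.nb_mem_Ns T.na_mem_Ns) T.nb_mem_Ns) T.na_mem_Ns)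
      T.nb_mem_Ns
  have hc' : T.Ra.h c ∈ T.Ns := T.Hs_le_Ns (T.h_a_mem_Hs hc)
  have e' : (⟨T.nb * T.na * T.nb * T.na * T.nb, hm⟩ : ↥T.Ns) * ⟨T.na, T.na_mem_Ns⟩ *
      (⟨T.nb * T.na * T.nb * T.na * T.nb, hm⟩ : ↥T.Ns)⁻¹ = ⟨T.Ra.h c, hc'⟩ * ⟨T.na, T.na_mem_Ns⟩ :=
    Subtype.ext e
  have e2 := congrArg (QuotientGroup.mk : ↥T.Ns → T.Q) e'
  have h1 : (QuotientGroup.mk (⟨T.Ra.h c, hc'⟩ : ↥T.Ns) : T.Q) = 1 := by
    rw [qmk_eq_one_iff]; exact T.h_a_mem_Hs hc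
  have h2 : (QuotientGroup.mk (⟨T.nb * T.na * T.nb * T.na * T.nb, hm⟩ : ↥T.Ns) : T.Q) =
      T.qb * T.qa * T.qb * T.qa * T.qb := rfl
  rw [QuotientGroup.mk_mul, QuotientGroup.mk_mul, QuotientGroup.mk_inv, QuotientGroup.mk_mul, h1, one_mul, h2] at e2
  have e3 : T.qb * T.qa * T.qb * T.qa * T.qb * T.qa =
      (T.qb * T.qa * T.qb * T.qa * T.qb * T.qa * (T.qb * T.qa * T.qb * T.qa * T.qb)⁻¹) *
        (T.qb * T.qa * T.qb * T.qa * T.qb) := by group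
  have e4 : (QuotientGroup.mk (⟨T.na, T.na_mem_Ns⟩ : ↥T.Ns) : T.Q) = T.qa := rfl
  rw [e4] at e2
  rw [e3, e2]
  simp only [mul_assoc]

/-- the rotation. -/
def qr : T.Q := T.qa * T.qb

theorem qr_pow_six : T.qr ^ 6 = 1 := by
  have e : T.qr ^ 6 = (T.qa * T.qb * T.qa * T.qb * T.qa * T.qb) * (T.qa * T.qb * T.qa * T.qb * T.qa * T.qb) := by
    unfold qr
    simp only [pow_succ, pow_zero, one_mul, mul_assoc]
  rw [e]
  nth_rewrite 2 [← T.q_braid]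
  simp only [mul_assoc, T.qa_cancel, T.qb_cancel, T.qa_sq]

theorem qb_eq : T.qb = T.qa * T.qr := by
  unfold qr; rw [T.qa_cancel]

theorem qb_mul_qa : T.qb * T.qa = T.qr⁻¹ := by
  unfold qr; rw [mul_inv_rev, T.qa_inv, T.qb_inv]

theorem qr_inv : T.qr⁻¹ = T.qr ^ 5 := by
  apply inv_eq_of_mul_eq_one_left
  rw [← pow_succ, T.qr_pow_six]

theorem q_closure : Subgroup.closure ({T.qa, T.qb} : Set T.Q) = ⊤ := by
  rw [eq_top_iff]
  rintro q -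
  induction q using QuotientGroup.induction_on with
  | H n =>
    obtain ⟨n, hn⟩ := n
    have hn' := hn
    unfold Ns at hn'
    induction hn' using Subgroup.closure_induction with
    | mem x hx =>
      rcases hx with hx | hx | hx
      · have : (QuotientGroup.mk (⟨x, hn⟩ : ↥T.Ns) : T.Q) = 1 := by
          rw [qmk_eq_one_iff]; exact hx
        rw [this]; exact Subgroup.one_mem _
      · subst hx
        exact Subgroup.subset_closure (Or.inl rfl)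
      · rw [Set.mem_singleton_iff] at hx
        subst hx
        exact Subgroup.subset_closure (Or.inr rfl)
    | one =>
      exact Subgroup.one_mem _
    | mul x y hx hy ihx ihy =>
      have hx' : x ∈ T.Ns := hx
      have hy' : y ∈ T.Ns := hy
      have : (QuotientGroup.mk (⟨x * y, hn⟩ : ↥T.Ns) : T.Q) =
          QuotientGroup.mk (⟨x, hx'⟩ : ↥T.Ns) * QuotientGroup.mk (⟨y, hy'⟩ : ↥T.Ns) := rfl
      rw [this]
      exact Subgroup.mul_mem _ (ihx hx') (ihy hy')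
    | inv x hx ihx =>
      have hx' : x ∈ T.Ns := hx
      have : (QuotientGroup.mk (⟨x⁻¹, hn⟩ : ↥T.Ns) : T.Q) = (QuotientGroup.mk (⟨x, hx'⟩ : ↥T.Ns))⁻¹ := rfl
      rw [this]
      exact Subgroup.inv_mem _ (ihx hx')

/-- the twelve classes. -/
theorem q_cases (q : T.Q) : ∃ k : ℕ, k < 6 ∧ (q = T.qr ^ k ∨ q = T.qa * T.qr ^ k) := by
  have hq : q ∈ Subgroup.closure ({T.qa, T.qb} : Set T.Q) := by rw [T.q_closure]; trivial
  have hA : ∀ y : T.Q, (∃ k : ℕ, k < 6 ∧ (y = T.qr ^ k ∨ y = T.qa * T.qr ^ k)) →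
      ∃ k : ℕ, k < 6 ∧ (T.qa * y = T.qr ^ k ∨ T.qa * y = T.qa * T.qr ^ k) := by
    rintro y ⟨k, hk, rfl | rfl⟩
    · exact ⟨k, hk, Or.inr rfl⟩
    · exact ⟨k, hk, Or.inl (T.qa_cancel _)⟩
  have hB : ∀ y : T.Q, (∃ k : ℕ, k < 6 ∧ (y = T.qr ^ k ∨ y = T.qa * T.qr ^ k)) →
      ∃ k : ℕ, k < 6 ∧ (T.qb * y = T.qr ^ k ∨ T.qb * y = T.qa * T.qr ^ k) := by
    rintro y ⟨k, hk, rfl | rfl⟩
    · by_cases h5 : k = 5
      · subst h5
        refine ⟨0, by norm_num, Or.inr ?_⟩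
        rw [T.qb_eq, mul_assoc, ← pow_succ', T.qr_pow_six, pow_zero]
      · refine ⟨k + 1, by omega, Or.inr ?_⟩
        rw [T.qb_eq, mul_assoc, ← pow_succ']
    · rw [← mul_assoc, T.qb_mul_qa]
      rcases Nat.eq_zero_or_pos k with h0 | h0
      · subst h0
        exact ⟨5, by norm_num, Or.inl (by rw [pow_zero, mul_one, T.qr_inv])⟩
      · refine ⟨k - 1, by omega, Or.inl ?_⟩
        obtain ⟨j, rfl⟩ : ∃ j, k = j + 1 := ⟨k - 1, by omega⟩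
        rw [pow_succ', ← mul_assoc, inv_mul_cancel, one_mul, Nat.add_sub_cancel]
  induction hq using Subgroup.closure_induction_left with
  | one => exact ⟨0, by norm_num, Or.inl (pow_zero _).symm⟩
  | mul_left x hx y _ ih =>
    rcases hx with hx | hx
    · rw [hx]; exact hA y ih
    · rw [Set.mem_singleton_iff] at hx
      rw [hx]; exact hB y ih
  | inv_mul_cancel x hx y _ ih =>
    rcases hx with hx | hx
    · rw [hx, T.qa_inv]; exact hA y ih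
    · rw [Set.mem_singleton_iff] at hx
      rw [hx, T.qb_inv]; exact hB y ih

/-- the elements of `Ns`: `h r^k` or `h n_a r^k`. -/
theorem Ns_cases {n : Γ} (hn : n ∈ T.Ns) : ∃ h ∈ T.Hs, ∃ k : ℕ, k < 6 ∧
    (n = h * (T.na * T.nb) ^ k ∨ n = h * (T.na * (T.na * T.nb) ^ k)) := by
  obtain ⟨k, hk, hq⟩ := T.q_cases (QuotientGroup.mk ⟨n, hn⟩)
  have hr : T.na * T.nb ∈ T.Ns := T.Ns.mul_mem T.na_mem_Ns T.nb_mem_Ns
  have hrk : (T.na * T.nb) ^ k ∈ T.Ns := T.Ns.pow_mem hr k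
  have e1 : T.qr ^ k = QuotientGroup.mk (⟨(T.na * T.nb) ^ k, hrk⟩ : ↥T.Ns) := by
    have : (⟨(T.na * T.nb) ^ k, hrk⟩ : ↥T.Ns) = (⟨T.na * T.nb, hr⟩ : ↥T.Ns) ^ k := Subtype.ext rfl
    rw [this, QuotientGroup.mk_pow]
    rfl
  have key : ∀ m : Γ, ∀ hm : m ∈ T.Ns, (QuotientGroup.mk (⟨n, hn⟩ : ↥T.Ns) : T.Q) = QuotientGroup.mk ⟨m, hm⟩ →
      ∃ h ∈ T.Hs, n = h * m := by
    intro m hm e
    rw [QuotientGroup.eq, Subgroup.mem_subgroupOf] at e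
    have e' : n⁻¹ * m ∈ T.Hs := e
    refine ⟨n * (n⁻¹ * m)⁻¹ * n⁻¹, T.Ns_conj_Hs hn (T.Hs.inv_mem e'), ?_⟩
    group
  rcases hq with hq | hq
  · rw [e1] at hq
    obtain ⟨h, hh, e⟩ := key _ hrk hq
    exact ⟨h, hh, k, hk, Or.inl e⟩
  · rw [e1] at hq
    have hm : T.na * (T.na * T.nb) ^ k ∈ T.Ns := T.Ns.mul_mem T.na_mem_Ns hrk
    have hq' : (QuotientGroup.mk (⟨n, hn⟩ : ↥T.Ns) : T.Q) = QuotientGroup.mk ⟨T.na * (T.na * T.nb) ^ k, hm⟩ := by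
      rw [hq]; rfl
    obtain ⟨h, hh, e⟩ := key _ hm hq'
    exact ⟨h, hh, k, hk, Or.inr e⟩

end TTor

end Cfsg.Agent.CtRecT
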