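import Mathlib
import Cfsg.Agent.CtRecT.TTorN

set_option autoImplicit false
set_option linter.unusedSectionVars false
set_option linter.unusedVariables false

/-!
# S2110, Part II (helper9): unique `p`-lifts (as a structure) and the lift of a system `TTor`

`PLift σ p`: a map `pl : G → E` which sends every `p`-element to its unique `p`-element lift and is multiplicative on `p`-subgroups
(it exists if `σ` is a surjection with central kernel of order prime to `p`: piece UL).  Consequences: equivariance (`conj_pl`), and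
the lift of the rank one systems and of a `TTor`.
-/

namespace Cfsg.Agent.CtRecT

open Cfsg.Agent.CtRecM

/-- unique `p`-lifts along `σ`. -/
structure PLift {E G : Type*} [Group E] [Group G] (σ : E →* G) (p : ℕ) where
  /-- the lift -/
  pl : G → E
  map_pl : ∀ g : G, (∃ n : ℕ, g ^ p ^ n = 1) → σ (pl g) = g
  pl_map : ∀ e : E, (∃ n : ℕ, e ^ p ^ n = 1) → pl (σ e) = e
  pl_pow : ∀ g : G, (∃ n : ℕ, g ^ p ^ n = 1) → ∃ n : ℕ, pl g ^ p ^ n = 1
  pl_mul : ∀ P : Subgroup G, IsPGroup p P → ∀ g ∈ P, ∀ g' ∈ P, pl (g * g') = pl g * pl g'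

namespace PLift

variable {E G : Type*} [Group E] [Group G] {σ : E →* G} {p : ℕ} (L : PLift σ p)

theorem pl_one : L.pl 1 = 1 := by
  have := L.pl_map 1 ⟨0, by simp⟩
  rwa [map_one] at this

/-- equivariance. -/
theorem conj_pl (e : E) {g : G} (hg : ∃ n : ℕ, g ^ p ^ n = 1) :
    e * L.pl g * e⁻¹ = L.pl (σ e * g * (σ e)⁻¹) := by
  obtain ⟨n, hn⟩ := L.pl_pow g hg
  have h1 : (e * L.pl g * e⁻¹) ^ p ^ n = 1 := by
    rw [conj_pow, hn, mul_one, mul_inv_cancel]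
  have h2 := L.pl_map (e * L.pl g * e⁻¹) ⟨n, h1⟩
  rw [map_mul, map_mul, map_inv, L.map_pl g hg] at h2
  exact h2.symm

theorem conj_pl' (e : E) {g : G} (hg : ∃ n : ℕ, g ^ p ^ n = 1) :
    e⁻¹ * L.pl g * e = L.pl ((σ e)⁻¹ * g * σ e) := by
  have := L.conj_pl e⁻¹ hg
  rwa [inv_inv, map_inv, inv_inv] at this

theorem pl_mem_of_isPGroup {P : Subgroup G} (hP : IsPGroup p P) {g : G} (hg : g ∈ P) :
    ∃ n : ℕ, g ^ p ^ n = 1 := by
  obtain ⟨k, hk⟩ := hP ⟨g, hg⟩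
  refine ⟨k, ?_⟩
  have := congrArg Subtype.val hk
  simpa using this

end PLift

/-! ### root elements are `p`-elements -/

section rk1

variable {L' : Type*} [Field L'] {Γ : Type*} [Group Γ] (S : Rk1 L' Γ)

theorem rk1_xp_pow (t : L') (n : ℕ) : S.xp t ^ n = S.xp (n * t) := by
  induction n with
  | zero => rw [pow_zero, Nat.cast_zero, zero_mul, S.xp_zero]
  | succ k ih => rw [pow_succ, ih, S.xp_add]; congr 1; push_cast; ring

theorem rk1_xm_pow (t : L') (n : ℕ) : S.xm t ^ n = S.xm (n * t) := by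
  induction n with
  | zero => rw [pow_zero, Nat.cast_zero, zero_mul, S.xm_zero]
  | succ k ih => rw [pow_succ, ih, S.xm_add]; congr 1; push_cast; ring

/-- the subgroup of the `xp t`. -/
def rk1Xp : Subgroup Γ where
  carrier := Set.range S.xp
  mul_mem' := by rintro _ _ ⟨t, rfl⟩ ⟨u, rfl⟩; exact ⟨t + u, (S.xp_add t u).symm⟩
  one_mem' := ⟨0, S.xp_zero⟩
  inv_mem' := by rintro _ ⟨t, rfl⟩; exact ⟨-t, (S.xp_inv t).symm⟩

/-- the subgroup of the `xm t`. -/
def rk1Xm : Subgroup Γ where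
  carrier := Set.range S.xm
  mul_mem' := by rintro _ _ ⟨t, rfl⟩ ⟨u, rfl⟩; exact ⟨t + u, (S.xm_add t u).symm⟩
  one_mem' := ⟨0, S.xm_zero⟩
  inv_mem' := by rintro _ ⟨t, rfl⟩; exact ⟨-t, (S.xm_inv t).symm⟩

theorem rk1Xp_isPGroup {p : ℕ} (hp : (p : L') = 0) : IsPGroup p (rk1Xp S) := by
  rintro ⟨_, t, rfl⟩
  refine ⟨1, Subtype.ext ?_⟩
  simp only [pow_one, SubmonoidClass.coe_pow, OneMemClass.coe_one]
  rw [rk1_xp_pow, hp, zero_mul, S.xp_zero]

theorem rk1Xm_isPGroup {p : ℕ} (hp : (p : L') = 0) : IsPGroup p (rk1Xm S) := by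
  rintro ⟨_, t, rfl⟩
  refine ⟨1, Subtype.ext ?_⟩
  simp only [pow_one, SubmonoidClass.coe_pow, OneMemClass.coe_one]
  rw [rk1_xm_pow, hp, zero_mul, S.xm_zero]

theorem rk1_xp_pel {p : ℕ} (hp : (p : L') = 0) (t : L') : ∃ n : ℕ, S.xp t ^ p ^ n = 1 :=
  ⟨1, by rw [pow_one, rk1_xp_pow, hp, zero_mul, S.xp_zero]⟩

theorem rk1_xm_pel {p : ℕ} (hp : (p : L') = 0) (t : L') : ∃ n : ℕ, S.xm t ^ p ^ n = 1 :=
  ⟨1, by rw [pow_one, rk1_xm_pow, hp, zero_mul, S.xm_zero]⟩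

variable {E : Type*} [Group E] {σ : E →* Γ} {p : ℕ} (L : PLift σ p) (hp : (p : L') = 0)

/-- the lift of a rank one system. -/
def liftRk1 : Rk1 L' E where
  xp := fun t => L.pl (S.xp t)
  xm := fun t => L.pl (S.xm t)
  xp_add := fun t u => by
    rw [← S.xp_add, L.pl_mul (rk1Xp S) (rk1Xp_isPGroup S hp) _ ⟨t, rfl⟩ _ ⟨u, rfl⟩]
  xm_add := fun t u => by
    rw [← S.xm_add, L.pl_mul (rk1Xm S) (rk1Xm_isPGroup S hp) _ ⟨t, rfl⟩ _ ⟨u, rfl⟩]
  conj_xp := fun t ht u => by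
    rw [L.conj_pl _ (rk1_xp_pel S hp u)]
    congr 1
    rw [map_mul, map_mul, L.map_pl _ (rk1_xp_pel S hp t), L.map_pl _ (rk1_xm_pel S hp _)]
    exact S.conj_xp t ht u

theorem liftRk1_xp (t : L') : (liftRk1 S L hp).xp t = L.pl (S.xp t) := rfl

theorem liftRk1_xm (t : L') : (liftRk1 S L hp).xm t = L.pl (S.xm t) := rfl

theorem map_liftRk1_xp (t : L') : σ ((liftRk1 S L hp).xp t) = S.xp t := L.map_pl _ (rk1_xp_pel S hp t)

theorem map_liftRk1_xm (t : L') : σ ((liftRk1 S L hp).xm t) = S.xm t := L.map_pl _ (rk1_xm_pel S hp t)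

theorem map_liftRk1_w (t : L') : σ ((liftRk1 S L hp).w t) = S.w t := by
  unfold Rk1.w
  rw [map_mul, map_mul, map_liftRk1_xp, map_liftRk1_xm]

theorem map_liftRk1_h (t : L') : σ ((liftRk1 S L hp).h t) = S.h t := by
  unfold Rk1.h
  rw [map_mul, map_liftRk1_w, map_liftRk1_w]

end rk1

/-! ### the lift of a system `TTor` -/

section ttor

variable {K : Type*} [Field K] {f : K ≃+* K} {G E : Type*} [Group G] [Group E] (T : TTor f G)
  {σ : E →* G} {p : ℕ} (L : PLift σ p) (hp : (p : K) = 0)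

theorem fixF_char (f : K ≃+* K) {p : ℕ} (hp : (p : K) = 0) : (p : fixF f) = 0 := by
  apply Subtype.ext
  push_cast
  exact hp

/-- the lift of a system `TTor`. -/
def liftTTor : TTor f E where
  Ra := liftRk1 T.Ra L hp
  Rb := liftRk1 T.Rb L (fixF_char f hp)
  tor_ab := fun t ht => by
    obtain ⟨c, hc, hcu⟩ := T.tor_ab t ht
    refine ⟨c, hc, fun u => ⟨?_, ?_⟩⟩
    · rw [liftRk1_xp, liftRk1_xp, L.conj_pl _ (rk1_xp_pel T.Rb (fixF_char f hp) u), map_liftRk1_h, (hcu u).1]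
    · rw [liftRk1_xm, liftRk1_xm, L.conj_pl _ (rk1_xm_pel T.Rb (fixF_char f hp) u), map_liftRk1_h, (hcu u).2]
  tor_ba := fun t ht => by
    obtain ⟨c, hc, hcu⟩ := T.tor_ba t ht
    refine ⟨c, hc, fun u => ⟨?_, ?_⟩⟩
    · rw [liftRk1_xp, liftRk1_xp, L.conj_pl _ (rk1_xp_pel T.Ra hp u), map_liftRk1_h, (hcu u).1]
    · rw [liftRk1_xm, liftRk1_xm, L.conj_pl _ (rk1_xm_pel T.Ra hp u), map_liftRk1_h, (hcu u).2]
  braid := by
    obtain ⟨c, hc, e1, e2⟩ := T.braid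
    refine ⟨c, hc, ?_, ?_⟩
    · rw [liftRk1_xp, liftRk1_xp, L.conj_pl _ (rk1_xp_pel T.Ra hp 1)]
      simp only [map_mul, map_liftRk1_w]
      rw [e1]
    · rw [liftRk1_xm, liftRk1_xm, L.conj_pl _ (rk1_xm_pel T.Ra hp (-1))]
      simp only [map_mul, map_liftRk1_w]
      rw [e2]

theorem liftTTor_Ra : (liftTTor T L hp).Ra = liftRk1 T.Ra L hp := rfl

theorem liftTTor_Rb : (liftTTor T L hp).Rb = liftRk1 T.Rb L (fixF_char f hp) := rfl

theorem map_lift_na : σ (liftTTor T L hp).na = T.na := map_liftRk1_w T.Ra L hp 1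

theorem map_lift_nb : σ (liftTTor T L hp).nb = T.nb := map_liftRk1_w T.Rb L (fixF_char f hp) 1

theorem map_lift_Hs {h : E} (hh : h ∈ (liftTTor T L hp).Hs) : σ h ∈ T.Hs := by
  unfold TTor.Hs at hh
  induction hh using Subgroup.closure_induction with
  | mem x hx =>
    rcases hx with ⟨t, ht, rfl⟩ | ⟨u, hu, rfl⟩
    · rw [liftTTor_Ra, map_liftRk1_h]; exact T.h_a_mem_Hs ht
    · rw [liftTTor_Rb, map_liftRk1_h]; exact T.h_b_mem_Hs hu
  | one => rw [map_one]; exact T.Hs.one_mem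
  | mul x y _ _ hx hy => rw [map_mul]; exact T.Hs.mul_mem hx hy
  | inv x _ hx => rw [map_inv]; exact T.Hs.inv_mem hx

theorem map_lift_Ns {n : E} (hn : n ∈ (liftTTor T L hp).Ns) : σ n ∈ T.Ns := by
  unfold TTor.Ns at hn
  induction hn using Subgroup.closure_induction with
  | mem x hx =>
    rcases hx with hx | hx | hx
    · exact T.Hs_le_Ns (map_lift_Hs T L hp hx)
    · rw [hx, map_lift_na]; exact T.na_mem_Ns
    · rw [Set.mem_singleton_iff] at hx
      rw [hx, map_lift_nb]; exact T.nb_mem_Ns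
  | one => rw [map_one]; exact T.Ns.one_mem
  | mul x y _ _ hx hy => rw [map_mul]; exact T.Ns.mul_mem hx hy
  | inv x _ hx => rw [map_inv]; exact T.Ns.inv_mem hx

end ttor

end Cfsg.Agent.CtRecT
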