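import Mathlib
import Cfsg.Agent.CtRecT.TPL

set_option autoImplicit false
set_option linter.unusedSectionVars false
set_option linter.unusedVariables false

/-!
# S2110, Part II (helper9): the closure argument `Γ₀ = B̃ Ñ B̃` upstairs

Generic part: for subgroups `Ut`, `Hs` (`Hs` normalizing `Ut`), `bsub = Ut Hs`, and a rank one system `R` with `n = R.w 1`:
`bn_rank` (`n b n ∈ B ∪ B n B`), `bn_pos` (`n b m ∈ B (n m) B` if `m⁻¹ X m ≤ Ut`), `bn_step` (the dichotomy).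
Then for `D : BNDat f G`, `L : PLift σ p`: every element of the group generated by the lifted root elements is `b₁ m b₂`
with `b₁, b₂ ∈ B̃`, `m ∈ Ñ` (`BNDat.gen_cells`).
-/

namespace Cfsg.Agent.CtRecT

open Cfsg.Agent.CtRecM

section generic

variable {E : Type*} [Group E] (Ut Hs : Subgroup E) (hHU : ∀ h ∈ Hs, ∀ u ∈ Ut, h * u * h⁻¹ ∈ Ut)

/-- the subgroup `Ut Hs`. -/
def bsub : Subgroup E where
  carrier := {e | ∃ u ∈ Ut, ∃ h ∈ Hs, e = u * h}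
  mul_mem' := by
    rintro _ _ ⟨u, hu, h, hh, rfl⟩ ⟨u', hu', h', hh', rfl⟩
    refine ⟨u * (h * u' * h⁻¹), Ut.mul_mem hu (hHU h hh u' hu'), h * h', Hs.mul_mem hh hh', ?_⟩
    group
  one_mem' := ⟨1, Ut.one_mem, 1, Hs.one_mem, by group⟩
  inv_mem' := by
    rintro _ ⟨u, hu, h, hh, rfl⟩
    refine ⟨h⁻¹ * u⁻¹ * (h⁻¹)⁻¹, hHU h⁻¹ (Hs.inv_mem hh) u⁻¹ (Ut.inv_mem hu), h⁻¹, Hs.inv_mem hh, ?_⟩
    group

theorem mem_bsub {e : E} : e ∈ bsub Ut Hs hHU ↔ ∃ u ∈ Ut, ∃ h ∈ Hs, e = u * h := Iff.rfl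

theorem Ut_le_bsub : Ut ≤ bsub Ut Hs hHU := fun u hu => ⟨u, hu, 1, Hs.one_mem, by group⟩

theorem Hs_le_bsub : Hs ≤ bsub Ut Hs hHU := fun h hh => ⟨1, Ut.one_mem, h, hh, by group⟩

variable {L' : Type*} [Field L'] (R : Rk1 L' E)

/-- rank one: `n B n ⊆ B ∪ B n B`. -/
theorem bn_rank (hx : ∀ t, R.xp t ∈ Ut) (hh : ∀ t, t ≠ 0 → R.h t ∈ Hs) (hsq : R.w 1 * R.w 1 ∈ Hs)
    (hnH : ∀ h ∈ Hs, (R.w 1)⁻¹ * h * R.w 1 ∈ Hs)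
    (hdec : ∀ u ∈ Ut, ∃ v, R.w 1 * v * (R.w 1)⁻¹ ∈ Ut ∧ ∃ t, u = v * R.xp t)
    {b : E} (hb : b ∈ bsub Ut Hs hHU) :
    R.w 1 * b * R.w 1 ∈ bsub Ut Hs hHU ∨
      ∃ b₁ ∈ bsub Ut Hs hHU, ∃ b₂ ∈ bsub Ut Hs hHU, R.w 1 * b * R.w 1 = b₁ * R.w 1 * b₂ := by
  obtain ⟨u, hu, h, hhH, rfl⟩ := hb
  obtain ⟨v, hv, t, rfl⟩ := hdec u hu
  have e0 : R.w 1 * (v * R.xp t * h) * R.w 1 =
      (R.w 1 * v * (R.w 1)⁻¹) * (R.w 1 * R.xp t * (R.w 1)⁻¹) * (R.w 1 * R.w 1) * ((R.w 1)⁻¹ * h * R.w 1) := by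
    group
  by_cases ht : t = 0
  · left
    subst ht
    rw [e0, R.xp_zero, mul_one, mul_inv_cancel, mul_one, mul_assoc]
    exact ⟨_, hv, _, Hs.mul_mem hsq (hnH h hhH), rfl⟩
  · right
    have e1 : R.w 1 * R.xp t * (R.w 1)⁻¹ = R.xm (-t) := by
      rw [R.w_conj_xp one_ne_zero t]; congr 1; simp
    have hnt : -t ≠ 0 := neg_ne_zero.mpr ht
    have e2 : R.xm (-t) = R.xp (-t)⁻¹ * (R.h (t⁻¹) * R.w 1) * R.xp (-t)⁻¹ := by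
      rw [R.xm_eq hnt, R.h_mul_w_one]
      congr 3
      rw [inv_neg, neg_neg]
    refine ⟨(R.w 1 * v * (R.w 1)⁻¹) * R.xp (-t)⁻¹ * R.h (t⁻¹),
      ⟨_, Ut.mul_mem hv (hx _), _, hh _ (inv_ne_zero ht), rfl⟩,
      R.xp (-t)⁻¹ * ((R.w 1 * R.w 1) * ((R.w 1)⁻¹ * h * R.w 1)),
      ⟨_, hx _, _, Hs.mul_mem hsq (hnH h hhH), rfl⟩, ?_⟩
    rw [e0, e1, e2]
    simp only [mul_assoc]

/-- the positive case: `n B m ⊆ B (n m) B`. -/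
theorem bn_pos (hdec : ∀ u ∈ Ut, ∃ v, R.w 1 * v * (R.w 1)⁻¹ ∈ Ut ∧ ∃ t, u = v * R.xp t)
    {m : E} (hmH : ∀ h ∈ Hs, m⁻¹ * h * m ∈ Hs) (hpos : ∀ t, m⁻¹ * R.xp t * m ∈ Ut)
    {b : E} (hb : b ∈ bsub Ut Hs hHU) :
    ∃ b₁ ∈ bsub Ut Hs hHU, ∃ b₂ ∈ bsub Ut Hs hHU, R.w 1 * b * m = b₁ * (R.w 1 * m) * b₂ := by
  obtain ⟨u, hu, h, hhH, rfl⟩ := hb
  obtain ⟨v, hv, t, rfl⟩ := hdec u hu
  refine ⟨R.w 1 * v * (R.w 1)⁻¹, Ut_le_bsub Ut Hs hHU hv, (m⁻¹ * R.xp t * m) * (m⁻¹ * h * m),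
    ⟨_, hpos t, _, hmH h hhH, rfl⟩, ?_⟩
  group

/-- the step of the closure argument: `n B m ⊆ B (n m) B ∪ B m B`. -/
theorem bn_step (hx : ∀ t, R.xp t ∈ Ut) (hh : ∀ t, t ≠ 0 → R.h t ∈ Hs) (hsq : R.w 1 * R.w 1 ∈ Hs)
    (hnH : ∀ h ∈ Hs, (R.w 1)⁻¹ * h * R.w 1 ∈ Hs) (hnH' : ∀ h ∈ Hs, R.w 1 * h * (R.w 1)⁻¹ ∈ Hs)
    (hinv : ∃ β ∈ Hs, (R.w 1)⁻¹ = R.w 1 * β)
    (hdec : ∀ u ∈ Ut, ∃ v, R.w 1 * v * (R.w 1)⁻¹ ∈ Ut ∧ ∃ t, u = v * R.xp t)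
    {m : E} (hmH : ∀ h ∈ Hs, m⁻¹ * h * m ∈ Hs)
    (hdich : (∀ t, m⁻¹ * R.xp t * m ∈ Ut) ∨
      (∀ t, ((R.w 1)⁻¹ * m)⁻¹ * R.xp t * ((R.w 1)⁻¹ * m) ∈ Ut))
    {b : E} (hb : b ∈ bsub Ut Hs hHU) :
    (∃ b₁ ∈ bsub Ut Hs hHU, ∃ b₂ ∈ bsub Ut Hs hHU, R.w 1 * b * m = b₁ * (R.w 1 * m) * b₂) ∨
      ∃ b₁ ∈ bsub Ut Hs hHU, ∃ b₂ ∈ bsub Ut Hs hHU, R.w 1 * b * m = b₁ * m * b₂ := by
  rcases hdich with hpos | hneg
  · exact Or.inl (bn_pos Ut Hs hHU R hdec hmH hpos hb)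
  · have hm'H : ∀ h ∈ Hs, ((R.w 1)⁻¹ * m)⁻¹ * h * ((R.w 1)⁻¹ * m) ∈ Hs := by
      intro h hhH
      have e : ((R.w 1)⁻¹ * m)⁻¹ * h * ((R.w 1)⁻¹ * m) = m⁻¹ * (R.w 1 * h * (R.w 1)⁻¹) * m := by group
      rw [e]
      exact hmH _ (hnH' h hhH)
    have e0 : R.w 1 * b * m = (R.w 1 * b * R.w 1) * ((R.w 1)⁻¹ * m) := by group
    rcases bn_rank Ut Hs hHU R hx hh hsq hnH hdec hb with h0 | ⟨b₁, hb₁, b₂, hb₂, e1⟩
    · left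
      obtain ⟨β, hβ, eβ⟩ := hinv
      refine ⟨R.w 1 * b * R.w 1, h0, m⁻¹ * β * m, Hs_le_bsub Ut Hs hHU (hmH β hβ), ?_⟩
      rw [e0]
      conv_lhs => rw [eβ]
      group
    · right
      obtain ⟨b₃, hb₃, b₄, hb₄, e2⟩ := bn_pos Ut Hs hHU R hdec hm'H hneg hb₂
      refine ⟨b₁ * b₃, (bsub Ut Hs hHU).mul_mem hb₁ hb₃, b₄, hb₄, ?_⟩
      have e3 : R.w 1 * ((R.w 1)⁻¹ * m) = m := by group
      rw [e3] at e2
      rw [e0, e1]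
      calc b₁ * R.w 1 * b₂ * ((R.w 1)⁻¹ * m) = b₁ * (R.w 1 * b₂ * ((R.w 1)⁻¹ * m)) := by group
        _ = b₁ * (b₃ * m * b₄) := by rw [e2]
        _ = b₁ * b₃ * m * b₄ := by group

end generic

/-- a subset of a finite group containing `1` and stable under left multiplication by `S` contains the closure of `S`. -/
theorem closure_subset_of_mul_left {E : Type*} [Group E] [Finite E] (S : Set E) (C : Set E) (h1 : (1 : E) ∈ C)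
    (hS : ∀ s ∈ S, ∀ g ∈ C, s * g ∈ C) : ∀ x ∈ Subgroup.closure S, x ∈ C := by
  have key : ∀ x ∈ Subgroup.closure S, ∀ g ∈ C, x * g ∈ C := by
    intro x hx
    induction hx using Subgroup.closure_induction with
    | mem s hs => exact hS s hs
    | one => intro g hg; rwa [one_mul]
    | mul x y _ _ hx hy => intro g hg; rw [mul_assoc]; exact hx _ (hy g hg)
    | inv x _ hx =>
      have hpow : ∀ k : ℕ, ∀ g ∈ C, x ^ k * g ∈ C := by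
        intro k
        induction k with
        | zero => intro g hg; rwa [pow_zero, one_mul]
        | succ k ih => intro g hg; rw [pow_succ', mul_assoc]; exact hx _ (ih g hg)
      intro g hg
      have e : x⁻¹ = x ^ (orderOf x - 1) := by
        have hpos : 0 < orderOf x := orderOf_pos x
        apply inv_eq_of_mul_eq_one_left
        rw [← pow_succ, Nat.sub_add_cancel hpos, pow_orderOf_eq_one]
      rw [e]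
      exact hpow _ g hg
  intro x hx
  have := key x hx 1 h1
  rwa [mul_one] at this

end Cfsg.Agent.CtRecT
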