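import Mathlib
import Cfsg.Agent.CtRecT.TClos

set_option autoImplicit false
set_option linter.unusedSectionVars false
set_option linter.unusedVariables false

/-!
# S2110, Part II (helper9): the closure argument for `D : BNDat f G` and unique `p`-lifts `L : PLift σ p`

`D.up L hp` is the lifted `TTor`, `D.Ut L hU` the lift of `U`, `D.Bt` the lifted Borel subgroup, `D.cells` the set `B̃ Ñ B̃`;
`D.gen_subset_cells`: the subgroup generated by the lifted root elements lies in `B̃ Ñ B̃`.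
-/

namespace Cfsg.Agent.CtRecT

open Cfsg.Agent.CtRecM

variable {K : Type*} [Field K] {f : K ≃+* K} {G E : Type*} [Group G] [Group E]
  (D : BNDat f G) {σ : E →* G} {p : ℕ} (L : PLift σ p) (hp : (p : K) = 0) (hU : IsPGroup p D.U)

namespace BNDat

/-- the lifted system. -/
abbrev up : TTor f E := liftTTor D.toTTor L hp

theorem pel_of_mem_U {p : ℕ} (hU' : IsPGroup p D.U) {u : G} (hu : u ∈ D.U) : ∃ n : ℕ, u ^ p ^ n = 1 :=
  PLift.pl_mem_of_isPGroup hU' hu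

/-- the lift of `U`. -/
def Ut : Subgroup E where
  carrier := {e | ∃ u ∈ D.U, e = L.pl u}
  mul_mem' := by
    rintro _ _ ⟨u, hu, rfl⟩ ⟨u', hu', rfl⟩
    exact ⟨u * u', D.U.mul_mem hu hu', (L.pl_mul D.U hU u hu u' hu').symm⟩
  one_mem' := ⟨1, D.U.one_mem, L.pl_one.symm⟩
  inv_mem' := by
    rintro _ ⟨u, hu, rfl⟩
    refine ⟨u⁻¹, D.U.inv_mem hu, ?_⟩
    apply inv_eq_of_mul_eq_one_left
    rw [← L.pl_mul D.U hU _ (D.U.inv_mem hu) _ hu, inv_mul_cancel, L.pl_one]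

theorem mem_Ut {e : E} : e ∈ D.Ut L hU ↔ ∃ u ∈ D.U, e = L.pl u := Iff.rfl

theorem Hs_conj_Ut : ∀ h ∈ (D.up L hp).Hs, ∀ u ∈ D.Ut L hU, h * u * h⁻¹ ∈ D.Ut L hU := by
  rintro h hh _ ⟨u, hu, rfl⟩
  rw [L.conj_pl h (D.pel_of_mem_U hU hu)]
  exact ⟨_, D.H_U _ (map_lift_Hs D.toTTor L hp hh) u hu, rfl⟩

/-- the lifted Borel subgroup. -/
abbrev Bt : Subgroup E := bsub (D.Ut L hU) (D.up L hp).Hs (D.Hs_conj_Ut L hp hU)

theorem xa_mem_Ut (t : K) : (D.up L hp).Ra.xp t ∈ D.Ut L hU := ⟨_, D.xa_mem t, rfl⟩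

theorem xb_mem_Ut (t : fixF f) : (D.up L hp).Rb.xp t ∈ D.Ut L hU := ⟨_, D.xb_mem t, rfl⟩

theorem up_dec_a : ∀ u ∈ D.Ut L hU, ∃ v, (D.up L hp).Ra.w 1 * v * ((D.up L hp).Ra.w 1)⁻¹ ∈ D.Ut L hU ∧
    ∃ t, u = v * (D.up L hp).Ra.xp t := by
  rintro _ ⟨u, hu, rfl⟩
  obtain ⟨v, hv, t, rfl⟩ := D.dec_a u hu
  have hvU := D.Ua_le hv
  refine ⟨L.pl v, ?_, t, ?_⟩
  · rw [L.conj_pl _ (D.pel_of_mem_U hU hvU)]
    have e : σ ((D.up L hp).Ra.w 1) = D.toTTor.na := map_lift_na D.toTTor L hp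
    rw [e]
    exact ⟨_, D.na_Ua v hv, rfl⟩
  · exact L.pl_mul D.U hU v hvU _ (D.xa_mem t)

theorem up_dec_b : ∀ u ∈ D.Ut L hU, ∃ v, (D.up L hp).Rb.w 1 * v * ((D.up L hp).Rb.w 1)⁻¹ ∈ D.Ut L hU ∧
    ∃ t, u = v * (D.up L hp).Rb.xp t := by
  rintro _ ⟨u, hu, rfl⟩
  obtain ⟨v, hv, t, rfl⟩ := D.dec_b u hu
  have hvU := D.Ub_le hv
  refine ⟨L.pl v, ?_, t, ?_⟩
  · rw [L.conj_pl _ (D.pel_of_mem_U hU hvU)]
    have e : σ ((D.up L hp).Rb.w 1) = D.toTTor.nb := map_lift_nb D.toTTor L hp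
    rw [e]
    exact ⟨_, D.nb_Ub v hv, rfl⟩
  · exact L.pl_mul D.U hU v hvU _ (D.xb_mem t)

theorem up_dich_a {m : E} (hm : m ∈ (D.up L hp).Ns) :
    (∀ t, m⁻¹ * (D.up L hp).Ra.xp t * m ∈ D.Ut L hU) ∨
      (∀ t, (((D.up L hp).Ra.w 1)⁻¹ * m)⁻¹ * (D.up L hp).Ra.xp t * (((D.up L hp).Ra.w 1)⁻¹ * m) ∈ D.Ut L hU) := by
  rcases D.dich_a (σ m) (map_lift_Ns D.toTTor L hp hm) with h | h
  · left
    intro t
    have : (D.up L hp).Ra.xp t = L.pl (D.Ra.xp t) := rfl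
    rw [this, L.conj_pl' m (rk1_xp_pel D.Ra hp t)]
    exact ⟨_, h t, rfl⟩
  · right
    intro t
    have : (D.up L hp).Ra.xp t = L.pl (D.Ra.xp t) := rfl
    rw [this, L.conj_pl' _ (rk1_xp_pel D.Ra hp t)]
    have e : σ (((D.up L hp).Ra.w 1)⁻¹ * m) = D.toTTor.na⁻¹ * σ m := by
      rw [map_mul, map_inv]
      congr 2
      exact map_lift_na D.toTTor L hp
    rw [e]
    exact ⟨_, h t, rfl⟩

theorem up_dich_b {m : E} (hm : m ∈ (D.up L hp).Ns) :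
    (∀ t, m⁻¹ * (D.up L hp).Rb.xp t * m ∈ D.Ut L hU) ∨
      (∀ t, (((D.up L hp).Rb.w 1)⁻¹ * m)⁻¹ * (D.up L hp).Rb.xp t * (((D.up L hp).Rb.w 1)⁻¹ * m) ∈ D.Ut L hU) := by
  rcases D.dich_b (σ m) (map_lift_Ns D.toTTor L hp hm) with h | h
  · left
    intro t
    have : (D.up L hp).Rb.xp t = L.pl (D.Rb.xp t) := rfl
    rw [this, L.conj_pl' m (rk1_xp_pel D.Rb (fixF_char f hp) t)]
    exact ⟨_, h t, rfl⟩
  · right
    intro t
    have : (D.up L hp).Rb.xp t = L.pl (D.Rb.xp t) := rfl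
    rw [this, L.conj_pl' _ (rk1_xp_pel D.Rb (fixF_char f hp) t)]
    have e : σ (((D.up L hp).Rb.w 1)⁻¹ * m) = D.toTTor.nb⁻¹ * σ m := by
      rw [map_mul, map_inv]
      congr 2
      exact map_lift_nb D.toTTor L hp
    rw [e]
    exact ⟨_, h t, rfl⟩

/-- the set `B̃ Ñ B̃`. -/
def cells : Set E :=
  {e | ∃ b₁ ∈ D.Bt L hp hU, ∃ m ∈ (D.up L hp).Ns, ∃ b₂ ∈ D.Bt L hp hU, e = b₁ * m * b₂}

theorem one_mem_cells : (1 : E) ∈ D.cells L hp hU :=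
  ⟨1, Subgroup.one_mem _, 1, Subgroup.one_mem _, 1, Subgroup.one_mem _, by group⟩

theorem cells_mul_left_Bt {b e : E} (hb : b ∈ D.Bt L hp hU) (he : e ∈ D.cells L hp hU) :
    b * e ∈ D.cells L hp hU := by
  obtain ⟨b₁, hb₁, m, hm, b₂, hb₂, rfl⟩ := he
  exact ⟨b * b₁, Subgroup.mul_mem _ hb hb₁, m, hm, b₂, hb₂, by group⟩

variable [Finite K]

theorem cells_mul_left_na {e : E} (he : e ∈ D.cells L hp hU) : (D.up L hp).na * e ∈ D.cells L hp hU := by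
  obtain ⟨b₁, hb₁, m, hm, b₂, hb₂, rfl⟩ := he
  have T' := D.up L hp
  have hstep := bn_step (D.Ut L hU) (D.up L hp).Hs (D.Hs_conj_Ut L hp hU) (D.up L hp).Ra
    (D.xa_mem_Ut L hp hU) (fun t ht => (D.up L hp).h_a_mem_Hs ht) (D.up L hp).na_sq_mem
    (fun h hh => (D.up L hp).na_inv_conj_Hs hh) (fun h hh => (D.up L hp).na_conj_Hs hh)
    ⟨_, (D.up L hp).ha_neg_one_mem, (D.up L hp).na_inv_eq⟩ (D.up_dec_a L hp hU)
    (fun h hh => (D.up L hp).Ns_inv_conj_Hs hm hh) (D.up_dich_a L hp hU hm) hb₁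
  rcases hstep with ⟨c₁, hc₁, c₂, hc₂, e⟩ | ⟨c₁, hc₁, c₂, hc₂, e⟩
  · refine ⟨c₁, hc₁, (D.up L hp).na * m, (D.up L hp).Ns.mul_mem (D.up L hp).na_mem_Ns hm, c₂ * b₂,
      Subgroup.mul_mem _ hc₂ hb₂, ?_⟩
    have e' : (D.up L hp).na * (b₁ * m * b₂) = ((D.up L hp).Ra.w 1 * b₁ * m) * b₂ := by
      show (D.up L hp).Ra.w 1 * (b₁ * m * b₂) = _
      group
    rw [e', e]
    show c₁ * ((D.up L hp).Ra.w 1 * m) * c₂ * b₂ = c₁ * ((D.up L hp).Ra.w 1 * m) * (c₂ * b₂)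
    group
  · refine ⟨c₁, hc₁, m, hm, c₂ * b₂, Subgroup.mul_mem _ hc₂ hb₂, ?_⟩
    have e' : (D.up L hp).na * (b₁ * m * b₂) = ((D.up L hp).Ra.w 1 * b₁ * m) * b₂ := by
      show (D.up L hp).Ra.w 1 * (b₁ * m * b₂) = _
      group
    rw [e', e]
    group

theorem cells_mul_left_nb {e : E} (he : e ∈ D.cells L hp hU) : (D.up L hp).nb * e ∈ D.cells L hp hU := by
  obtain ⟨b₁, hb₁, m, hm, b₂, hb₂, rfl⟩ := he
  have hstep := bn_step (D.Ut L hU) (D.up L hp).Hs (D.Hs_conj_Ut L hp hU) (D.up L hp).Rb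
    (D.xb_mem_Ut L hp hU) (fun t ht => (D.up L hp).h_b_mem_Hs ht) (D.up L hp).nb_sq_mem
    (fun h hh => (D.up L hp).nb_inv_conj_Hs hh) (fun h hh => (D.up L hp).nb_conj_Hs hh)
    ⟨_, (D.up L hp).hb_neg_one_mem, (D.up L hp).nb_inv_eq⟩ (D.up_dec_b L hp hU)
    (fun h hh => (D.up L hp).Ns_inv_conj_Hs hm hh) (D.up_dich_b L hp hU hm) hb₁
  rcases hstep with ⟨c₁, hc₁, c₂, hc₂, e⟩ | ⟨c₁, hc₁, c₂, hc₂, e⟩
  · refine ⟨c₁, hc₁, (D.up L hp).nb * m, (D.up L hp).Ns.mul_mem (D.up L hp).nb_mem_Ns hm, c₂ * b₂,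
      Subgroup.mul_mem _ hc₂ hb₂, ?_⟩
    have e' : (D.up L hp).nb * (b₁ * m * b₂) = ((D.up L hp).Rb.w 1 * b₁ * m) * b₂ := by
      show (D.up L hp).Rb.w 1 * (b₁ * m * b₂) = _
      group
    rw [e', e]
    show c₁ * ((D.up L hp).Rb.w 1 * m) * c₂ * b₂ = c₁ * ((D.up L hp).Rb.w 1 * m) * (c₂ * b₂)
    group
  · refine ⟨c₁, hc₁, m, hm, c₂ * b₂, Subgroup.mul_mem _ hc₂ hb₂, ?_⟩
    have e' : (D.up L hp).nb * (b₁ * m * b₂) = ((D.up L hp).Rb.w 1 * b₁ * m) * b₂ := by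
      show (D.up L hp).Rb.w 1 * (b₁ * m * b₂) = _
      group
    rw [e', e]
    group

/-- the group generated by the lifted root elements lies in `B̃ Ñ B̃`. -/
theorem gen_subset_cells [Finite E] : ∀ e ∈ (D.up L hp).gen, e ∈ D.cells L hp hU := by
  have hcl := closure_subset_of_mul_left
    ((D.Bt L hp hU : Set E) ∪ {(D.up L hp).na, (D.up L hp).nb}) (D.cells L hp hU) (D.one_mem_cells L hp hU)
    (by
      rintro s (hs | hs | hs) g hg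
      · exact D.cells_mul_left_Bt L hp hU hs hg
      · rw [hs]; exact D.cells_mul_left_na L hp hU hg
      · rw [Set.mem_singleton_iff] at hs
        rw [hs]; exact D.cells_mul_left_nb L hp hU hg)
  intro e he
  apply hcl
  revert e
  show (D.up L hp).gen ≤ _
  unfold TTor.gen
  rw [Subgroup.closure_le]
  have hBt : ∀ x ∈ D.Bt L hp hU, x ∈ Subgroup.closure
      ((D.Bt L hp hU : Set E) ∪ {(D.up L hp).na, (D.up L hp).nb}) :=
    fun x hx => Subgroup.subset_closure (Or.inl hx)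
  have hna : (D.up L hp).Ra.w 1 ∈ Subgroup.closure
      ((D.Bt L hp hU : Set E) ∪ {(D.up L hp).na, (D.up L hp).nb}) :=
    Subgroup.subset_closure (Or.inr (Or.inl rfl))
  have hnb : (D.up L hp).Rb.w 1 ∈ Subgroup.closure
      ((D.Bt L hp hU : Set E) ∪ {(D.up L hp).na, (D.up L hp).nb}) :=
    Subgroup.subset_closure (Or.inr (Or.inr rfl))
  rintro x (((⟨t, rfl⟩ | ⟨t, rfl⟩) | ⟨t, rfl⟩) | ⟨t, rfl⟩)
  · exact hBt _ (Ut_le_bsub _ _ _ (D.xa_mem_Ut L hp hU t))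
  · have e : (D.up L hp).Ra.xm t =
        (D.up L hp).Ra.w 1 * (D.up L hp).Ra.xp (-t) * ((D.up L hp).Ra.w 1)⁻¹ := by
      rw [(D.up L hp).Ra.w_conj_xp one_ne_zero (-t)]; congr 1; simp
    rw [SetLike.mem_coe, e]
    exact Subgroup.mul_mem _ (Subgroup.mul_mem _ hna (hBt _ (Ut_le_bsub _ _ _ (D.xa_mem_Ut L hp hU _))))
      (Subgroup.inv_mem _ hna)
  · exact hBt _ (Ut_le_bsub _ _ _ (D.xb_mem_Ut L hp hU t))
  · have e : (D.up L hp).Rb.xm t =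
        (D.up L hp).Rb.w 1 * (D.up L hp).Rb.xp (-t) * ((D.up L hp).Rb.w 1)⁻¹ := by
      rw [(D.up L hp).Rb.w_conj_xp one_ne_zero (-t)]; congr 1; simp
    rw [SetLike.mem_coe, e]
    exact Subgroup.mul_mem _ (Subgroup.mul_mem _ hnb (hBt _ (Ut_le_bsub _ _ _ (D.xb_mem_Ut L hp hU _))))
      (Subgroup.inv_mem _ hnb)

end BNDat

end Cfsg.Agent.CtRecT
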