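import Mathlib
import Cfsg.Agent.CtRecT.TClosD

set_option autoImplicit false
set_option linter.unusedSectionVars false
set_option linter.unusedVariables false

/-!
# S2110, Part II (helper9): the kernel meets `B̃ Ñ B̃` trivially; Theorem II

`BNDat.ker_inf_cells`: an element of `ker σ` of the form `b₁ m b₂` is `1`.
`BNDat.ker_eq_bot`: a finite stem extension of `G` (with a `BNDat`) which has unique `p`-lifts is an isomorphism.
-/

namespace Cfsg.Agent.CtRecT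

open Cfsg.Agent.CtRecM

variable {K : Type*} [Field K] [Finite K] {f : K ≃+* K} {G E : Type*} [Group G] [Group E]
  (D : BNDat f G) {σ : E →* G} {p : ℕ} (L : PLift σ p) (hp : (p : K) = 0) (hU : IsPGroup p D.U)

namespace BNDat

/-- the Borel subgroup downstairs. -/
abbrev Bd : Subgroup G := bsub D.U D.toTTor.Hs D.H_U

theorem map_Bt {b : E} (hb : b ∈ D.Bt L hp hU) : σ b ∈ D.Bd := by
  obtain ⟨_, ⟨u, hu, rfl⟩, h, hh, rfl⟩ := hb
  rw [map_mul, L.map_pl u (D.pel_of_mem_U hU hu)]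
  exact ⟨u, hu, σ h, map_lift_Hs D.toTTor L hp hh, rfl⟩

theorem map_up_r_pow (k : ℕ) : σ (((D.up L hp).na * (D.up L hp).nb) ^ k) = (D.toTTor.na * D.toTTor.nb) ^ k := by
  rw [map_pow, map_mul, map_lift_na, map_lift_nb]

/-- an element of `Ñ` over the torus lies in `H̃`. -/
theorem Ns_map_mem_Hs {m : E} (hm : m ∈ (D.up L hp).Ns) (h : σ m ∈ D.toTTor.Hs) : m ∈ (D.up L hp).Hs := by
  obtain ⟨h', hh', k, hk, e | e⟩ := (D.up L hp).Ns_cases hm
  · have e2 : (D.toTTor.na * D.toTTor.nb) ^ k = (σ h')⁻¹ * σ m := by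
      rw [e, map_mul, D.map_up_r_pow L hp]; group
    have h3 : (D.toTTor.na * D.toTTor.nb) ^ k ∈ D.toTTor.Hs := by
      rw [e2]
      exact D.toTTor.Hs.mul_mem (D.toTTor.Hs.inv_mem (map_lift_Hs D.toTTor L hp hh')) h
    have hk0 := (D.cox k hk).1 h3
    subst hk0
    rw [e, pow_zero, mul_one]
    exact hh'
  · exfalso
    have e2 : D.toTTor.na * (D.toTTor.na * D.toTTor.nb) ^ k = (σ h')⁻¹ * σ m := by
      rw [e, map_mul, map_mul, D.map_up_r_pow L hp, map_lift_na]; group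
    apply (D.cox k hk).2
    rw [e2]
    exact D.toTTor.Hs.mul_mem (D.toTTor.Hs.inv_mem (map_lift_Hs D.toTTor L hp hh')) h

/-- the kernel meets `B̃` trivially. -/
theorem ker_inf_Bt {z : E} (hz : σ z = 1) (hb : z ∈ D.Bt L hp hU) : z = 1 := by
  obtain ⟨_, ⟨u, hu, rfl⟩, h, hh, rfl⟩ := hb
  rw [map_mul, L.map_pl u (D.pel_of_mem_U hU hu)] at hz
  have hσh := map_lift_Hs D.toTTor L hp hh
  have hu1 : u = 1 := by
    apply D.U_inf_H u hu
    have : u = (σ h)⁻¹ := eq_inv_of_mul_eq_one_left hz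
    rw [this]
    exact D.toTTor.Hs.inv_mem hσh
  subst hu1
  rw [one_mul] at hz
  rw [L.pl_one, one_mul]
  obtain ⟨t, ht, s, hs, rfl⟩ := ((D.up L hp).mem_Hs_iff h).mp hh
  rw [map_mul] at hz
  have e1 : σ ((D.up L hp).Ra.h t) = D.Ra.h t := map_liftRk1_h D.Ra L hp t
  have e2 : σ ((D.up L hp).Rb.h s) = D.Rb.h s := map_liftRk1_h D.Rb L (fixF_char f hp) s
  rw [e1, e2] at hz
  obtain ⟨rfl, rfl⟩ := D.H_inj t ht s hs hz
  rw [(D.up L hp).Ra.h_one, (D.up L hp).Rb.h_one, mul_one]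

/-- the kernel meets `B̃ Ñ B̃` trivially. -/
theorem ker_inf_cells {z : E} (hz : σ z = 1) (hc : z ∈ D.cells L hp hU) : z = 1 := by
  obtain ⟨b₁, hb₁, m, hm, b₂, hb₂, rfl⟩ := hc
  have h1 := D.map_Bt L hp hU hb₁
  have h2 := D.map_Bt L hp hU hb₂
  have hn : σ m ∈ D.toTTor.Ns := map_lift_Ns D.toTTor L hp hm
  rw [map_mul, map_mul] at hz
  have e : σ m = (σ b₁)⁻¹ * (σ b₂)⁻¹ := by
    have : σ b₁ * σ m * σ b₂ = 1 := hz
    calc σ m = (σ b₁)⁻¹ * (σ b₁ * σ m * σ b₂) * (σ b₂)⁻¹ := by group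
      _ = (σ b₁)⁻¹ * (σ b₂)⁻¹ := by rw [this, mul_one]
  have hmB : σ m ∈ D.Bd := by
    rw [e]
    exact D.Bd.mul_mem (D.Bd.inv_mem h1) (D.Bd.inv_mem h2)
  obtain ⟨u, hu, h, hh, e'⟩ := hmB
  have hu1 : u = 1 := D.B_inf_N u hu h hh (e' ▸ hn)
  rw [hu1, one_mul] at e'
  have hmH : m ∈ (D.up L hp).Hs := D.Ns_map_mem_Hs L hp hm (e' ▸ hh)
  apply D.ker_inf_Bt L hp hU
  · rw [map_mul, map_mul]; exact hz
  · exact (D.Bt L hp hU).mul_mem ((D.Bt L hp hU).mul_mem hb₁ (Hs_le_bsub _ _ _ hmH)) hb₂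

/-- the lifted root elements generate a supplement of the kernel. -/
theorem exists_gen_mul_ker (hs : Function.Surjective σ) (e : E) :
    ∃ g ∈ (D.up L hp).gen, σ g = σ e := by
  have htop : σ e ∈ D.toTTor.gen := by rw [D.top]; trivial
  have hle : D.toTTor.gen ≤ (D.up L hp).gen.map σ := by
    unfold TTor.gen
    rw [Subgroup.closure_le]
    rintro x (((⟨t, rfl⟩ | ⟨t, rfl⟩) | ⟨t, rfl⟩) | ⟨t, rfl⟩)
    · exact ⟨_, (D.up L hp).xp_a_mem_gen t, map_liftRk1_xp D.Ra L hp t⟩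
    · exact ⟨_, (D.up L hp).xm_a_mem_gen t, map_liftRk1_xm D.Ra L hp t⟩
    · exact ⟨_, (D.up L hp).xp_b_mem_gen t, map_liftRk1_xp D.Rb L (fixF_char f hp) t⟩
    · exact ⟨_, (D.up L hp).xm_b_mem_gen t, map_liftRk1_xm D.Rb L (fixF_char f hp) t⟩
  obtain ⟨g, hg, e'⟩ := hle htop
  exact ⟨g, hg, e'⟩

include D L hp hU in
/-- **Theorem II**: a finite stem extension with unique `p`-lifts of a group with a `BNDat` is injective. -/
theorem ker_eq_bot [Finite E] (hs : Function.Surjective σ) (hc : σ.ker ≤ Subgroup.center E)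
    (hk : σ.ker ≤ commutator E) : σ.ker = ⊥ := by
  -- the commutator subgroup lies in the group generated by the lifted root elements
  have hcomm : commutator E ≤ (D.up L hp).gen := by
    rw [commutator_def, Subgroup.commutator_le]
    intro a _ b _
    obtain ⟨g, hg, ea⟩ := D.exists_gen_mul_ker L hp hs a
    obtain ⟨g', hg', eb⟩ := D.exists_gen_mul_ker L hp hs b
    have hza : g⁻¹ * a ∈ Subgroup.center E := hc (by rw [MonoidHom.mem_ker, map_mul, map_inv, ea, inv_mul_cancel])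
    have hzb : g'⁻¹ * b ∈ Subgroup.center E := hc (by rw [MonoidHom.mem_ker, map_mul, map_inv, eb, inv_mul_cancel])
    have ca : ∀ x : E, (g⁻¹ * a) * x = x * (g⁻¹ * a) := fun x => (Subgroup.mem_center_iff.mp hza x).symm
    have cb : ∀ x : E, (g'⁻¹ * b) * x = x * (g'⁻¹ * b) := fun x => (Subgroup.mem_center_iff.mp hzb x).symm
    have e : a * b * a⁻¹ * b⁻¹ = g * g' * g⁻¹ * g'⁻¹ := by
      have ea' : a = g * (g⁻¹ * a) := by group
      have eb' : b = g' * (g'⁻¹ * b) := by group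
      generalize g⁻¹ * a = z at ca ea'
      generalize g'⁻¹ * b = z' at cb eb'
      rw [ea', eb']
      have i1 : (g * z)⁻¹ = g⁻¹ * z⁻¹ := by
        rw [mul_inv_rev]
        have := ca g⁻¹
        calc z⁻¹ * g⁻¹ = z⁻¹ * (g⁻¹ * z) * z⁻¹ := by group
          _ = z⁻¹ * (z * g⁻¹) * z⁻¹ := by rw [this]
          _ = g⁻¹ * z⁻¹ := by group
      have i2 : (g' * z')⁻¹ = g'⁻¹ * z'⁻¹ := by
        rw [mul_inv_rev]
        have := cb g'⁻¹
        calc z'⁻¹ * g'⁻¹ = z'⁻¹ * (g'⁻¹ * z') * z'⁻¹ := by group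
          _ = z'⁻¹ * (z' * g'⁻¹) * z'⁻¹ := by rw [this]
          _ = g'⁻¹ * z'⁻¹ := by group
      rw [i1, i2]
      calc g * z * (g' * z') * (g⁻¹ * z⁻¹) * (g'⁻¹ * z'⁻¹)
          = g * (z * (g' * z' * g⁻¹)) * z⁻¹ * (g'⁻¹ * z'⁻¹) := by group
        _ = g * ((g' * z' * g⁻¹) * z) * z⁻¹ * (g'⁻¹ * z'⁻¹) := by rw [ca]
        _ = g * g' * (z' * (g⁻¹ * g'⁻¹)) * z'⁻¹ := by group
        _ = g * g' * ((g⁻¹ * g'⁻¹) * z') * z'⁻¹ := by rw [cb]
        _ = g * g' * g⁻¹ * g'⁻¹ := by group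
    show a * b * a⁻¹ * b⁻¹ ∈ _
    rw [e]
    exact Subgroup.mul_mem _ (Subgroup.mul_mem _ (Subgroup.mul_mem _ hg hg') (Subgroup.inv_mem _ hg))
      (Subgroup.inv_mem _ hg')
  rw [eq_bot_iff]
  intro z hz
  rw [Subgroup.mem_bot]
  exact D.ker_inf_cells L hp hU (MonoidHom.mem_ker.mp hz) (D.gen_subset_cells L hp hU z (hcomm (hk hz)))

end BNDat

end Cfsg.Agent.CtRecT
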