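import Mathlib
import Cfsg.Prelude.Def_KGroupFacts
import Cfsg.Agent.CtRecT.TEnd

set_option autoImplicit false
set_option linter.unusedSectionVars false
set_option linter.unusedVariables false

/-!
# S2110, assembly lemmas (helper9)

`hasCyclicSchurMultiplier_one_of`: a finite group all of whose finite stem extensions are injective has trivial Schur multiplier.
`BNDat.stem_ker_eq_bot`: Theorem II for a stem extension in the sense of the Prelude.
-/

namespace Cfsg.Agent.CtRecT

universe u

/-- trivial Schur multiplier from the injectivity of all finite stem extensions. -/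
theorem hasCyclicSchurMultiplier_one_of {G : Type u} [Group G] [Finite G]
    (h : ∀ (Γ : Type u) [Group Γ] [Finite Γ] (σ : Γ →* G), Cfsg.IsStemExtension σ → σ.ker = ⊥) :
    Cfsg.HasCyclicSchurMultiplier G 1 := by
  constructor
  · refine ⟨G, inferInstance, inferInstance, MonoidHom.id G, ⟨Function.surjective_id, ?_, ?_⟩, ⟨?_⟩⟩
    · intro z hz
      have : z = 1 := hz
      rw [this]; exact Subgroup.one_mem _
    · intro z hz
      have : z = 1 := hz
      rw [this]; exact Subgroup.one_mem _
    · have hsub : ∀ x : (MonoidHom.id G).ker, x = 1 := fun x => Subtype.ext x.2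
      exact
        { toFun := fun _ => 1
          invFun := fun _ => 1
          left_inv := fun x => (hsub x).symm
          right_inv := fun y => Subsingleton.elim _ _
          map_mul' := fun _ _ => (mul_one _).symm }
  · intro Γ _ _ σ hσ
    have hk := h Γ σ hσ
    refine ⟨1, fun y => ⟨1, ?_⟩⟩
    have : y = 1 := by
      apply Subtype.ext
      have h2 : (y : Γ) ∈ (⊥ : Subgroup Γ) := hk ▸ y.2
      exact Subgroup.mem_bot.mp h2
    rw [this]; rfl

/-- Theorem II for a stem extension. -/
theorem BNDat.stem_ker_eq_bot {K : Type*} [Field K] [Finite K] {f : K ≃+* K} {G Γ : Type*} [Group G] [Group Γ]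
    [Finite Γ] (D : BNDat f G) {p : ℕ} (hp : (p : K) = 0) (hU : IsPGroup p D.U) (σ : Γ →* G)
    (hσ : Cfsg.IsStemExtension σ) (hL : Nonempty (PLift σ p)) : σ.ker = ⊥ := by
  obtain ⟨L⟩ := hL
  exact D.ker_eq_bot L hp hU hσ.1 hσ.2.1 hσ.2.2

end Cfsg.Agent.CtRecT
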