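import Mathlib
import Cfsg.Agent.CtRecT.TAmbBr
import Cfsg.Agent.CtRecT.TAmbU
import Cfsg.Agent.CtRecT.TAmbX
import Cfsg.Agent.CtRecT.TAmbCox
import Cfsg.Agent.CtRecT.TAmbH
import Cfsg.Agent.CtRecT.TAmbDich
import Cfsg.Agent.CtRecT.TMain

set_option autoImplicit false
set_option linter.unusedSectionVars false
set_option linter.unusedVariables false

/-!
# S2110, piece P-D, assembly (helper9): the `BNDat` of `³D₄(q)` from a `TTor` whose root elements are the twisted root elements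
-/

namespace Cfsg.Agent.CtRecT

open Cfsg Cfsg.Lie Cfsg.Agent.Helper7.Chev Cfsg.Agent.CtRecM

variable {K : Type*} [Field K] (f : K ≃+* K)

/-! ### `SL₂` identities -/

theorem tam_sl2_h {t : K} (ht : t ≠ 0) :
    (diagSL t ht * antiSL) * (diagSL (-1 : K) (neg_ne_zero.mpr one_ne_zero) * antiSL) = diagSL t ht := by
  apply Subtype.ext
  rw [Matrix.SpecialLinearGroup.coe_mul, Matrix.SpecialLinearGroup.coe_mul,
    Matrix.SpecialLinearGroup.coe_mul]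
  change (!![t, 0; 0, t⁻¹] * !![0, 1; -1, 0]) * (!![-1, 0; 0, (-1 : K)⁻¹] * !![0, 1; -1, 0]) =
    !![t, 0; 0, t⁻¹]
  ext i j
  fin_cases i <;> fin_cases j <;> simp [Matrix.mul_apply, Fin.sum_univ_two]

theorem tam_diagSL_one : diagSL (1 : K) one_ne_zero = 1 := by
  apply Subtype.ext
  change !![(1 : K), 0; 0, (1 : K)⁻¹] = 1
  ext i j
  fin_cases i <;> fin_cases j <;> simp

section rk

variable (Ra : Rk1 K ↥(tgG f)) (Rb : Rk1 (fixF f) ↥(tgG f))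
  (hxpa : ∀ t : K, ((Ra.xp t : ↥(tgG f)) : GL chevD4.Idx K) = tgPhiA f (upperSL t))
  (hxma : ∀ t : K, ((Ra.xm t : ↥(tgG f)) : GL chevD4.Idx K) = tgPhiA f (lowerSL t))
  (hxpb : ∀ t : fixF f, ((Rb.xp t : ↥(tgG f)) : GL chevD4.Idx K) = tgPhiB f (upperSL (t : K)))
  (hxmb : ∀ t : fixF f, ((Rb.xm t : ↥(tgG f)) : GL chevD4.Idx K) = tgPhiB f (lowerSL (t : K)))

include hxpa hxma in
theorem tam_w_a {t : K} (ht : t ≠ 0) :
    ((Ra.w t : ↥(tgG f)) : GL chevD4.Idx K) = tgPhiA f (diagSL t ht * antiSL) := by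
  unfold Rk1.w
  rw [Subgroup.coe_mul, Subgroup.coe_mul, hxpa, hxma, ← map_mul, ← map_mul, diagSL_mul_antiSL ht]

include hxpb hxmb in
theorem tam_w_b {t : fixF f} (ht : (t : K) ≠ 0) :
    ((Rb.w t : ↥(tgG f)) : GL chevD4.Idx K) = tgPhiB f (diagSL (t : K) ht * antiSL) := by
  unfold Rk1.w
  rw [Subgroup.coe_mul, Subgroup.coe_mul, hxpb, hxmb, ← map_mul, ← map_mul, diagSL_mul_antiSL ht]
  simp only [Subfield.coe_neg, Subfield.coe_inv]

include hxpa hxma in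
theorem tam_w_a_one : ((Ra.w 1 : ↥(tgG f)) : GL chevD4.Idx K) = tgNa f := by
  rw [tam_w_a f Ra hxpa hxma one_ne_zero, tam_diagSL_one, one_mul]

include hxpb hxmb in
theorem tam_w_b_one : ((Rb.w 1 : ↥(tgG f)) : GL chevD4.Idx K) = tgNb f := by
  have h1 : ((1 : fixF f) : K) ≠ 0 := by simp
  rw [tam_w_b f Rb hxpb hxmb h1]
  have : diagSL ((1 : fixF f) : K) h1 = 1 := by
    have e : ((1 : fixF f) : K) = 1 := rfl
    simp only [e]
    exact tam_diagSL_one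
  rw [this, one_mul]

include hxpa hxma in
theorem tam_h_a {t : K} (ht : t ≠ 0) :
    ((Ra.h t : ↥(tgG f)) : GL chevD4.Idx K) = tgPhiA f (diagSL t ht) := by
  unfold Rk1.h
  rw [Subgroup.coe_mul, tam_w_a f Ra hxpa hxma ht,
    tam_w_a f Ra hxpa hxma (neg_ne_zero.mpr (one_ne_zero : (1 : K) ≠ 0)), ← map_mul, tam_sl2_h]

include hxpb hxmb in
theorem tam_h_b {t : fixF f} (ht : (t : K) ≠ 0) :
    ((Rb.h t : ↥(tgG f)) : GL chevD4.Idx K) = tgPhiB f (diagSL (t : K) ht) := by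
  unfold Rk1.h
  have hm1 : ((-1 : fixF f) : K) ≠ 0 := by simp
  rw [Subgroup.coe_mul, tam_w_b f Rb hxpb hxmb ht, tam_w_b f Rb hxpb hxmb hm1, ← map_mul]
  have e : diagSL ((-1 : fixF f) : K) hm1 = diagSL (-1 : K) (neg_ne_zero.mpr one_ne_zero) := by
    have e' : ((-1 : fixF f) : K) = -1 := by simp
    simp only [e']
  rw [e, tam_sl2_h]

include hxpa hxma hxpb hxmb in
/-- the braid relation, with `c = 1`. -/
theorem tam_braid : ∃ c : K, c ≠ 0 ∧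
    (Rb.w 1 * Ra.w 1 * Rb.w 1 * Ra.w 1 * Rb.w 1) * Ra.xp 1 *
      (Rb.w 1 * Ra.w 1 * Rb.w 1 * Ra.w 1 * Rb.w 1)⁻¹ = Ra.xp c ∧
    (Rb.w 1 * Ra.w 1 * Rb.w 1 * Ra.w 1 * Rb.w 1) * Ra.xm (-1) *
      (Rb.w 1 * Ra.w 1 * Rb.w 1 * Ra.w 1 * Rb.w 1)⁻¹ = Ra.xm (-c⁻¹) := by
  refine ⟨1, one_ne_zero, Subtype.ext ?_, Subtype.ext ?_⟩
  · simp only [Subgroup.coe_mul, Subgroup.coe_inv, hxpa, tam_w_a_one f Ra hxpa hxma,
      tam_w_b_one f Rb hxpb hxmb]
    exact tabr_up f 1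
  · rw [inv_one]
    simp only [Subgroup.coe_mul, Subgroup.coe_inv, hxma, tam_w_a_one f Ra hxpa hxma,
      tam_w_b_one f Rb hxpb hxmb]
    exact tabr_lo f (-1)

include hxpa hxma hxpb hxmb in
/-- the torus of `a` on the root elements of `±b`. -/
theorem tam_tor_ab (hf3' : ∀ t : K, f (f (f t)) = t) (t : K) (ht : t ≠ 0) :
    ∃ c : fixF f, c ≠ 0 ∧ ∀ u,
      Ra.h t * Rb.xp u * (Ra.h t)⁻¹ = Rb.xp (c * u) ∧
        Ra.h t * Rb.xm u * (Ra.h t)⁻¹ = Rb.xm (c⁻¹ * u) := by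
  have hN : t * f t * f (f t) ≠ 0 :=
    mul_ne_zero (mul_ne_zero ht ((map_ne_zero f).mpr ht))
      ((map_ne_zero f).mpr ((map_ne_zero f).mpr ht))
  refine ⟨⟨(t * f t * f (f t))⁻¹, (mem_fixF f _).mpr (tax_nm_fix f hf3' t)⟩, ?_, ?_⟩
  · intro h0
    exact (inv_ne_zero hN) (congrArg Subtype.val h0)
  · intro u
    constructor
    · apply Subtype.ext
      rw [Subgroup.coe_mul, Subgroup.coe_mul, Subgroup.coe_inv, tam_h_a f Ra hxpa hxma ht, hxpb,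
        hxpb, ← tbHa_eq_clsHom f ht]
      simp only [Subfield.coe_mul]
      exact tax_tor_ab_up f ht u
    · apply Subtype.ext
      rw [Subgroup.coe_mul, Subgroup.coe_mul, Subgroup.coe_inv, tam_h_a f Ra hxpa hxma ht, hxmb,
        hxmb, ← tbHa_eq_clsHom f ht]
      simp only [Subfield.coe_mul, Subfield.coe_inv]
      exact tax_tor_ab_lo f ht u

include hxpa hxma hxpb hxmb in
/-- the torus of `b` on the root elements of `±a`. -/
theorem tam_tor_ba (t : fixF f) (ht : t ≠ 0) :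
    ∃ c : K, c ≠ 0 ∧ ∀ u,
      Rb.h t * Ra.xp u * (Rb.h t)⁻¹ = Ra.xp (c * u) ∧
        Rb.h t * Ra.xm u * (Rb.h t)⁻¹ = Ra.xm (c⁻¹ * u) := by
  have ht' : (t : K) ≠ 0 := fun h0 => ht (Subtype.ext h0)
  refine ⟨(t : K)⁻¹, inv_ne_zero ht', fun u => ⟨Subtype.ext ?_, Subtype.ext ?_⟩⟩
  · rw [Subgroup.coe_mul, Subgroup.coe_mul, Subgroup.coe_inv, tam_h_b f Rb hxpb hxmb ht', hxpa,
      hxpa, ← tbHb_eq_clsHom f ht']
    exact tax_tor_ba_up f ht' t.2 u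
  · rw [Subgroup.coe_mul, Subgroup.coe_mul, Subgroup.coe_inv, tam_h_b f Rb hxpb hxmb ht', hxma,
      hxma, ← tbHb_eq_clsHom f ht']
    exact tax_tor_ba_lo f ht' t.2 u

/-- the `TTor` of `³D₄(q)`. -/
noncomputable def taTTor (hf3' : ∀ t : K, f (f (f t)) = t) : TTor f ↥(tgG f) :=
  { Ra := Ra
    Rb := Rb
    tor_ab := tam_tor_ab f Ra Rb hxpa hxma hxpb hxmb hf3'
    tor_ba := tam_tor_ba f Ra Rb hxpa hxma hxpb hxmb
    braid := tam_braid f Ra Rb hxpa hxma hxpb hxmb }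

end rk

section sys

variable (hf3 : ∀ t, (((f : K →+* K)) ^ 3) t = t) (T : TTor f ↥(tgG f))
  (hxpa : ∀ t : K, ((T.Ra.xp t : ↥(tgG f)) : GL chevD4.Idx K) = tgPhiA f (upperSL t))
  (hxma : ∀ t : K, ((T.Ra.xm t : ↥(tgG f)) : GL chevD4.Idx K) = tgPhiA f (lowerSL t))
  (hxpb : ∀ t : fixF f, ((T.Rb.xp t : ↥(tgG f)) : GL chevD4.Idx K) = tgPhiB f (upperSL (t : K)))
  (hxmb : ∀ t : fixF f, ((T.Rb.xm t : ↥(tgG f)) : GL chevD4.Idx K) = tgPhiB f (lowerSL (t : K)))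

include hxpa hxma in
theorem tam_na : ((T.na : ↥(tgG f)) : GL chevD4.Idx K) = tgNa f :=
  tam_w_a_one f T.Ra hxpa hxma

include hxpb hxmb in
theorem tam_nb : ((T.nb : ↥(tgG f)) : GL chevD4.Idx K) = tgNb f :=
  tam_w_b_one f T.Rb hxpb hxmb

include hxpa hxma hxpb hxmb in
/-- the torus lies in `H¹`. -/
theorem tam_Hs_coe {h : ↥(tgG f)} (hh : h ∈ T.Hs) : (h : GL chevD4.Idx K) ∈ tgH f := by
  refine (mem_twH good2_D4 T3_D4 T4_D4 T19_D4 f).mpr ⟨?_, h.2⟩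
  unfold TTor.Hs at hh
  induction hh using Subgroup.closure_induction with
  | mem x hx =>
    rcases hx with ⟨t, ht, rfl⟩ | ⟨u, hu, rfl⟩
    · rw [tam_h_a f T.Ra hxpa hxma ht]
      exact clsHom_diag_mem good2_D4 T3_D4 T4_D4 T19_D4 f tgA_mem ht
    · have hu' : (u : K) ≠ 0 := fun h0 => hu (Subtype.ext h0)
      rw [tam_h_b f T.Rb hxpb hxmb hu']
      exact clsHom_diag_mem good2_D4 T3_D4 T4_D4 T19_D4 f tgB_mem hu'
  | one => exact one_mem _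
  | mul x y _ _ hx hy => exact mul_mem hx hy
  | inv x _ hx => exact inv_mem hx

include hxpa hxma hxpb hxmb in
/-- `N` lies in `N¹`. -/
theorem tam_Ns_coe {n : ↥(tgG f)} (hn : n ∈ T.Ns) : (n : GL chevD4.Idx K) ∈ tgN f := by
  refine (mem_twN good2_D4 T3_D4 T4_D4 T19_D4 f).mpr ⟨?_, n.2⟩
  unfold TTor.Ns at hn
  induction hn using Subgroup.closure_induction with
  | mem x hx =>
    rcases hx with hx | hx | hx
    · exact Subgroup.mem_sup_left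
        ((mem_twH good2_D4 T3_D4 T4_D4 T19_D4 f).mp (tam_Hs_coe f T hxpa hxma hxpb hxmb hx)).1
    · rw [hx, tam_na f T hxpa hxma]
      exact ncls_mem_monomial good2_D4 T3_D4 T4_D4 T19_D4 f tgA_mem
    · rw [Set.mem_singleton_iff] at hx
      rw [hx, tam_nb f T hxpb hxmb]
      exact ncls_mem_monomial good2_D4 T3_D4 T4_D4 T19_D4 f tgB_mem
  | one => exact one_mem _
  | mul x y _ _ hx hy => exact mul_mem hx hy
  | inv x _ hx => exact inv_mem hx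

include hxpa in
theorem tam_xa_mem (t : K) : T.Ra.xp t ∈ (tgU f).subgroupOf (tgG f) := by
  rw [Subgroup.mem_subgroupOf, mem_twU]
  refine ⟨?_, (T.Ra.xp t).2⟩
  rw [hxpa]
  exact clsHom_upper_mem good2_D4 T0_D4 T3_D4 T4_D4 T19_D4 f tgA_mem t

include hxpb in
theorem tam_xb_mem (t : fixF f) : T.Rb.xp t ∈ (tgU f).subgroupOf (tgG f) := by
  rw [Subgroup.mem_subgroupOf, mem_twU]
  refine ⟨?_, (T.Rb.xp t).2⟩
  rw [hxpb]
  exact clsHom_upper_mem good2_D4 T0_D4 T3_D4 T4_D4 T19_D4 f tgB_mem _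

include hxpa in
theorem tam_dec_a (u : ↥(tgG f)) (hu : u ∈ (tgU f).subgroupOf (tgG f)) :
    ∃ v ∈ (tgUa f).subgroupOf (tgG f), ∃ t, u = v * T.Ra.xp t := by
  rw [Subgroup.mem_subgroupOf] at hu
  obtain ⟨v, hv, hvG, t, ht, e⟩ := tau_dec f tgA_mem hu
  refine ⟨⟨v, hvG⟩, ?_, t, ?_⟩
  · rw [Subgroup.mem_subgroupOf]
    exact ⟨hv, hvG⟩
  · apply Subtype.ext
    rw [Subgroup.coe_mul, hxpa]
    exact e

include hxpb in
theorem tam_dec_b (u : ↥(tgG f)) (hu : u ∈ (tgU f).subgroupOf (tgG f)) :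
    ∃ v ∈ (tgUb f).subgroupOf (tgG f), ∃ t, u = v * T.Rb.xp t := by
  rw [Subgroup.mem_subgroupOf] at hu
  obtain ⟨v, hv, hvG, t, ht, e⟩ := tau_dec f tgB_mem hu
  have ht' : f t = t := (adm_one_iff f t).mp ht
  refine ⟨⟨v, hvG⟩, ?_, ⟨t, (mem_fixF f t).mpr ht'⟩, ?_⟩
  · rw [Subgroup.mem_subgroupOf]
    exact ⟨hv, hvG⟩
  · apply Subtype.ext
    rw [Subgroup.coe_mul, hxpb]
    exact e

include hxpa hxma in
theorem tam_na_Ua (v : ↥(tgG f)) (hv : v ∈ (tgUa f).subgroupOf (tgG f)) :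
    T.na * v * T.na⁻¹ ∈ (tgU f).subgroupOf (tgG f) := by
  rw [Subgroup.mem_subgroupOf] at hv ⊢
  rw [Subgroup.coe_mul, Subgroup.coe_mul, Subgroup.coe_inv, tam_na f T hxpa hxma]
  exact tau_n_conj f tgA_mem hv.1 hv.2

include hxpb hxmb in
theorem tam_nb_Ub (v : ↥(tgG f)) (hv : v ∈ (tgUb f).subgroupOf (tgG f)) :
    T.nb * v * T.nb⁻¹ ∈ (tgU f).subgroupOf (tgG f) := by
  rw [Subgroup.mem_subgroupOf] at hv ⊢
  rw [Subgroup.coe_mul, Subgroup.coe_mul, Subgroup.coe_inv, tam_nb f T hxpb hxmb]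
  exact tau_n_conj f tgB_mem hv.1 hv.2

include hxpa hxma hxpb hxmb in
theorem tam_H_U (h : ↥(tgG f)) (hh : h ∈ T.Hs) (u : ↥(tgG f))
    (hu : u ∈ (tgU f).subgroupOf (tgG f)) : h * u * h⁻¹ ∈ (tgU f).subgroupOf (tgG f) := by
  rw [Subgroup.mem_subgroupOf] at hu ⊢
  rw [Subgroup.coe_mul, Subgroup.coe_mul, Subgroup.coe_inv]
  exact tau_H_U f (tam_Hs_coe f T hxpa hxma hxpb hxmb hh) hu

include hf3 hxpa hxma hxpb hxmb in
theorem tam_dich_a (n : ↥(tgG f)) (hn : n ∈ T.Ns) :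
    (∀ t, n⁻¹ * T.Ra.xp t * n ∈ (tgU f).subgroupOf (tgG f)) ∨
    (∀ t, (T.na⁻¹ * n)⁻¹ * T.Ra.xp t * (T.na⁻¹ * n) ∈ (tgU f).subgroupOf (tgG f)) := by
  rcases tadi_dich f tgA_mem (tam_Ns_coe f T hxpa hxma hxpb hxmb hn) with h | h
  · left
    intro t
    rw [Subgroup.mem_subgroupOf]
    simp only [Subgroup.coe_mul, Subgroup.coe_inv, hxpa]
    exact h t (hf3 t)
  · right
    intro t
    rw [Subgroup.mem_subgroupOf]
    simp only [Subgroup.coe_mul, Subgroup.coe_inv, hxpa, tam_na f T hxpa hxma]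
    exact h t (hf3 t)

include hxpa hxma hxpb hxmb in
theorem tam_dich_b (n : ↥(tgG f)) (hn : n ∈ T.Ns) :
    (∀ t, n⁻¹ * T.Rb.xp t * n ∈ (tgU f).subgroupOf (tgG f)) ∨
    (∀ t, (T.nb⁻¹ * n)⁻¹ * T.Rb.xp t * (T.nb⁻¹ * n) ∈ (tgU f).subgroupOf (tgG f)) := by
  rcases tadi_dich f tgB_mem (tam_Ns_coe f T hxpa hxma hxpb hxmb hn) with h | h
  · left
    intro t
    rw [Subgroup.mem_subgroupOf]
    simp only [Subgroup.coe_mul, Subgroup.coe_inv, hxpb]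
    exact h t ((adm_one_iff f _).mpr t.2)
  · right
    intro t
    rw [Subgroup.mem_subgroupOf]
    simp only [Subgroup.coe_mul, Subgroup.coe_inv, hxpb, tam_nb f T hxpb hxmb]
    exact h t ((adm_one_iff f _).mpr t.2)

include hxpa hxma hxpb hxmb in
theorem tam_U_inf_H (u : ↥(tgG f)) (hu : u ∈ (tgU f).subgroupOf (tgG f)) (hh : u ∈ T.Hs) :
    u = 1 :=
  Subtype.ext (tau_U_inf_H f (Subgroup.mem_subgroupOf.mp hu) (tam_Hs_coe f T hxpa hxma hxpb hxmb hh))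

include hxpa hxma hxpb hxmb in
theorem tam_B_inf_N (u : ↥(tgG f)) (hu : u ∈ (tgU f).subgroupOf (tgG f)) (h : ↥(tgG f))
    (hh : h ∈ T.Hs) (hn : u * h ∈ T.Ns) : u = 1 := by
  have h1 := tam_Ns_coe f T hxpa hxma hxpb hxmb hn
  rw [Subgroup.coe_mul] at h1
  exact Subtype.ext (tah_B_inf_N f (Subgroup.mem_subgroupOf.mp hu)
    (tam_Hs_coe f T hxpa hxma hxpb hxmb hh) h1)

include hf3 hxpa hxma hxpb hxmb in
theorem tam_H_inj (t : K) (ht : t ≠ 0) (u : fixF f) (hu : u ≠ 0)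
    (e : T.Ra.h t * T.Rb.h u = 1) : t = 1 ∧ u = 1 := by
  have hu' : (u : K) ≠ 0 := fun h0 => hu (Subtype.ext h0)
  have e' : ((T.Ra.h t * T.Rb.h u : ↥(tgG f)) : GL chevD4.Idx K) = 1 := by rw [e]; rfl
  rw [Subgroup.coe_mul, tam_h_a f T.Ra hxpa hxma ht, tam_h_b f T.Rb hxpb hxmb hu',
    ← tbHa_eq_clsHom f ht, ← tbHb_eq_clsHom f hu'] at e'
  obtain ⟨h1, h2⟩ := tah_inj f hf3 ht hu' u.2 e'
  exact ⟨h1, Subtype.ext h2⟩

include hxpa hxma hxpb hxmb in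
theorem tam_cox (k : ℕ) (hk : k < 6) :
    ((T.na * T.nb) ^ k ∈ T.Hs → k = 0) ∧ T.na * (T.na * T.nb) ^ k ∉ T.Hs := by
  constructor
  · intro h
    have h1 := ((mem_twH good2_D4 T3_D4 T4_D4 T19_D4 f).mp
      (tam_Hs_coe f T hxpa hxma hxpb hxmb h)).1
    rw [Subgroup.coe_pow, Subgroup.coe_mul, tam_na f T hxpa hxma, tam_nb f T hxpb hxmb] at h1
    exact tacx_pow f k hk h1
  · intro h
    have h1 := ((mem_twH good2_D4 T3_D4 T4_D4 T19_D4 f).mp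
      (tam_Hs_coe f T hxpa hxma hxpb hxmb h)).1
    rw [Subgroup.coe_mul, Subgroup.coe_pow, Subgroup.coe_mul, tam_na f T hxpa hxma,
      tam_nb f T hxpb hxmb] at h1
    exact tacx_na_pow f k hk h1

include hxpa hxma hxpb hxmb in
theorem tam_top : T.gen = ⊤ := by
  have h1 : tgG f ≤ T.gen.map (tgG f).subtype := by
    change Subgroup.closure (twGen good2_D4 T3_D4 T4_D4 T19_D4 f) ≤ _
    rw [Subgroup.closure_le]
    rintro x ⟨c, hc, t, ht, e⟩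
    have hc' := hc
    simp only [List.mem_cons, List.not_mem_nil, or_false] at hc'
    rcases hc' with rfl | rfl
    · have ht' : f t = t := (adm_one_iff f t).mp ht
      rcases e with rfl | rfl
      · refine Subgroup.mem_map.mpr ⟨_, T.xp_b_mem_gen ⟨t, (mem_fixF f t).mpr ht'⟩, ?_⟩
        rw [Subgroup.subtype_apply, hxpb]
      · refine Subgroup.mem_map.mpr ⟨_, T.xm_b_mem_gen ⟨t, (mem_fixF f t).mpr ht'⟩, ?_⟩
        rw [Subgroup.subtype_apply, hxmb]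
    · rcases e with rfl | rfl
      · refine Subgroup.mem_map.mpr ⟨_, T.xp_a_mem_gen t, ?_⟩
        rw [Subgroup.subtype_apply, hxpa]
      · refine Subgroup.mem_map.mpr ⟨_, T.xm_a_mem_gen t, ?_⟩
        rw [Subgroup.subtype_apply, hxma]
  rw [eq_top_iff]
  intro g _
  obtain ⟨y, hy, e⟩ := Subgroup.mem_map.mp (h1 g.2)
  have e' : y = g := Subtype.ext e
  rw [← e']
  exact hy

/-- **the `BNDat` of `³D₄(q)`.** -/
noncomputable def taBNDat : BNDat f ↥(tgG f) :=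
  { toTTor := T
    U := (tgU f).subgroupOf (tgG f)
    Ua := (tgUa f).subgroupOf (tgG f)
    Ub := (tgUb f).subgroupOf (tgG f)
    xa_mem := tam_xa_mem f T hxpa
    xb_mem := tam_xb_mem f T hxpb
    Ua_le := fun g hg => Subgroup.mem_subgroupOf.mpr (tgUa_le f (Subgroup.mem_subgroupOf.mp hg))
    Ub_le := fun g hg => Subgroup.mem_subgroupOf.mpr (tgUb_le f (Subgroup.mem_subgroupOf.mp hg))
    dec_a := tam_dec_a f T hxpa
    dec_b := tam_dec_b f T hxpb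
    na_Ua := tam_na_Ua f T hxpa hxma
    nb_Ub := tam_nb_Ub f T hxpb hxmb
    H_U := tam_H_U f T hxpa hxma hxpb hxmb
    dich_a := tam_dich_a f hf3 T hxpa hxma hxpb hxmb
    dich_b := tam_dich_b f T hxpa hxma hxpb hxmb
    U_inf_H := tam_U_inf_H f T hxpa hxma hxpb hxmb
    B_inf_N := tam_B_inf_N f T hxpa hxma hxpb hxmb
    H_inj := tam_H_inj f hf3 T hxpa hxma hxpb hxmb
    cox := tam_cox f T hxpa hxma hxpb hxmb
    top := tam_top f T hxpa hxma hxpb hxmb }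

theorem taBNDat_U : (taBNDat f hf3 T hxpa hxma hxpb hxmb).U = (tgU f).subgroupOf (tgG f) := rfl

end sys

end Cfsg.Agent.CtRecT
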