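import Mathlib
import Cfsg.Agent.CtRecT.TAmbDefs

set_option autoImplicit false
set_option linter.unusedSectionVars false
set_option linter.unusedVariables false

/-!
# S2110, P-D (helper8): the two rank one systems `Ra`, `Rb` of `³D₄` inside `↥(tgG f)`

`taRa f hf3 : Rk1 K ↥(tgG f)` (the class `a`, parameters in `K`) and `taRb f : Rk1 (fixF f) ↥(tgG f)` (the class `b`,
parameters in the fixed field), as images of the upper and lower unitriangular elements of `SL₂` under the class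
homomorphisms; the relation `conj_xp` is one identity in `SL₂` pushed through the homomorphism.
-/

namespace Cfsg.Agent.CtRecT

open Cfsg Cfsg.Lie Cfsg.Agent.Helper7.Chev Cfsg.Agent.CtRecM

variable {K : Type*} [Field K]

/-! ### identities in `SL₂` -/

theorem ta_upperSL_mul (t u : K) : upperSL t * upperSL u = upperSL (t + u) := by
  apply Subtype.ext
  rw [Matrix.SpecialLinearGroup.coe_mul]
  change !![1, t; 0, 1] * !![1, u; 0, 1] = !![1, t + u; 0, 1]
  ext i j
  fin_cases i <;> fin_cases j <;> simp [Matrix.mul_apply, Fin.sum_univ_two, add_comm]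

theorem ta_lowerSL_mul (t u : K) : lowerSL t * lowerSL u = lowerSL (t + u) := by
  apply Subtype.ext
  rw [Matrix.SpecialLinearGroup.coe_mul]
  change !![1, 0; t, 1] * !![1, 0; u, 1] = !![1, 0; t + u, 1]
  ext i j
  fin_cases i <;> fin_cases j <;> simp [Matrix.mul_apply, Fin.sum_univ_two, add_comm]

/-- `w(t) = x(t) y(-t⁻¹) x(t)` is the antidiagonal matrix `[[0, t], [-t⁻¹, 0]]`. -/
theorem ta_w_val {t : K} (ht : t ≠ 0) :
    ((upperSL t * lowerSL (-t⁻¹) * upperSL t : Matrix.SpecialLinearGroup (Fin 2) K) :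
      Matrix (Fin 2) (Fin 2) K) = !![0, t; -t⁻¹, 0] := by
  rw [Matrix.SpecialLinearGroup.coe_mul, Matrix.SpecialLinearGroup.coe_mul]
  change !![1, t; 0, 1] * !![1, 0; -t⁻¹, 1] * !![1, t; 0, 1] = !![0, t; -t⁻¹, 0]
  ext i j
  fin_cases i <;> fin_cases j <;> simp [Matrix.mul_apply, Fin.sum_univ_two, ht]

/-- the relation (B') in `SL₂`. -/
theorem ta_sl2_conj {t : K} (ht : t ≠ 0) (u : K) :
    (upperSL t * lowerSL (-t⁻¹) * upperSL t) * upperSL u * (upperSL t * lowerSL (-t⁻¹) * upperSL t)⁻¹ =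
      lowerSL (-(t ^ 2)⁻¹ * u) := by
  have hWv := ta_w_val ht
  obtain ⟨W, hW⟩ : ∃ W : Matrix.SpecialLinearGroup (Fin 2) K,
      W = upperSL t * lowerSL (-t⁻¹) * upperSL t := ⟨_, rfl⟩
  rw [← hW] at hWv ⊢
  rw [mul_inv_eq_iff_eq_mul]
  apply Subtype.ext
  rw [Matrix.SpecialLinearGroup.coe_mul, Matrix.SpecialLinearGroup.coe_mul, hWv]
  change !![0, t; -t⁻¹, 0] * !![1, u; 0, 1] = !![1, 0; -(t ^ 2)⁻¹ * u, 1] * !![0, t; -t⁻¹, 0]
  ext i j
  fin_cases i <;> fin_cases j <;> simp [Matrix.mul_apply, Fin.sum_univ_two]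
  field_simp

/-- the relation (B') pushed through a homomorphism. -/
theorem ta_hom_conj {M : Type*} [Group M] (φ : Matrix.SpecialLinearGroup (Fin 2) K →* M) {t : K}
    (ht : t ≠ 0) (u : K) :
    (φ (upperSL t) * φ (lowerSL (-t⁻¹)) * φ (upperSL t)) * φ (upperSL u) *
        (φ (upperSL t) * φ (lowerSL (-t⁻¹)) * φ (upperSL t))⁻¹ = φ (lowerSL (-(t ^ 2)⁻¹ * u)) := by
  rw [← ta_sl2_conj ht u, map_mul, map_mul, map_mul, map_mul, map_inv, map_mul, map_mul]

/-! ### the rank one systems -/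

variable (f : K ≃+* K)

/-- the rank one system of the class `a`. -/
noncomputable def taRa (hf3 : ∀ t, (((f : K →+* K)) ^ 3) t = t) : Rk1 K ↥(tgG f) where
  xp t := ⟨tgPhiA f (upperSL t), tgA_upper_mem f hf3 t⟩
  xm t := ⟨tgPhiA f (lowerSL t), tgA_lower_mem f hf3 t⟩
  xp_add t u := by
    apply Subtype.ext
    change tgPhiA f (upperSL t) * tgPhiA f (upperSL u) = tgPhiA f (upperSL (t + u))
    rw [← map_mul, ta_upperSL_mul]
  xm_add t u := by
    apply Subtype.ext
    change tgPhiA f (lowerSL t) * tgPhiA f (lowerSL u) = tgPhiA f (lowerSL (t + u))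
    rw [← map_mul, ta_lowerSL_mul]
  conj_xp t ht u := by
    apply Subtype.ext
    change (tgPhiA f (upperSL t) * tgPhiA f (lowerSL (-t⁻¹)) * tgPhiA f (upperSL t)) *
      tgPhiA f (upperSL u) *
      (tgPhiA f (upperSL t) * tgPhiA f (lowerSL (-t⁻¹)) * tgPhiA f (upperSL t))⁻¹ =
      tgPhiA f (lowerSL (-(t ^ 2)⁻¹ * u))
    exact ta_hom_conj (tgPhiA f) ht u

/-- the rank one system of the class `b`, over the fixed field. -/
noncomputable def taRb : Rk1 (fixF f) ↥(tgG f) where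
  xp t := ⟨tgPhiB f (upperSL (t : K)), tgB_upper_mem f t.2⟩
  xm t := ⟨tgPhiB f (lowerSL (t : K)), tgB_lower_mem f t.2⟩
  xp_add t u := by
    apply Subtype.ext
    change tgPhiB f (upperSL (t : K)) * tgPhiB f (upperSL (u : K)) =
      tgPhiB f (upperSL ((t + u : fixF f) : K))
    rw [← map_mul, ta_upperSL_mul]
    rfl
  xm_add t u := by
    apply Subtype.ext
    change tgPhiB f (lowerSL (t : K)) * tgPhiB f (lowerSL (u : K)) =
      tgPhiB f (lowerSL ((t + u : fixF f) : K))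
    rw [← map_mul, ta_lowerSL_mul]
    rfl
  conj_xp t ht u := by
    have ht' : (t : K) ≠ 0 := fun h => ht (Subtype.ext h)
    apply Subtype.ext
    change (tgPhiB f (upperSL (t : K)) * tgPhiB f (lowerSL ((-t⁻¹ : fixF f) : K)) *
        tgPhiB f (upperSL (t : K))) * tgPhiB f (upperSL (u : K)) *
      (tgPhiB f (upperSL (t : K)) * tgPhiB f (lowerSL ((-t⁻¹ : fixF f) : K)) *
        tgPhiB f (upperSL (t : K)))⁻¹ =
      tgPhiB f (lowerSL ((-(t ^ 2)⁻¹ * u : fixF f) : K))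
    have e1 : ((-t⁻¹ : fixF f) : K) = -(t : K)⁻¹ := by push_cast; rfl
    have e2 : ((-(t ^ 2)⁻¹ * u : fixF f) : K) = -((t : K) ^ 2)⁻¹ * (u : K) := by push_cast; rfl
    rw [e1, e2]
    exact ta_hom_conj (tgPhiB f) ht' (u : K)

theorem taRa_xp_coe (hf3 : ∀ t, (((f : K →+* K)) ^ 3) t = t) (t : K) :
    (((taRa f hf3).xp t : ↥(tgG f)) : GL chevD4.Idx K) = tgPhiA f (upperSL t) := rfl

theorem taRa_xm_coe (hf3 : ∀ t, (((f : K →+* K)) ^ 3) t = t) (t : K) :
    (((taRa f hf3).xm t : ↥(tgG f)) : GL chevD4.Idx K) = tgPhiA f (lowerSL t) := rfl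

theorem taRb_xp_coe (t : fixF f) :
    (((taRb f).xp t : ↥(tgG f)) : GL chevD4.Idx K) = tgPhiB f (upperSL (t : K)) := rfl

theorem taRb_xm_coe (t : fixF f) :
    (((taRb f).xm t : ↥(tgG f)) : GL chevD4.Idx K) = tgPhiB f (lowerSL (t : K)) := rfl

end Cfsg.Agent.CtRecT
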