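import Mathlib
import Cfsg.Agent.Helper7.ChevTwU5
import Cfsg.Agent.Helper7.ChevTw7

set_option autoImplicit false
set_option linter.unusedSectionVars false
set_option linter.unusedVariables false

/-!
# S2110, piece P-D (helper6): `U¹` is a `p`-group

For `K` of order `q ^ 3`, `f = Frob_q`: `|U¹| = q ^ 12` for `U¹ = twU …` (the unipotent subgroup of `twGroup good2_D4 T3_D4 T4_D4 T19_D4 f`),
`ringChar K` is the prime of `q`, so `U¹` (and its copy inside `↥(twGroup …)`) is a `ringChar K`-group.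
-/

namespace Cfsg.Agent.CtRecT

open Cfsg Cfsg.Lie Cfsg.Agent.Helper7.Chev

variable {K : Type*} [Field K] [Fintype K] {q : ℕ}

/-- `|U¹| = q ^ 12` for the given Frobenius `f`. -/
theorem tap_card_twU (hq : IsPrimePow q) (hK : Fintype.card K = q ^ 3) (f : K ≃+* K)
    (hf : ∀ t, f t = t ^ q) (hf3 : ∀ t, (((f : K →+* K)) ^ 3) t = t) :
    Nat.card ↥(twU good2_D4 T3_D4 T4_D4 T19_D4 f) = q ^ 12 := by
  unfold twU
  rw [card_posUnipotent_inf_twGroup good2_D4 T0_D4 T3_D4 T4_D4 T5_D4 T6_D4 T7_D4 T8_D4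
    T18_D4a T19_D4 T20_D4 f w0clsD4_mem (prefixPos_of_tab PPcls_D4) W0cls_D4]
  have h1 : Nat.card {t : K // Adm f 1 t} = q := card_adm_one hq.two_le (by norm_num) hK hf
  have h3 : Nat.card {t : K // Adm f 3 t} = q ^ 3 := by rw [card_adm_full hf3, hK]
  simp only [w0clsD4, List.map_cons, List.map_nil, List.prod_cons, List.prod_nil, h1, h3]
  ring

/-- `q` is a power of the characteristic. -/
theorem tap_q_eq_pow (hq : IsPrimePow q) (hK : Fintype.card K = q ^ 3) :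
    ∃ a : ℕ, q = ringChar K ^ a := by
  obtain ⟨p, a, hp, ha, rfl⟩ := hq
  have hp' : Nat.Prime p := Nat.prime_iff.2 hp
  have : Fact (ringChar K).Prime := ⟨CharP.char_is_prime K (ringChar K)⟩
  obtain ⟨n, hn⟩ := FiniteField.card K (ringChar K)
  have hcard : (ringChar K) ^ (n : ℕ) = p ^ (a * 3) := by
    rw [← hn.2, hK, ← pow_mul]
  have hdvd : ringChar K ∣ p ^ (a * 3) := by
    rw [← hcard]
    exact dvd_pow_self _ n.ne_zero
  have heq : ringChar K = p :=
    (Nat.prime_dvd_prime_iff_eq hn.1 hp').1 (hn.1.dvd_of_dvd_pow hdvd)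
  exact ⟨a, by rw [heq]⟩

theorem tap_ringChar_prime : Fact (ringChar K).Prime := ⟨CharP.char_is_prime K (ringChar K)⟩

theorem tap_ringChar_cast : ((ringChar K : ℕ) : K) = 0 := CharP.cast_eq_zero K (ringChar K)

/-- `U¹` is a `p`-group. -/
theorem tap_isPGroup_twU (hq : IsPrimePow q) (hK : Fintype.card K = q ^ 3) (f : K ≃+* K)
    (hf : ∀ t, f t = t ^ q) (hf3 : ∀ t, (((f : K →+* K)) ^ 3) t = t) :
    IsPGroup (ringChar K) ↥(twU good2_D4 T3_D4 T4_D4 T19_D4 f) := by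
  have : Fact (ringChar K).Prime := tap_ringChar_prime
  obtain ⟨a, ha⟩ := tap_q_eq_pow hq hK
  apply IsPGroup.of_card (n := a * 12)
  rw [tap_card_twU hq hK f hf hf3, ha, ← pow_mul]

/-- the copy of `U¹` inside `↥(twGroup …)` is a `p`-group. -/
theorem tap_isPGroup_twU_sub (hq : IsPrimePow q) (hK : Fintype.card K = q ^ 3) (f : K ≃+* K)
    (hf : ∀ t, f t = t ^ q) (hf3 : ∀ t, (((f : K →+* K)) ^ 3) t = t) :
    IsPGroup (ringChar K) ↥((twU good2_D4 T3_D4 T4_D4 T19_D4 f).subgroupOf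
      (twGroup good2_D4 T3_D4 T4_D4 T19_D4 f)) := by
  have h := tap_isPGroup_twU hq hK f hf hf3
  intro g
  obtain ⟨k, hk⟩ := h ⟨((g : ↥(twGroup good2_D4 T3_D4 T4_D4 T19_D4 f)) : GL chevD4.Idx K),
    Subgroup.mem_subgroupOf.1 g.2⟩
  refine ⟨k, ?_⟩
  apply Subtype.ext
  apply Subtype.ext
  have := congrArg Subtype.val hk
  simpa using this

/-- any subgroup of `↥(twGroup …)` whose elements lie in `U¹` is a `p`-group. -/
theorem tap_isPGroup_of_le (hq : IsPrimePow q) (hK : Fintype.card K = q ^ 3) (f : K ≃+* K)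
    (hf : ∀ t, f t = t ^ q) (hf3 : ∀ t, (((f : K →+* K)) ^ 3) t = t)
    (U : Subgroup ↥(twGroup good2_D4 T3_D4 T4_D4 T19_D4 f))
    (hU : ∀ g ∈ U, ((g : ↥(twGroup good2_D4 T3_D4 T4_D4 T19_D4 f)) : GL chevD4.Idx K) ∈
      twU good2_D4 T3_D4 T4_D4 T19_D4 f) : IsPGroup (ringChar K) ↥U := by
  have h := tap_isPGroup_twU hq hK f hf hf3
  intro g
  obtain ⟨k, hk⟩ := h ⟨_, hU g g.2⟩
  refine ⟨k, ?_⟩
  apply Subtype.ext
  apply Subtype.ext
  have := congrArg Subtype.val hk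
  simpa using this

end Cfsg.Agent.CtRecT
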