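import Mathlib
import Cfsg.Agent.CtRecT.TPL

set_option autoImplicit false
set_option linter.unusedSectionVars false
set_option linter.unusedVariables false

/-!
# S2110, Part II, piece UL (helper6): existence of unique `p`-lifts

`σ : E →* G` a surjection of finite groups with central kernel of order prime to `p`: every `p`-element of `G` has a unique
`p`-element lift (`tl_exists`, `tl_unique`), and the lift is multiplicative on `p`-subgroups (`tl_mul_pel`: the preimage of a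
`p`-subgroup is nilpotent, so its `p`-elements form its normal Sylow `p`-subgroup).  Hence `exists_PLift : Nonempty (PLift σ p)`.
-/

namespace Cfsg.Agent.CtRecT

variable {E G : Type*} [Group E] [Group G]

/-- elements of the kernel are killed by its order. -/
theorem tl_pow_card_ker (σ : E →* G) {z : E} (hz : z ∈ σ.ker) : z ^ Nat.card σ.ker = 1 := by
  have h := pow_card_eq_one' (G := σ.ker) (x := ⟨z, hz⟩)
  have := congrArg Subtype.val h
  simpa using this

/-- existence of a `p`-element lift. -/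
theorem tl_exists [Finite E] (σ : E →* G) (hs : Function.Surjective σ) (p : ℕ)
    (hZ : (Nat.card σ.ker).Coprime p) {g : G} (hg : ∃ n : ℕ, g ^ p ^ n = 1) :
    ∃ e : E, σ e = g ∧ ∃ n : ℕ, e ^ p ^ n = 1 := by
  obtain ⟨k, hk⟩ := hg
  obtain ⟨e₀, rfl⟩ := hs g
  set m := Nat.card σ.ker with hm
  have hcop : Nat.Coprime m (p ^ k) := Nat.Coprime.pow_right k hZ
  have hb : (m : ℤ) * Int.gcdA (m : ℤ) ((p : ℤ) ^ k) + (p : ℤ) ^ k * Int.gcdB (m : ℤ) ((p : ℤ) ^ k)
      = 1 := by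
    rw [← Int.gcd_eq_gcd_ab]
    have : Int.gcd (m : ℤ) ((p : ℤ) ^ k) = 1 := by
      rw [← Nat.cast_pow, Int.gcd_natCast_natCast]; exact hcop
    rw [this]; simp
  set A := Int.gcdA (m : ℤ) ((p : ℤ) ^ k) with hA
  set B := Int.gcdB (m : ℤ) ((p : ℤ) ^ k) with hB
  have hkz : (σ e₀) ^ ((p : ℤ) ^ k) = 1 := by
    rw [← Nat.cast_pow, zpow_natCast, hk]
  have hker : e₀ ^ p ^ k ∈ σ.ker := by
    rw [MonoidHom.mem_ker, map_pow, hk]
  have h1 : (e₀ ^ p ^ k) ^ m = 1 := tl_pow_card_ker σ hker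
  refine ⟨e₀ ^ ((m : ℤ) * A), ?_, k, ?_⟩
  · rw [map_zpow]
    have h2 : (m : ℤ) * A = 1 - (p : ℤ) ^ k * B := by linarith
    rw [h2, zpow_sub, zpow_one, zpow_mul, hkz, one_zpow, inv_one, mul_one]
  · rw [← zpow_natCast, ← zpow_mul, mul_comm, zpow_mul, zpow_mul, zpow_natCast, zpow_natCast, h1,
      one_zpow]

/-- uniqueness of the `p`-element lift. -/
theorem tl_unique [Finite E] (σ : E →* G) (hc : σ.ker ≤ Subgroup.center E) (p : ℕ)
    (hZ : (Nat.card σ.ker).Coprime p) {e e' : E} (h : σ e = σ e')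
    (he : ∃ n : ℕ, e ^ p ^ n = 1) (he' : ∃ n : ℕ, e' ^ p ^ n = 1) : e = e' := by
  obtain ⟨n, hn⟩ := he
  obtain ⟨n', hn'⟩ := he'
  have hz : e⁻¹ * e' ∈ σ.ker := by
    rw [MonoidHom.mem_ker, map_mul, map_inv, h, inv_mul_cancel]
  set z := e⁻¹ * e' with hzdef
  have hcomm : Commute e z := (Subgroup.mem_center_iff.1 (hc hz) e)
  have he'z : e' = e * z := by rw [hzdef]; group
  have h1 : e ^ p ^ (n + n') = 1 := by rw [pow_add, pow_mul, hn, one_pow]
  have h2 : e' ^ p ^ (n + n') = 1 := by rw [pow_add, mul_comm, pow_mul, hn', one_pow]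
  have h3 : z ^ p ^ (n + n') = 1 := by
    rw [he'z, hcomm.mul_pow, h1, one_mul] at h2
    exact h2
  have h4 : z ^ Nat.card σ.ker = 1 := tl_pow_card_ker σ hz
  have h5 : orderOf z ∣ Nat.gcd (Nat.card σ.ker) (p ^ (n + n')) :=
    Nat.dvd_gcd (orderOf_dvd_of_pow_eq_one h4) (orderOf_dvd_of_pow_eq_one h3)
  have h6 : Nat.gcd (Nat.card σ.ker) (p ^ (n + n')) = 1 := Nat.Coprime.pow_right _ hZ
  rw [h6, Nat.dvd_one, orderOf_eq_one_iff] at h5
  rw [he'z, h5, mul_one]

/-- the product of two `p`-elements lying over a common `p`-subgroup is a `p`-element. -/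
theorem tl_mul_pel [Finite E] (σ : E →* G) (hc : σ.ker ≤ Subgroup.center E)
    (p : ℕ) [Fact p.Prime] (P : Subgroup G) [Finite P] (hP : IsPGroup p P) {e e' : E} (he : σ e ∈ P)
    (he' : σ e' ∈ P) (hpe : ∃ n : ℕ, e ^ p ^ n = 1) (hpe' : ∃ n : ℕ, e' ^ p ^ n = 1) :
    ∃ n : ℕ, (e * e') ^ p ^ n = 1 := by
  have hnP : Group.IsNilpotent ↥P := hP.isNilpotent
  have hkc : (σ.subgroupComap P).ker ≤ Subgroup.center ↥(P.comap σ) := by
    intro q hq
    rw [MonoidHom.mem_ker] at hq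
    have h1 : σ (q : E) = 1 := congrArg Subtype.val hq
    have h2 : (q : E) ∈ Subgroup.center E := hc (MonoidHom.mem_ker.2 h1)
    rw [Subgroup.mem_center_iff]
    intro r
    apply Subtype.ext
    exact Subgroup.mem_center_iff.1 h2 (r : E)
  have hnQ : Group.IsNilpotent ↥(P.comap σ) := Subgroup.isNilpotent_of_ker_le_center _ hkc
  -- the normal Sylow subgroup of the preimage contains the `p`-elements
  let S : Sylow p ↥(P.comap σ) := default
  have hSn : (S : Subgroup ↥(P.comap σ)).Normal := inferInstance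
  have huniq : ∀ S' : Sylow p ↥(P.comap σ), S' = S := by
    intro S'
    have := Sylow.unique_of_normal S hSn
    exact Subsingleton.elim _ _
  have hmem : ∀ q : ↥(P.comap σ), (∃ n : ℕ, (q : E) ^ p ^ n = 1) →
      q ∈ (S : Subgroup ↥(P.comap σ)) := by
    intro q ⟨n, hn⟩
    have hq : q ^ p ^ n = 1 := Subtype.ext (by simpa using hn)
    have hord : orderOf q ∣ p ^ n := orderOf_dvd_of_pow_eq_one hq
    obtain ⟨k, _, hk⟩ := (Nat.dvd_prime_pow (Fact.out : p.Prime)).1 hord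
    have hpg : IsPGroup p (Subgroup.zpowers q) := by
      apply IsPGroup.of_card (n := k)
      rw [Nat.card_zpowers, hk]
    obtain ⟨S', hS'⟩ := hpg.exists_le_sylow
    rw [huniq S'] at hS'
    exact hS' (Subgroup.mem_zpowers q)
  have h1 := hmem ⟨e, he⟩ hpe
  have h2 := hmem ⟨e', he'⟩ hpe'
  have h3 : (⟨e, he⟩ * ⟨e', he'⟩ : ↥(P.comap σ)) ∈ (S : Subgroup ↥(P.comap σ)) :=
    Subgroup.mul_mem _ h1 h2
  obtain ⟨n, hn⟩ := S.2 ⟨_, h3⟩
  refine ⟨n, ?_⟩
  have h4 := congrArg Subtype.val (congrArg Subtype.val hn)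
  simpa using h4

/-- **UL**: unique `p`-lifts exist along a surjection with central kernel of order prime to `p`. -/
theorem exists_PLift {E G : Type*} [Group E] [Group G] [Finite E] (σ : E →* G)
    (hs : Function.Surjective σ) (hc : σ.ker ≤ Subgroup.center E) (p : ℕ) [Fact p.Prime]
    (hZ : (Nat.card σ.ker).Coprime p) : Nonempty (PLift σ p) := by
  classical
  have hfinG : Finite G := Finite.of_surjective σ hs
  let pl : G → E := fun g =>
    if h : ∃ e : E, σ e = g ∧ ∃ n : ℕ, e ^ p ^ n = 1 then Classical.choose h else 1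
  have hpl : ∀ g : G, (∃ n : ℕ, g ^ p ^ n = 1) → σ (pl g) = g ∧ ∃ n : ℕ, pl g ^ p ^ n = 1 := by
    intro g hg
    have h := tl_exists σ hs p hZ hg
    have : pl g = Classical.choose h := dif_pos h
    rw [this]
    exact Classical.choose_spec h
  have hpl_map : ∀ e : E, (∃ n : ℕ, e ^ p ^ n = 1) → pl (σ e) = e := by
    intro e he
    have hg : ∃ n : ℕ, (σ e) ^ p ^ n = 1 := by
      obtain ⟨n, hn⟩ := he
      exact ⟨n, by rw [← map_pow, hn, map_one]⟩
    obtain ⟨h1, h2⟩ := hpl (σ e) hg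
    exact tl_unique σ hc p hZ h1 h2 he
  refine ⟨⟨pl, fun g hg => (hpl g hg).1, hpl_map, fun g hg => (hpl g hg).2, ?_⟩⟩
  intro P hP g hg g' hg'
  have hgp := PLift.pl_mem_of_isPGroup hP hg
  have hgp' := PLift.pl_mem_of_isPGroup hP hg'
  obtain ⟨h1, h2⟩ := hpl g hgp
  obtain ⟨h1', h2'⟩ := hpl g' hgp'
  have h3 : ∃ n : ℕ, (pl g * pl g') ^ p ^ n = 1 :=
    tl_mul_pel σ hc p P hP (by rw [h1]; exact hg) (by rw [h1']; exact hg') h2 h2'
  have h4 := hpl_map (pl g * pl g') h3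
  rw [map_mul, h1, h1'] at h4
  exact h4

end Cfsg.Agent.CtRecT
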