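import Mathlib
import Cfsg.Agent.CtRecT.TSysD4C
import Cfsg.Agent.Helper7.ChevTwU5

set_option autoImplicit false
set_option linter.unusedVariables false
set_option linter.unusedSimpArgs false
set_option linter.unusedTactic false
set_option linter.unreachableTactic false

/-!
S2110, piece P-B (helper3), part E: the twisted root elements of parts B and C lie in the twisted
group `³D₄`: those of the positive roots are fixed points of the twisting automorphism in `U`
(`posUnipotent_inf_twGroup`), and `x_{-a}` is one of the generators.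
-/

namespace Cfsg.Agent.CtRecT

open Cfsg Cfsg.Lie Cfsg.Agent.Helper7.Chev

variable {K : Type*} [Field K] (f : K ≃+* K)

theorem tb_tw_pos {r r' : Fin 24} (h1 : tabN t18s_D4a r.val = r'.val)
    (h2 : tabI t18e_D4a r.val = 1) (t : K) :
    twAut T18_D4a f (xd r t) = xd r' (f t) := by
  unfold xd
  rw [twAut_xGL d4G1 T18_D4a f (d4_lt r.val r.isLt) t, h2, Int.cast_one, one_mul]
  exact xGL_congr good2_D4 h1 _ _ _

theorem tb_tw_neg {r r' : Fin 24} (h1 : tabN t18s_D4a r.val = r'.val)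
    (h2 : tabI t18e_D4a r.val = -1) (t : K) :
    twAut T18_D4a f (xd r t) = xd r' (-f t) := by
  unfold xd
  rw [twAut_xGL d4G1 T18_D4a f (d4_lt r.val r.isLt) t, h2, Int.cast_neg, Int.cast_one, neg_one_mul]
  exact xGL_congr good2_D4 h1 _ _ _

theorem tb_tw_12 (t : K) : twAut T18_D4a f (xd 12 t) = xd 18 (f t) :=
  tb_tw_pos f (by decide) (by decide) t

theorem tb_tw_13 (t : K) : twAut T18_D4a f (xd 13 t) = xd 12 (f t) :=
  tb_tw_pos f (by decide) (by decide) t

theorem tb_tw_14 (t : K) : twAut T18_D4a f (xd 14 t) = xd 14 (f t) :=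
  tb_tw_pos f (by decide) (by decide) t

theorem tb_tw_15 (t : K) : twAut T18_D4a f (xd 15 t) = xd 19 (-f t) :=
  tb_tw_neg f (by decide) (by decide) t

theorem tb_tw_16 (t : K) : twAut T18_D4a f (xd 16 t) = xd 15 (f t) :=
  tb_tw_pos f (by decide) (by decide) t

theorem tb_tw_17 (t : K) : twAut T18_D4a f (xd 17 t) = xd 20 (-f t) :=
  tb_tw_neg f (by decide) (by decide) t

theorem tb_tw_18 (t : K) : twAut T18_D4a f (xd 18 t) = xd 13 (f t) :=
  tb_tw_pos f (by decide) (by decide) t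

theorem tb_tw_19 (t : K) : twAut T18_D4a f (xd 19 t) = xd 16 (-f t) :=
  tb_tw_neg f (by decide) (by decide) t

theorem tb_tw_20 (t : K) : twAut T18_D4a f (xd 20 t) = xd 21 (f t) :=
  tb_tw_pos f (by decide) (by decide) t

theorem tb_tw_21 (t : K) : twAut T18_D4a f (xd 21 t) = xd 17 (-f t) :=
  tb_tw_neg f (by decide) (by decide) t

theorem tb_tw_22 (t : K) : twAut T18_D4a f (xd 22 t) = xd 22 (f t) :=
  tb_tw_pos f (by decide) (by decide) t

theorem tb_tw_23 (t : K) : twAut T18_D4a f (xd 23 t) = xd 23 (f t) :=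
  tb_tw_pos f (by decide) (by decide) t

/-- A fixed point of the twisting automorphism in `U` lies in the twisted group. -/
theorem tb_mem_of_fix {g : GL chevD4.Idx K} (hU : g ∈ chevD4.posUnipotent K)
    (hfix : twAut T18_D4a f g = g) : g ∈ twGroup good2_D4 T3_D4 T4_D4 T19_D4 f := by
  have h := (posUnipotent_inf_twGroup good2_D4 T0_D4 T3_D4 T4_D4 T5_D4 T6_D4 T7_D4 T8_D4 T18_D4a
    T19_D4 T20_D4 f w0clsD4_mem (prefixPos_of_tab PPcls_D4) W0cls_D4).2
  have h' : g ∈ chevD4.posUnipotent K ⊓ twFix T18_D4a f := ⟨hU, hfix⟩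
  rw [← h] at h'
  exact h'.2

variable (hf3 : ∀ t, f (f (f t)) = t)

include hf3

theorem tb_xa_mem (t : K) : tbXa (f : K →+* K) t ∈ twGroup good2_D4 T3_D4 T4_D4 T19_D4 f := by
  apply tb_mem_of_fix
  · unfold tbXa
    exact mul_mem (xd_mem_U 18 (by decide) _) (mul_mem (xd_mem_U 13 (by decide) _)
      (xd_mem_U 12 (by decide) _))
  · unfold tbXa
    rw [map_mul, map_mul, tb_tw_18, tb_tw_13, tb_tw_12]
    simp only [RingEquiv.coe_toRingHom, hf3]
    apply mul_right_cancel (b := tbW (K := K) 0 0 0 0 0 0 0 0 0 0 0 0)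
    simp only [tbW, mul_assoc, tb_pos_all, tb_merge, tb_merge']
    all_goals (apply tbW_congr)
    all_goals (try ring)

theorem tb_xab_mem (t : K) : tbXab (f : K →+* K) t ∈ twGroup good2_D4 T3_D4 T4_D4 T19_D4 f := by
  apply tb_mem_of_fix
  · unfold tbXab
    exact mul_mem (xd_mem_U 19 (by decide) _) (mul_mem (xd_mem_U 16 (by decide) _)
      (xd_mem_U 15 (by decide) _))
  · unfold tbXab
    rw [map_mul, map_mul, tb_tw_19, tb_tw_16, tb_tw_15]
    simp only [RingEquiv.coe_toRingHom, map_neg, neg_neg, hf3]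
    apply mul_right_cancel (b := tbW (K := K) 0 0 0 0 0 0 0 0 0 0 0 0)
    simp only [tbW, mul_assoc, tb_pos_all, tb_merge, tb_merge']
    all_goals (apply tbW_congr)
    all_goals (try ring)

theorem tb_x2ab_mem (t : K) : tbX2ab (f : K →+* K) t ∈ twGroup good2_D4 T3_D4 T4_D4 T19_D4 f := by
  apply tb_mem_of_fix
  · unfold tbX2ab
    exact mul_mem (xd_mem_U 21 (by decide) _) (mul_mem (xd_mem_U 17 (by decide) _)
      (xd_mem_U 20 (by decide) _))
  · unfold tbX2ab
    rw [map_mul, map_mul, tb_tw_21, tb_tw_17, tb_tw_20]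
    simp only [RingEquiv.coe_toRingHom, map_neg, neg_neg, hf3]
    apply mul_right_cancel (b := tbW (K := K) 0 0 0 0 0 0 0 0 0 0 0 0)
    simp only [tbW, mul_assoc, tb_pos_all, tb_merge, tb_merge']
    all_goals (apply tbW_congr)
    all_goals (try ring)

theorem tb_tr_fix (w : K) : f (w + f w + f (f w)) = w + f w + f (f w) := by
  rw [map_add, map_add, hf3]
  ring

theorem tb_yb_mem (w : K) : tbYb (f : K →+* K) w ∈ twGroup good2_D4 T3_D4 T4_D4 T19_D4 f := by
  apply tb_mem_of_fix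
  · exact xd_mem_U 14 (by decide) _
  · unfold tbYb
    rw [tb_tw_14]
    simp only [RingEquiv.coe_toRingHom]
    rw [tb_tr_fix f hf3]

theorem tb_y3ab_mem (w : K) : tbY3ab (f : K →+* K) w ∈ twGroup good2_D4 T3_D4 T4_D4 T19_D4 f := by
  apply tb_mem_of_fix
  · exact xd_mem_U 22 (by decide) _
  · unfold tbY3ab
    rw [tb_tw_22]
    simp only [RingEquiv.coe_toRingHom]
    rw [tb_tr_fix f hf3]

theorem tb_y3a2b_mem (w : K) : tbY3a2b (f : K →+* K) w ∈ twGroup good2_D4 T3_D4 T4_D4 T19_D4 f := by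
  apply tb_mem_of_fix
  · exact xd_mem_U 23 (by decide) _
  · unfold tbY3a2b
    rw [tb_tw_23]
    simp only [RingEquiv.coe_toRingHom]
    rw [tb_tr_fix f hf3]

omit hf3 in
theorem tb_xma_mem (hf3' : ∀ t, (((f : K →+* K)) ^ 3) t = t) (t : K) :
    tbXma (f : K →+* K) t ∈ twGroup good2_D4 T3_D4 T4_D4 T19_D4 f := by
  have hc : ((0, 3) : ℕ × ℕ) ∈ clsD4 := by simp
  have hm := lower_mem_twGroup good2_D4 T3_D4 T4_D4 T19_D4 f hc (t := t) (hf3' t)
  have he : tbXma (f : K →+* K) t =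
      clsHom good2_D4 T3_D4 T4_D4 T19_D4 f hc (lowerSL t) := by
    apply Units.ext
    rw [clsHom_lower_coe, loWord_three, clsRoot_D4_00, clsRoot_D4_01, clsRoot_D4_02, neg_D4_p1,
      neg_D4_p3, neg_D4_p4, wordMat_cons, wordMat_cons, wordMat_cons, wordMat_nil, mul_one]
    unfold tbXma
    rw [Units.val_mul, Units.val_mul, xd_coe, xd_coe, xd_coe]
    rfl
  rw [he]
  exact hm

omit hf3 in
theorem tb_f3_of_pow (hf3' : ∀ t, (((f : K →+* K)) ^ 3) t = t) (t : K) : f (f (f t)) = t :=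
  hf3' t

end Cfsg.Agent.CtRecT
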