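import Mathlib
import Cfsg.Agent.CtRecT.TSysD4D
import Cfsg.Agent.CtRecT.TSysD4E
import Cfsg.Agent.Helper7.TdB

set_option autoImplicit false
set_option linter.unusedVariables false
set_option linter.unusedSectionVars false

/-!
S2110, piece P-B (helper3), part F: the abstract `³D₄` datum `Helper7.Td.TdSys` of the twisted group
`³D₄(q)` inside `GL(chevD4.Idx K)`, assembled from parts B, C (relations), D (torus, helper8) and
E (membership).
-/

namespace Cfsg.Agent.CtRecT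

open Cfsg Cfsg.Lie Cfsg.Agent.Helper7.Chev Cfsg.Agent.Helper7.Td

variable {K : Type*} [Field K]

/-- The `Tw3` datum of a field automorphism of order three. -/
def tbTw3 (f : K ≃+* K) (hf3 : ∀ t, f (f (f t)) = t) (hne : ∃ a, f a ≠ a) : Tw3 K where
  σ := (f : K →+* K)
  σ3 := hf3
  ne := hne

section elems

variable (Gs : Subgroup (GL chevD4.Idx K)) (f : K ≃+* K)
  (hG : Gs = twGroup good2_D4 T3_D4 T4_D4 T19_D4 f) (hf3 : ∀ t, f (f (f t)) = t)

open Classical in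
/-- `h_b(l)` as an element of the twisted group (`1` unless `l` is fixed by `f`). -/
noncomputable def tbGhb (l : K) : ↥Gs :=
  if h : f l = l then ⟨tbHb l, by rw [hG]; exact tbd_hb_mem f l h⟩ else 1

theorem tbGhb_coe {l : K} (h : f l = l) :
    ((tbGhb Gs f hG l : ↥Gs) : GL chevD4.Idx K) = tbHb l := by
  unfold tbGhb
  rw [dif_pos h]

end elems

/-- The abstract `³D₄` datum of a subgroup `Gs` of `GL(chevD4.Idx K)` equal to the twisted group of `f`. -/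
noncomputable def tdSysOf [Fintype K] (Gs : Subgroup (GL chevD4.Idx K)) (f : K ≃+* K)
    (hG : Gs = twGroup good2_D4 T3_D4 T4_D4 T19_D4 f) (hf3 : ∀ t, f (f (f t)) = t)
    (hne : ∃ a, f a ≠ a) (hcard : 4 < Fintype.card K) (p : ℕ) (hp : (p : K) = 0)
    (hmp : Nat.Coprime (Fintype.card K - 1) p) : TdSys K ↥Gs where
  toTw3 := tbTw3 f hf3 hne
  card_gt := hcard
  p := p
  hp := hp
  m := Fintype.card K - 1
  hmp := hmp
  xa t := ⟨tbXa (f : K →+* K) t, by rw [hG]; exact tb_xa_mem f hf3 t⟩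
  xab t := ⟨tbXab (f : K →+* K) t, by rw [hG]; exact tb_xab_mem f hf3 t⟩
  x2ab t := ⟨tbX2ab (f : K →+* K) t, by rw [hG]; exact tb_x2ab_mem f hf3 t⟩
  xma t := ⟨tbXma (f : K →+* K) t, by rw [hG]; exact tb_xma_mem f hf3 t⟩
  yb w := ⟨tbYb (f : K →+* K) w, by rw [hG]; exact tb_yb_mem f hf3 w⟩
  y3ab w := ⟨tbY3ab (f : K →+* K) w, by rw [hG]; exact tb_y3ab_mem f hf3 w⟩
  y3a2b w := ⟨tbY3a2b (f : K →+* K) w, by rw [hG]; exact tb_y3a2b_mem f hf3 w⟩
  xa_add t u := Subtype.ext (tb_xa_add (f : K →+* K) t u)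
  xab_add t u := Subtype.ext (tb_xab_add (f : K →+* K) t u)
  x2ab_add t u := Subtype.ext (tb_x2ab_add (f : K →+* K) t u)
  xma_add t u := Subtype.ext (tb_xma_add (f : K →+* K) t u)
  yb_add t u := Subtype.ext (tb_yb_add (f : K →+* K) t u)
  y3ab_add t u := Subtype.ext (tb_y3ab_add (f : K →+* K) t u)
  y3a2b_add t u := Subtype.ext (tb_y3a2b_add (f : K →+* K) t u)
  yb_σ w := Subtype.ext (tb_yb_σ (f : K →+* K) hf3 w)
  y3ab_σ w := Subtype.ext (tb_y3ab_σ (f : K →+* K) hf3 w)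
  y3a2b_σ w := Subtype.ext (tb_y3a2b_σ (f : K →+* K) hf3 w)
  r1 w t := Subtype.ext (tb_r1 (f : K →+* K) hf3 w t)
  r2 t s := Subtype.ext (tb_r2 (f : K →+* K) hf3 t s)
  r3 t s := Subtype.ext (tb_r3 (f : K →+* K) hf3 t s)
  r4 t s := Subtype.ext (tb_r4 (f : K →+* K) hf3 t s)
  r5 w v := Subtype.ext (tb_r5 (f : K →+* K) hf3 w v)
  r6 t s := Subtype.ext (tb_r6 (f : K →+* K) hf3 t s)
  c_a_3ab t w := Subtype.ext (tb_c_a_3ab (f : K →+* K) t w)
  c_a_3a2b t w := Subtype.ext (tb_c_a_3a2b (f : K →+* K) t w)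
  c_ab_b t w := Subtype.ext (tb_c_ab_b (f : K →+* K) t w)
  c_2ab_b t w := Subtype.ext (tb_c_2ab_b (f : K →+* K) t w)
  c_ab_3ab t w := Subtype.ext (tb_c_ab_3ab (f : K →+* K) t w)
  c_ab_3a2b t w := Subtype.ext (tb_c_ab_3a2b (f : K →+* K) t w)
  c_2ab_3ab t w := Subtype.ext (tb_c_2ab_3ab (f : K →+* K) t w)
  c_2ab_3a2b t w := Subtype.ext (tb_c_2ab_3a2b (f : K →+* K) t w)
  c_ma_b t w := Subtype.ext (tb_c_ma_b (f : K →+* K) t w)
  c_b_3a2b w v := Subtype.ext (tb_c_b_3a2b (f : K →+* K) w v)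
  c_3ab_3a2b w v := Subtype.ext (tb_c_3ab_3a2b (f : K →+* K) w v)
  ha μ := ⟨tbHa (f : K →+* K) μ, by rw [hG]; exact tbd_ha_mem f hf3 μ⟩
  hb l := tbGhb Gs f hG l
  ha_ha μ ν _ _ := Subtype.ext (tbd_ha_ha (f : K →+* K) μ ν)
  ha_hb μ l _ _ hl := Subtype.ext (by
    rw [Subgroup.coe_mul, Subgroup.coe_mul, tbGhb_coe Gs f hG hl]
    exact tbd_ha_hb (f : K →+* K) μ l)
  hb_hb l l' _ _ hl hl' := Subtype.ext (by
    rw [Subgroup.coe_mul, Subgroup.coe_mul, tbGhb_coe Gs f hG hl, tbGhb_coe Gs f hG hl']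
    exact tbd_hb_hb l l')
  ha_pow μ hμ := Subtype.ext (by
    rw [Subgroup.coe_pow]
    exact tbd_ha_pow (f : K →+* K) hμ)
  hb_pow l hl0 hl := Subtype.ext (by
    rw [Subgroup.coe_pow, tbGhb_coe Gs f hG hl]
    exact tbd_hb_pow hl0)
  ha_xa μ hμ t := Subtype.ext (tbd_ha_xa (f : K →+* K) hμ t)
  ha_xab μ hμ t := Subtype.ext (tbd_ha_xab (f : K →+* K) hμ hf3 t)
  ha_x2ab μ hμ t := Subtype.ext (tbd_ha_x2ab (f : K →+* K) hμ hf3 t)
  ha_xma μ hμ t := Subtype.ext (tbd_ha_xma (f : K →+* K) hμ t)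
  ha_yb μ hμ w := Subtype.ext (tbd_ha_yb (f : K →+* K) hμ hf3 w)
  ha_y3ab μ hμ w := Subtype.ext (tbd_ha_y3ab (f : K →+* K) hμ hf3 w)
  ha_y3a2b μ hμ w := Subtype.ext (tbd_ha_y3a2b (f : K →+* K) hμ w)
  hb_xa l hl0 hl t := Subtype.ext (by
    rw [Subgroup.coe_mul, Subgroup.coe_mul, Subgroup.coe_inv, tbGhb_coe Gs f hG hl]
    exact tbd_hb_xa (f : K →+* K) hl0 hl t)
  hb_xab l hl0 hl t := Subtype.ext (by
    rw [Subgroup.coe_mul, Subgroup.coe_mul, Subgroup.coe_inv, tbGhb_coe Gs f hG hl]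
    exact tbd_hb_xab (f : K →+* K) hl0 hl t)
  hb_x2ab l hl0 hl t := Subtype.ext (by
    rw [Subgroup.coe_mul, Subgroup.coe_mul, Subgroup.coe_inv, tbGhb_coe Gs f hG hl]
    exact tbd_hb_x2ab (f : K →+* K) hl0 hl t)
  hb_xma l hl0 hl t := Subtype.ext (by
    rw [Subgroup.coe_mul, Subgroup.coe_mul, Subgroup.coe_inv, tbGhb_coe Gs f hG hl]
    exact tbd_hb_xma (f : K →+* K) hl0 hl t)
  hb_yb l hl0 hl w := Subtype.ext (by
    rw [Subgroup.coe_mul, Subgroup.coe_mul, Subgroup.coe_inv, tbGhb_coe Gs f hG hl]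
    exact tbd_hb_yb (f : K →+* K) hl0 hl w)
  hb_y3ab l hl0 hl w := Subtype.ext (by
    rw [Subgroup.coe_mul, Subgroup.coe_mul, Subgroup.coe_inv, tbGhb_coe Gs f hG hl]
    exact tbd_hb_y3ab (f : K →+* K) hl0 hl w)
  hb_y3a2b l hl0 hl w := Subtype.ext (by
    rw [Subgroup.coe_mul, Subgroup.coe_mul, Subgroup.coe_inv, tbGhb_coe Gs f hG hl]
    exact tbd_hb_y3a2b (f : K →+* K) hl0 hl w)

section final

variable [Fintype K] {q : ℕ} (hq : IsPrimePow q) (hK : Fintype.card K = q ^ 3)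

/-- The Frobenius automorphism `t ↦ t ^ q` of the field with `q ^ 3` elements. -/
noncomputable def tbF : K ≃+* K := Classical.choose (twistedD4_eq hq hK)

theorem tbF_pow (t : K) : tbF hq hK t = t ^ q := (Classical.choose_spec (twistedD4_eq hq hK)).1 t

theorem tbF_three (t : K) : tbF hq hK (tbF hq hK (tbF hq hK t)) = t :=
  (Classical.choose_spec (twistedD4_eq hq hK)).2.1 t

theorem tbF_eq : twistedD4 K q = twGroup good2_D4 T3_D4 T4_D4 T19_D4 (tbF hq hK) :=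
  (Classical.choose_spec (twistedD4_eq hq hK)).2.2

theorem tbF_ne : ∃ a : K, tbF hq hK a ≠ a := by
  by_contra hcon
  have hall : ∀ a : K, a ^ q = a := by
    intro a
    rw [← tbF_pow hq hK]
    by_contra h
    exact hcon ⟨a, h⟩
  have h1 : Nat.card {t : K // t ^ q = t} = q := card_pow_eq_self hq.two_le (by norm_num) hK
  have h2 : Nat.card {t : K // t ^ q = t} = Nat.card K :=
    Nat.card_congr (Equiv.subtypeUnivEquiv hall)
  rw [h2, Nat.card_eq_fintype_card, hK] at h1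
  have hq2 := hq.two_le
  have h3 : q * 4 ≤ q * (q * q) := Nat.mul_le_mul_left q (Nat.mul_le_mul hq2 hq2)
  have h4 : q ^ 3 = q * (q * q) := by ring
  omega

include hq hK in
theorem tb_card_gt : 4 < Fintype.card K := by
  rw [hK]
  have hq2 := hq.two_le
  have h3 : 2 * (2 * 2) ≤ q * (q * q) := Nat.mul_le_mul hq2 (Nat.mul_le_mul hq2 hq2)
  have h4 : q ^ 3 = q * (q * q) := by ring
  omega

theorem tb_coprime_char : Nat.Coprime (Fintype.card K - 1) (ringChar K) := by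
  have : CharP K (ringChar K) := ringChar.charP K
  obtain ⟨n, hp, hn⟩ := FiniteField.card K (ringChar K)
  rw [Nat.coprime_comm, Nat.Prime.coprime_iff_not_dvd hp]
  intro hdvd
  have h1 : ringChar K ∣ Fintype.card K := by
    rw [hn]
    exact dvd_pow_self _ n.ne_zero
  have hpos : 1 ≤ Fintype.card K := Fintype.card_pos
  have h2 : ringChar K ∣ 1 := by
    have := (Nat.dvd_sub h1 hdvd)
    rwa [Nat.sub_sub_self hpos] at this
  exact hp.one_lt.ne' (Nat.dvd_one.mp h2)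

/-- The abstract `³D₄` datum of `³D₄(q)`. -/
noncomputable def tdSysD4 : TdSys K ↥(twistedD4 K q) :=
  tdSysOf (twistedD4 K q) (tbF hq hK) (tbF_eq hq hK) (tbF_three hq hK) (tbF_ne hq hK)
    (tb_card_gt hq hK) (ringChar K) (ringChar.Nat.cast_ringChar) tb_coprime_char

theorem tdSysD4_σ (t : K) : (tdSysD4 hq hK).σ t = t ^ q := tbF_pow hq hK t

theorem tdSysD4_p : (tdSysD4 hq hK).p = ringChar K := rfl

theorem tdSysD4_xa (t : K) :
    (((tdSysD4 hq hK).xa t : ↥(twistedD4 K q)) : GL chevD4.Idx K) = tbXa (tdSysD4 hq hK).σ t := rfl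

theorem tdSysD4_xab (t : K) :
    (((tdSysD4 hq hK).xab t : ↥(twistedD4 K q)) : GL chevD4.Idx K) = tbXab (tdSysD4 hq hK).σ t :=
  rfl

theorem tdSysD4_x2ab (t : K) :
    (((tdSysD4 hq hK).x2ab t : ↥(twistedD4 K q)) : GL chevD4.Idx K) =
      tbX2ab (tdSysD4 hq hK).σ t := rfl

theorem tdSysD4_xma (t : K) :
    (((tdSysD4 hq hK).xma t : ↥(twistedD4 K q)) : GL chevD4.Idx K) = tbXma (tdSysD4 hq hK).σ t :=
  rfl

theorem tdSysD4_yb (w : K) :
    (((tdSysD4 hq hK).yb w : ↥(twistedD4 K q)) : GL chevD4.Idx K) = tbYb (tdSysD4 hq hK).σ w := rfl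

theorem tdSysD4_y3ab (w : K) :
    (((tdSysD4 hq hK).y3ab w : ↥(twistedD4 K q)) : GL chevD4.Idx K) =
      tbY3ab (tdSysD4 hq hK).σ w := rfl

theorem tdSysD4_y3a2b (w : K) :
    (((tdSysD4 hq hK).y3a2b w : ↥(twistedD4 K q)) : GL chevD4.Idx K) =
      tbY3a2b (tdSysD4 hq hK).σ w := rfl

theorem tdSysD4_ha (μ : K) :
    (((tdSysD4 hq hK).ha μ : ↥(twistedD4 K q)) : GL chevD4.Idx K) = tbHa (tdSysD4 hq hK).σ μ := rfl

theorem tdSysD4_hb {l : K} (hl : (tdSysD4 hq hK).σ l = l) :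
    (((tdSysD4 hq hK).hb l : ↥(twistedD4 K q)) : GL chevD4.Idx K) = tbHb l :=
  tbGhb_coe (twistedD4 K q) (tbF hq hK) (tbF_eq hq hK) hl

end final

end Cfsg.Agent.CtRecT
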