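import Mathlib
import Cfsg.Agent.CtRecT.TSysD4B
import Cfsg.Agent.Helper7.D4InvD
import Cfsg.Agent.Helper7.ChevTwU5
import Cfsg.Agent.Helper7.TdL

set_option autoImplicit false
set_option linter.unusedVariables false
set_option linter.unusedSectionVars false

/-!
S2110, piece P-B (U) (helper7): the normal form of the products
`xa t · yb w · xab s · (x2ab f · y3ab g · y3a2b h)` of twisted root elements of `³D₄`, uniqueness of the parameters (`TdSys.Uniq`),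
and: these products are exactly the elements of `U ⊓ ³D₄(q)`.
-/

namespace Cfsg.Agent.CtRecT

open Cfsg Cfsg.Lie Cfsg.Agent.Helper7.Chev Cfsg.Agent.Helper7.Td

variable {K : Type*} [Field K] (σ : K →+* K)

/-- the sorted form of the product of the six twisted root elements. -/
theorem tbu_nf (t w s f g h : K) :
    tbXa σ t * tbYb σ w * tbXab σ s * (tbX2ab σ f * tbY3ab σ g * tbY3a2b σ h) =
      tbW (σ (σ t)) (σ t) (w + σ w + σ (σ w)) (-(σ (σ s))) (-(σ s)) (-(σ f)) t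
        (s - t * (w + σ w + σ (σ w))) (σ (σ f) + σ (σ s) * t) (f + σ s * t)
        (σ f * t + (g + σ g + σ (σ g)))
        (σ f * s - σ f * t * (w + σ w + σ (σ w)) - σ s * σ (σ s) * t + (h + σ h + σ (σ h))) := by
  apply mul_right_cancel (b := tbW (K := K) 0 0 0 0 0 0 0 0 0 0 0 0)
  simp only [tbXa, tbXab, tbX2ab, tbYb, tbY3ab, tbY3a2b, tbW, mul_assoc, tb_pos_all, tb_merge,
    tb_merge']
  all_goals (apply tbW_congr)
  all_goals (try ring)

theorem tbu_tbW_eq_w12 (a12 a13 a14 a15 a16 a17 a18 a19 a20 a21 a22 a23 : K) :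
    tbW a12 a13 a14 a15 a16 a17 a18 a19 a20 a21 a22 a23 =
      w12 a12 a13 a14 a15 a16 a17 a18 a19 a20 a21 a22 a23 := rfl

/-- uniqueness of the parameters. -/
theorem tbu_uniq {t w s f g h t' w' s' f' g' h' : K}
    (e : tbXa σ t * tbYb σ w * tbXab σ s * (tbX2ab σ f * tbY3ab σ g * tbY3a2b σ h) =
      tbXa σ t' * tbYb σ w' * tbXab σ s' * (tbX2ab σ f' * tbY3ab σ g' * tbY3a2b σ h')) :
    t = t' ∧ w + σ w + σ (σ w) = w' + σ w' + σ (σ w') ∧ s = s' ∧ f = f' ∧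
      g + σ g + σ (σ g) = g' + σ g' + σ (σ g') ∧ h + σ h + σ (σ h) = h' + σ h' + σ (σ h') := by
  rw [tbu_nf, tbu_nf, tbu_tbW_eq_w12, tbu_tbW_eq_w12] at e
  obtain ⟨-, -, h14, -, -, -, h18, h19, -, h21, h22, h23⟩ := w12_inj e
  subst h18
  have hs : s = s' := by linear_combination h19 + t * h14
  subst hs
  have hf : f = f' := by linear_combination h21
  subst hf
  refine ⟨rfl, h14, rfl, rfl, ?_, ?_⟩
  · linear_combination h22
  · linear_combination h23 + σ f * t * h14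

theorem tbu_mem_U (t w s f g h : K) :
    tbXa σ t * tbYb σ w * tbXab σ s * (tbX2ab σ f * tbY3ab σ g * tbY3a2b σ h) ∈ chevD4.posUnipotent K := by
  rw [tbu_nf, tbu_tbW_eq_w12]
  exact w12_mem_U _ _ _ _ _ _ _ _ _ _ _ _

section sys

variable [Fintype K] {Gs : Subgroup (GL chevD4.Idx K)} (S : TdSys K ↥Gs)
  (hxa : ∀ t, ((S.xa t : ↥Gs) : GL chevD4.Idx K) = tbXa S.σ t)
  (hyb : ∀ w, ((S.yb w : ↥Gs) : GL chevD4.Idx K) = tbYb S.σ w)
  (hxab : ∀ t, ((S.xab t : ↥Gs) : GL chevD4.Idx K) = tbXab S.σ t)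
  (hx2ab : ∀ t, ((S.x2ab t : ↥Gs) : GL chevD4.Idx K) = tbX2ab S.σ t)
  (hy3ab : ∀ w, ((S.y3ab w : ↥Gs) : GL chevD4.Idx K) = tbY3ab S.σ w)
  (hy3a2b : ∀ w, ((S.y3a2b w : ↥Gs) : GL chevD4.Idx K) = tbY3a2b S.σ w)

include hxa hyb hxab hx2ab hy3ab hy3a2b

theorem tbu_coe (t w s f g h : K) :
    ((S.xa t * S.yb w * S.xab s * S.m3 f g h : ↥Gs) : GL chevD4.Idx K) =
      tbXa S.σ t * tbYb S.σ w * tbXab S.σ s * (tbX2ab S.σ f * tbY3ab S.σ g * tbY3a2b S.σ h) := by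
  unfold TdSys.m3
  simp only [Subgroup.coe_mul, hxa, hyb, hxab, hx2ab, hy3ab, hy3a2b]

/-- **`TdSys.Uniq` for a system whose root elements are the twisted root elements of `³D₄`.** -/
theorem tbu_Uniq : S.Uniq := by
  intro t w s f g h t' w' s' f' g' h' e
  have e' := congrArg (fun x : ↥Gs => (x : GL chevD4.Idx K)) e
  simp only [tbu_coe S hxa hyb hxab hx2ab hy3ab hy3a2b] at e'
  exact tbu_uniq S.σ e'

end sys

/-- **the products of the twisted root elements are exactly the elements of `U ⊓ ³D₄(q)`.** -/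
theorem tbu_mem_iff [Fintype K] {q : ℕ} (hq : IsPrimePow q) (hK : Fintype.card K = q ^ 3)
    (S : TdSys K ↥(twistedD4 K q)) (hσ : ∀ t, S.σ t = t ^ q)
    (hxa : ∀ t, ((S.xa t : ↥(twistedD4 K q)) : GL chevD4.Idx K) = tbXa S.σ t)
    (hyb : ∀ w, ((S.yb w : ↥(twistedD4 K q)) : GL chevD4.Idx K) = tbYb S.σ w)
    (hxab : ∀ t, ((S.xab t : ↥(twistedD4 K q)) : GL chevD4.Idx K) = tbXab S.σ t)
    (hx2ab : ∀ t, ((S.x2ab t : ↥(twistedD4 K q)) : GL chevD4.Idx K) = tbX2ab S.σ t)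
    (hy3ab : ∀ w, ((S.y3ab w : ↥(twistedD4 K q)) : GL chevD4.Idx K) = tbY3ab S.σ w)
    (hy3a2b : ∀ w, ((S.y3a2b w : ↥(twistedD4 K q)) : GL chevD4.Idx K) = tbY3a2b S.σ w)
    (g : ↥(twistedD4 K q)) :
    g ∈ (chevD4.posUnipotent K ⊓ twistedD4 K q).subgroupOf (twistedD4 K q) ↔
      ∃ t w s f g' h : K, g = S.xa t * S.yb w * S.xab s * S.m3 f g' h := by
  have hu : S.Uniq := tbu_Uniq S hxa hyb hxab hx2ab hy3ab hy3a2b
  have hfin : Finite ↥((chevD4.posUnipotent K ⊓ twistedD4 K q).subgroupOf (twistedD4 K q)) :=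
    inferInstance
  refine hu.mem_iff_of_card _ ?_ hK ?_ ?_ g
  · intro t w s f g' h
    rw [Subgroup.mem_subgroupOf]
    refine ⟨?_, Subtype.coe_prop _⟩
    rw [tbu_coe S hxa hyb hxab hx2ab hy3ab hy3a2b]
    exact tbu_mem_U S.σ t w s f g' h
  · refine Eq.trans (Nat.card_congr (Equiv.subtypeEquivRight ?_))
      (card_pow_eq_self hq.two_le (by norm_num : 0 < 3) hK)
    intro c
    rw [hσ]
  · have e := Subgroup.subgroupOfEquivOfLe
      (inf_le_right : chevD4.posUnipotent K ⊓ twistedD4 K q ≤ twistedD4 K q)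
    rw [Nat.card_congr e.toEquiv, twD4_card_U hq hK]

end Cfsg.Agent.CtRecT
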