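import Mathlib
import Cfsg.Agent.CtRecT.TSysD4U
import Cfsg.Agent.Helper7.ChevTwO5

set_option autoImplicit false
set_option linter.unusedVariables false
set_option linter.unusedSectionVars false

/-!
S2110, Theorem I for `³D₄(q)` (helper7): the kernel of a finite stem extension of `³D₄(q)` has order prime to the characteristic.
`tti_thmI_of` is stated for any packaging `S : TdSys K ↥Gs` (`Gs = twistedD4 K q`) of the twisted root elements `tbXa, …`.
-/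

namespace Cfsg.Agent.CtRecT

open Cfsg Cfsg.Lie Cfsg.Agent.Helper7.Chev Cfsg.Agent.Helper7.Td

variable {K : Type*} [Field K] [Fintype K]

/-- the index of `U ⊓ ³D₄(q)` in `³D₄(q)`. -/
theorem tti_index {q : ℕ} (hq : IsPrimePow q) (hK : Fintype.card K = q ^ 3) :
    ((chevD4.posUnipotent K ⊓ twistedD4 K q).subgroupOf (twistedD4 K q)).index =
      (q ^ 2 - 1) * (q ^ 6 - 1) * (q ^ 8 + q ^ 4 + 1) := by
  have h1 := ((chevD4.posUnipotent K ⊓ twistedD4 K q).subgroupOf (twistedD4 K q)).card_mul_index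
  have e := Subgroup.subgroupOfEquivOfLe
    (inf_le_right : chevD4.posUnipotent K ⊓ twistedD4 K q ≤ twistedD4 K q)
  rw [Nat.card_congr e.toEquiv, twD4_card_U hq hK, twD4_card hq hK] at h1
  have hpos : 0 < q ^ 12 := pow_pos hq.pos 12
  apply Nat.eq_of_mul_eq_mul_left hpos
  rw [h1]
  ring

theorem tti_not_dvd {p q : ℕ} (hp : p.Prime) (hpq : p ∣ q) (hq0 : 0 < q) :
    ¬ p ∣ (q ^ 2 - 1) * (q ^ 6 - 1) * (q ^ 8 + q ^ 4 + 1) := by
  have hp1 : ¬ p ∣ 1 := hp.one_lt.ne' ∘ Nat.dvd_one.mp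
  have key : ∀ n : ℕ, 0 < n → ¬ p ∣ q ^ n - 1 := by
    intro n hn hd
    have h1 : p ∣ q ^ n := dvd_pow hpq hn.ne'
    have h2 : 1 ≤ q ^ n := Nat.one_le_pow _ _ hq0
    have h3 : p ∣ q ^ n - (q ^ n - 1) := Nat.dvd_sub h1 hd
    rw [Nat.sub_sub_self h2] at h3
    exact hp1 h3
  intro hd
  rcases (Nat.Prime.dvd_mul hp).mp hd with hd | hd
  · rcases (Nat.Prime.dvd_mul hp).mp hd with hd | hd
    · exact key 2 (by norm_num) hd
    · exact key 6 (by norm_num) hd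
  · have h1 : p ∣ q ^ 8 + q ^ 4 := dvd_add (dvd_pow hpq (by norm_num)) (dvd_pow hpq (by norm_num))
    exact hp1 ((Nat.dvd_add_right h1).mp hd)

/-- the characteristic is a prime dividing `q`. -/
theorem tti_char {q : ℕ} (hK : Fintype.card K = q ^ 3) : (ringChar K).Prime ∧ ringChar K ∣ q := by
  obtain ⟨n, hp, hn⟩ := FiniteField.card K (ringChar K)
  refine ⟨hp, ?_⟩
  have h1 : ringChar K ∣ q ^ 3 := by
    rw [← hK, hn]
    exact dvd_pow_self _ n.ne_zero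
  exact hp.dvd_of_dvd_pow h1

/-- **Theorem I for `³D₄(q)`**, for any packaging of the twisted root elements as a `TdSys`. -/
theorem tti_thmI_of {q : ℕ} (hq : IsPrimePow q) (hK : Fintype.card K = q ^ 3)
    {Gs : Subgroup (GL chevD4.Idx K)} (hGs : Gs = twistedD4 K q) (S : TdSys K ↥Gs)
    (hσ : ∀ t, S.σ t = t ^ q)
    (hxa : ∀ t, ((S.xa t : ↥Gs) : GL chevD4.Idx K) = tbXa S.σ t)
    (hyb : ∀ w, ((S.yb w : ↥Gs) : GL chevD4.Idx K) = tbYb S.σ w)
    (hxab : ∀ t, ((S.xab t : ↥Gs) : GL chevD4.Idx K) = tbXab S.σ t)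
    (hx2ab : ∀ t, ((S.x2ab t : ↥Gs) : GL chevD4.Idx K) = tbX2ab S.σ t)
    (hy3ab : ∀ w, ((S.y3ab w : ↥Gs) : GL chevD4.Idx K) = tbY3ab S.σ w)
    (hy3a2b : ∀ w, ((S.y3a2b w : ↥Gs) : GL chevD4.Idx K) = tbY3a2b S.σ w)
    (hperf : commutator ↥Gs = ⊤)
    {Γ : Type*} [Group Γ] [Finite Γ] (ψ : Γ →* ↥Gs) (hs : Function.Surjective ψ)
    (hc : ψ.ker ≤ Subgroup.center Γ) (hk : ψ.ker ≤ commutator Γ) :
    (Nat.card ψ.ker).Coprime (ringChar K) := by
  subst hGs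
  obtain ⟨hp, hpq⟩ := tti_char hK
  have hu : S.Uniq := tbu_Uniq S hxa hyb hxab hx2ab hy3ab hy3a2b
  have hfin : Finite ↥(twistedD4 K q) := inferInstance
  have hfi : ((chevD4.posUnipotent K ⊓ twistedD4 K q).subgroupOf (twistedD4 K q)).FiniteIndex :=
    inferInstance
  refine hu.card_ker_coprime ψ hs hc hk hperf
    ((chevD4.posUnipotent K ⊓ twistedD4 K q).subgroupOf (twistedD4 K q))
    (tbu_mem_iff hq hK S hσ hxa hyb hxab hx2ab hy3ab hy3a2b) hp ?_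
  rw [tti_index hq hK]
  exact tti_not_dvd hp hpq hq.pos

end Cfsg.Agent.CtRecT
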