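import Mathlib
import Cfsg.Agent.CtRecT.TThmI
import Cfsg.Agent.CtRecT.TSysD4F

set_option autoImplicit false
set_option linter.unusedVariables false
set_option linter.unusedSectionVars false

/-!
S2110, Theorem I for `³D₄(q)`, instantiated (helper7): `tti_thmI_of` (`TThmI.lean`) with helper3's packaging `tdSysD4`
(`TSysD4F.lean`).  The kernel of a finite stem extension of `twistedD4 K q` (resp. of its realisation `twGroup … f`) has order
prime to the characteristic of `K`.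
-/

namespace Cfsg.Agent.CtRecT

open Cfsg Cfsg.Lie Cfsg.Agent.Helper7.Chev Cfsg.Agent.Helper7.Td

variable {K : Type*} [Field K] [Fintype K]

/-- `³D₄(q)` is perfect. -/
theorem tti_perfect {q : ℕ} (hq : IsPrimePow q) (hK : Fintype.card K = q ^ 3) :
    commutator ↥(twistedD4 K q) = ⊤ := by
  obtain ⟨f, hf, hf3, e⟩ := twistedD4_eq hq hK
  rw [e]
  exact twD4_perfect (by have := tb_card_gt hq hK; omega) f hf3

/-- **Theorem I for `³D₄(q)`**: the kernel of a finite stem extension of `twistedD4 K q` has order prime to the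
characteristic of `K`. -/
theorem tti_thmI {q : ℕ} (hq : IsPrimePow q) (hK : Fintype.card K = q ^ 3)
    {Γ : Type*} [Group Γ] [Finite Γ] (ψ : Γ →* ↥(twistedD4 K q)) (hs : Function.Surjective ψ)
    (hc : ψ.ker ≤ Subgroup.center Γ) (hk : ψ.ker ≤ commutator Γ) :
    (Nat.card ψ.ker).Coprime (ringChar K) :=
  tti_thmI_of hq hK (Gs := twistedD4 K q) rfl (tdSysD4 hq hK) (tdSysD4_σ hq hK) (tdSysD4_xa hq hK)
    (tdSysD4_yb hq hK) (tdSysD4_xab hq hK) (tdSysD4_x2ab hq hK) (tdSysD4_y3ab hq hK)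
    (tdSysD4_y3a2b hq hK) (tti_perfect hq hK) ψ hs hc hk

/-- Theorem I in the realisation `twGroup good2_D4 T3_D4 T4_D4 T19_D4 f` of `³D₄(q)`. -/
theorem tti_thmI_tw {q : ℕ} (hq : IsPrimePow q) (hK : Fintype.card K = q ^ 3) (f : K ≃+* K)
    (hG : twistedD4 K q = twGroup good2_D4 T3_D4 T4_D4 T19_D4 f)
    {Γ : Type*} [Group Γ] [Finite Γ] (ψ : Γ →* ↥(twGroup good2_D4 T3_D4 T4_D4 T19_D4 f))
    (hs : Function.Surjective ψ) (hc : ψ.ker ≤ Subgroup.center Γ) (hk : ψ.ker ≤ commutator Γ) :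
    (Nat.card ψ.ker).Coprime (ringChar K) := by
  revert ψ
  rw [← hG]
  intro ψ hs hc hk
  exact tti_thmI hq hK ψ hs hc hk

end Cfsg.Agent.CtRecT
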